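import Mathlib

/-!
# The arithmetical tests for the principal 11-block of order 95040

A list `l` holds the signed degrees `ε d` of the four non-trivial non-exceptional characters.  A row
`(C, v)` for `l` holds the order of the centraliser and the values of these characters at an element of
order prime to 11.
-/

set_option autoImplicit false

namespace Cfsg.Agent.Order95040

/-- The degree of the exceptional characters. -/
def yOf (l : List ℤ) : ℕ := (1 + l.sum).natAbs

/-- The sign of the exceptional characters. -/
def signY (l : List ℤ) : ℤ := bif decide (0 < 1 + l.sum) then 1 else -1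

/-- The sign in a signed degree. -/
def sgnZ (z : ℤ) : ℤ := bif decide (0 < z) then 1 else -1

/-- The value of the exceptional characters. -/
def wOf (l v : List ℤ) : ℤ :=
  signY l * (1 + (List.zipWith (fun z a => sgnZ z * a) l v).sum)

/-- The common denominator. -/
def denOf (l : List ℤ) : ℕ := yOf l * (l.map Int.natAbs).prod

/-- `D (1 + ∑ v / d)`. -/
def linOf (l v : List ℤ) : ℤ :=
  (denOf l : ℤ) + (List.zipWith (fun z a => a * ((denOf l / z.natAbs : ℕ) : ℤ)) l v).sum

/-- `D (1 + ∑ ε v² / d)`. -/
def quadOf (l v : List ℤ) : ℤ :=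
  (denOf l : ℤ) + (List.zipWith (fun z a => sgnZ z * a * a * ((denOf l / z.natAbs : ℕ) : ℤ)) l v).sum

/-- The number of factorisations of an element of order 11 into conjugates of `g` and of an element of
order 11, up to the known factor. -/
def posTest (C : ℕ) (l v : List ℤ) (k : ℤ) : Bool :=
  let A := linOf l v + k * wOf l v * ((denOf l / yOf l : ℕ) : ℤ)
  decide (0 ≤ A) && decide (8640 * A % ((C * denOf l : ℕ) : ℤ) = 0)

/-- `D (1 + ∑ ε v² / d - ζ w² / y)`. -/
def pairNum (l v : List ℤ) : ℤ :=
  quadOf l v - signY l * wOf l v * wOf l v * ((denOf l / yOf l : ℕ) : ℤ)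

/-- Integrality, size, congruence and the squares. -/
def baseTest (md : ℕ) (C : ℕ) (l v : List ℤ) : Bool :=
  decide ((wOf l v).natAbs < yOf l) && decide (((yOf l : ℤ) - wOf l v) % (md : ℤ) = 0) &&
    decide (((95040 / C : ℕ) : ℤ) * wOf l v % (yOf l : ℤ) = 0) &&
      decide (1 + (v.map fun a => a * a).sum + 2 * (wOf l v * wOf l v) ≤ (C : ℤ))

/-- The possible values of one character. -/
def valueCands (md q : ℕ) (C : ℕ) (z : ℤ) : List ℤ :=
  let d := z.natAbs
  let s := d / Nat.gcd (95040 / C) d
  let k := 93 / s
  ((List.range (2 * k + 1)).map fun j : ℕ => (((j : ℤ) - k) * s)).filter fun a =>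
    decide (a * a ≤ (C : ℤ)) && decide (a.natAbs < d) && decide (((d : ℤ) - a) % (md : ℤ) = 0) &&
      (decide (a = 0) || decide (q = 0) || decide (d % q ≠ 0))

/-- All rows of candidates. -/
def valueRows (md q C : ℕ) : List ℤ → List (List ℤ)
  | [] => [[]]
  | z :: l => (valueCands md q C z).flatMap fun a => (valueRows md q C l).map (a :: ·)

/-- An involution. -/
def invTest (C : ℕ) (l v : List ℤ) : Bool :=
  baseTest 4 C l v && posTest C l v 6 && posTest C l v (-5) && decide (pairNum l v = 0)

/-- An element of order three. -/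
def threeTest (C : ℕ) (l v : List ℤ) : Bool :=
  baseTest 3 C l v && decide (0 ≤ pairNum l v) &&
    decide (95040 * pairNum l v % ((C * C * denOf l : ℕ) : ℤ) = 0)

/-- An element of order five. -/
def fiveTest (C : ℕ) (l v : List ℤ) : Bool :=
  baseTest 5 C l v && posTest C l v 6 && posTest C l v (-5)

/-- The degrees of the non-exceptional characters, with signs. -/
def degCands : List ℤ := [-120, -54, -32, -10, 12, 45, 144]

/-- The condition on the degrees. -/
def optTest (l : List ℤ) : Bool :=
  decide (2 ≤ yOf l) && decide (8640 % yOf l = 0) && decide ((1 + l.sum - 5) % 11 = 0) &&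
    decide (1 + (l.map fun z => z * z).sum + 2 * ((yOf l : ℤ) * yOf l) ≤ 95040)

/-- The non-decreasing lists of candidates. -/
def optLists : List (List ℤ) :=
  degCands.flatMap fun a => degCands.flatMap fun b => degCands.flatMap fun c => degCands.flatMap fun d =>
    bif decide (a ≤ b) && decide (b ≤ c) && decide (c ≤ d) && optTest [a, b, c, d] then [[a, b, c, d]] else []

/-- The degrees that occur. -/
def theDegs : List ℤ := [-120, -54, 45, 144]

/-- Centraliser orders that are multiples of `k`. -/
def centOrders (k : ℕ) : List ℕ :=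
  ((List.range (8640 / k)).map fun i => k * (i + 1)).filter fun C => decide (8640 % C = 0)

theorem scan_ten : ∀ l ∈ optLists, ∀ C ∈ centOrders 10, ∀ v ∈ valueRows 4 0 C l,
    invTest C l v = true → l = theDegs ∧ (C = 120 ∨ C = 240) := by decide +kernel

theorem scan_inv : ∀ C ∈ centOrders 2, ∀ v ∈ valueRows 4 0 C theDegs, invTest C theDegs v = true →
    (C = 192 ∧ v = [-8, 6, -3, 0]) ∨ ((C = 120 ∨ C = 240) ∧ v = [0, 6, 5, 4]) := by decide +kernel

theorem scan_three : ∀ C ∈ centOrders 36, ∀ v ∈ valueRows 3 27 C theDegs,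
    threeTest C theDegs v = true →
      (C = 36 ∧ (v = [0, 0, -3, 3] ∨ v = [0, 0, 3, -3])) ∨ (C = 72 ∧ v = [0, 0, 3, -6]) := by
  decide +kernel

theorem scan_five : ∀ C ∈ centOrders 5, ∀ v ∈ valueRows 5 5 C theDegs, fiveTest C theDegs v = true →
    C = 5 ∨ C = 10 ∨ C = 20 ∨ C = 180 := by decide +kernel

end Cfsg.Agent.Order95040
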