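import Cfsg.Agent.Lib.Order95040.Elem
import Cfsg.Agent.Lib.Order95040.Tests
import Cfsg.Agent.Lib.Order7920.Values
import Cfsg.Agent.Lib.G2TwoRecog.Values
import Cfsg.Agent.Lib.DefectOne.SelfCent
import Cfsg.Agent.Lib.NineTwoQ.PrimeSide

/-!
# The principal 11-block of a simple group of order 95040
-/

namespace Cfsg.Agent.Order95040

open scoped ComplexConjugate
open Cfsg Subgroup

set_option linter.style.haveILetI false

universe u

variable {G : Type u} [Group G] [Fintype G] [IsSimpleGroup G]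

/-- The data of the principal 11-block at an element `x` of order 11. -/
structure Shape (x : G) where
  z : Fin 4 → ℤ
  opt : List.ofFn z ∈ optLists
  chi : Fin 4 → IrrCharacter G
  inj : Function.Injective chi
  th : IrrCharacter G
  th' : IrrCharacter G
  th_ne : th ≠ th'
  chi_ne : ∀ i, chi i ≠ Char.trivialChar G ∧ chi i ≠ th ∧ chi i ≠ th'
  th_triv : th ≠ Char.trivialChar G ∧ th' ≠ Char.trivialChar G
  deg : ∀ i, Char.degree (chi i) = (z i).natAbs
  deg_th : Char.degree th = yOf (List.ofFn z) ∧ Char.degree th' = yOf (List.ofFn z)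
  val : ∀ i, (chi i).1 x = sgnZ (z i)
  rel : ∀ g, ¬ 11 ∣ orderOf g →
    (signY (List.ofFn z) : ℂ) * th.1 g = 1 + ∑ i, (sgnZ (z i) : ℂ) * (chi i).1 g
  agree : ∀ g, ¬ 11 ∣ orderOf g → th'.1 g = th.1 g
  sum_th : th.1 x + th'.1 x = -(signY (List.ofFn z) : ℂ)
  sum_norm : th.1 x * conj (th.1 x) + th'.1 x * conj (th'.1 x) = 6
  sum_sq : th.1 x * th.1 x + th'.1 x * th'.1 x = -5
  vanish : ∀ χ : IrrCharacter G, χ ≠ Char.trivialChar G → (∀ i, χ ≠ chi i) → χ ≠ th → χ ≠ th' →
    χ.1 x = 0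

/-- Signed degrees of non-exceptional characters. -/
theorem degree_cand {n : ℕ} (hn : n ∣ 8640) (hsq : n * n ≤ 95040) (h1 : n ≠ 1) {e : ℤ}
    (he : e = 1 ∨ e = -1) (hmod : ((n : ℤ) - e) % 11 = 0) :
    e * n ∈ degCands ∧ sgnZ (e * n) = e ∧ (e * n).natAbs = n := by
  have key : ∀ n ∈ Nat.divisors 8640, n * n ≤ 95040 → n ≠ 1 →
      (((n : ℤ) - 1) % 11 = 0 → (1 : ℤ) * n ∈ degCands ∧ sgnZ (1 * n) = 1 ∧ ((1 : ℤ) * n).natAbs = n) ∧
      (((n : ℤ) - -1) % 11 = 0 →
        (-1 : ℤ) * n ∈ degCands ∧ sgnZ (-1 * n) = -1 ∧ ((-1 : ℤ) * n).natAbs = n) := by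
    decide +kernel
  have := key n (Nat.mem_divisors.2 ⟨hn, by norm_num⟩) hsq h1
  rcases he with rfl | rfl
  · exact this.1 hmod
  · exact this.2 hmod

theorem degCands_ne_zero : ∀ a ∈ degCands, a ≠ 0 := by decide

theorem mem_optLists {a b c d : ℤ} (ha : a ∈ degCands) (hb : b ∈ degCands) (hc : c ∈ degCands)
    (hd : d ∈ degCands) (hab : a ≤ b) (hbc : b ≤ c) (hcd : c ≤ d) (h : optTest [a, b, c, d] = true) :
    [a, b, c, d] ∈ optLists := by
  simp only [optLists, List.mem_flatMap]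
  exact ⟨a, ha, b, hb, c, hc, d, hd, by simp [hab, hbc, hcd, h]⟩

set_option maxHeartbeats 1000000 in
theorem exists_shape (hG : Nat.card G = 95040) {x : G} (hx : orderOf x = 11) :
    Nonempty (Shape x) := by
  classical
  haveI : Fact (Nat.Prime 11) := ⟨by norm_num⟩
  obtain ⟨M, hM⟩ := CharInt.exists_isPModular_of_prime (q := 11) (by norm_num)
  haveI := hM.2.1
  obtain ⟨P, hP, hPs⟩ := exists_sylow (factorization_eleven hG) hx
  obtain ⟨hC, hN⟩ := eleven hG hx
  have hPc : Nat.card (P : Subgroup G) = 11 := by rw [hP, Nat.card_zpowers, hx]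
  have hsc : DefectOne.SelfCent P := ⟨hPc, by
    rw [hP, Order7920.centralizer_zpowers]
    exact (eq_of_le_of_card_ge (zpowers_le.2 (Order7920.mem_C.2 rfl))
      (by rw [hC, Nat.card_zpowers, hx])).symm⟩
  have hrel : (centralizer ((P : Subgroup G) : Set G)).relIndex
      (normalizer ((P : Subgroup G) : Set G)) = 5 := by
    rw [hP, Order7920.centralizer_zpowers]
    have e := relIndex_mul_relIndex (H := ⊥) (K := cent x) (L := normalizer (zpowers x : Set G)) bot_le
      (Order7920.C_le_N x)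
    rw [relIndex_bot_left, relIndex_bot_left, hC, hN] at e
    change 11 * (cent x).relIndex (normalizer (zpowers x : Set G)) = 55 at e
    change (cent x).relIndex (normalizer (zpowers x : Set G)) = 5
    omega
  obtain ⟨S⟩ := DefectOne.primeShape hM.2.2 hPc hrel
  set T := Char.trivialChar G with hTdef
  have hna := noncomm hG
  have hxP : x ∈ (P : Subgroup G) := hP ▸ mem_zpowers x
  have hx1 : x ≠ 1 := fun e => by rw [e, orderOf_one] at hx; norm_num at hx
  have hxP' : (⟨x, hxP⟩ : (P : Subgroup G)) ≠ 1 := fun e => hx1 (congrArg Subtype.val e)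
  have hTX : T ∈ S.X := NineTwoQ.trivial_mem_X hna S (by norm_num)
  have hεT : S.εX T = 1 := NineTwoQ.eX_trivial hsc S hTX
  have hR : (S.X.erase T).card = 4 := by rw [Finset.card_erase_of_mem hTX, S.cardX]
  let ce : Fin 4 ≃ {χ // χ ∈ S.X.erase T} :=
    ((S.X.erase T).equivFinOfCardEq hR).symm
  let z' : Fin 4 → ℤ := fun i => S.εX (ce i).1 * (Char.degree (ce i).1 : ℤ)
  let σ := Tuple.sort z'
  let z : Fin 4 → ℤ := z' ∘ σ
  let c : Fin 4 → IrrCharacter G := fun i => (ce (σ i)).1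
  have hcX : ∀ i, c i ∈ S.X := fun i => Finset.mem_of_mem_erase (ce (σ i)).2
  have hcT : ∀ i, c i ≠ T := fun i => Finset.ne_of_mem_erase (ce (σ i)).2
  have hdvd : ∀ χ : IrrCharacter G, ¬ 11 ∣ Char.degree χ → Char.degree χ ∣ 8640 := fun χ h => by
    have hd : Char.degree χ ∣ 11 * 8640 := by
      have := Char.degree_dvd_natCard χ
      rwa [hG] at this
    exact ((Nat.Prime.coprime_iff_not_dvd (by norm_num)).2 h).symm.dvd_of_dvd_mul_left hd
  have hsq : ∀ s : Finset (IrrCharacter G), ∑ χ ∈ s, Char.degree χ ^ 2 ≤ 95040 := fun s => by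
    rw [← hG, ← Char.sum_degree_sq]
    exact Finset.sum_le_sum_of_subset (Finset.subset_univ _)
  have hne1 : ∀ χ : IrrCharacter G, χ ≠ T → Char.degree χ ≠ 1 := fun χ h h1 => h <|
    Blocks.eq_trivial_of_degree_one hna χ (by rw [Char.apply_one_eq_degree, h1, Nat.cast_one])
  have hsingle : ∀ χ : IrrCharacter G, Char.degree χ * Char.degree χ ≤ 95040 := fun χ => by
    simpa [pow_two] using hsq {χ}
  have hz : ∀ i, z i ∈ degCands ∧ sgnZ (z i) = S.εX (c i) ∧ (z i).natAbs = Char.degree (c i) := by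
    intro i
    refine degree_cand (hdvd _ (NineTwoQ.not_dvd_degree_X S (hcX i))) (hsingle _) (hne1 _ (hcT i))
      (S.hεX _ (hcX i)) ?_
    have := Int.ModEq.eq (S.X_deg' (hcX i))
    simp only [c] at this ⊢
    omega
  have hYc : S.Y.card = 2 := by rw [S.cardY]
  obtain ⟨θ, θ', hθθ, hY⟩ := Finset.card_eq_two.1 hYc
  have hθ : θ ∈ S.Y := by rw [hY]; simp
  have hθ' : θ' ∈ S.Y := by rw [hY]; simp
  have hsumX : ∀ f : IrrCharacter G → ℂ, ∑ χ ∈ S.X, f χ = f T + ∑ i, f (c i) := fun f => by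
    rw [← Finset.add_sum_erase _ _ hTX]
    congr 1
    rw [← Finset.sum_coe_sort (S.X.erase T) f]
    exact (Fintype.sum_equiv (σ.trans ce) _ _ fun i => rfl).symm
  set y := Char.degree θ
  have hS : S.ε * (y : ℤ) = 1 + (List.ofFn z).sum := by
    have h := S.relation θ hθ 1 (by simp [IsPRegular])
    rw [hsumX] at h
    simp only [Char.apply_one_eq_degree, hεT] at h
    rw [List.sum_ofFn]
    have hT1 : Char.degree T = 1 := NineTwoQ.degree_trivial
    rw [hT1] at h
    have h' : ((S.ε * (y : ℤ) : ℤ) : ℂ) = ((1 + ∑ i, z i : ℤ) : ℂ) := by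
      push_cast
      rw [h]
      simp only [z, z', c, Function.comp_apply]
      push_cast
      ring
    exact_mod_cast h'
  have hy0 : 0 < y := Char.degree_pos θ
  have hθT : ∀ η ∈ S.Y, η ≠ T := fun η hη e => Finset.disjoint_left.1 S.disj hTX (e ▸ hη)
  have hy2 : 2 ≤ y := by
    have := hne1 θ (hθT θ hθ)
    omega
  have hyOf : yOf (List.ofFn z) = y ∧ signY (List.ofFn z) = S.ε := by
    unfold yOf signY
    rw [← hS]
    rcases S.hε with e | e <;> rw [e] <;> constructor
    · simp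
    · simp [hy0]
    · simp
    · rw [decide_eq_false (by omega)]; rfl
  have hmon : Monotone z := Tuple.monotone_sort z'
  have hlist : List.ofFn z = [z 0, z 1, z 2, z 3] := by simp [List.ofFn_succ]
  have hopt : List.ofFn z ∈ optLists := by
    have hmem := fun i => (hz i).1
    have hsqs : 1 + (List.map (fun a => a * a) (List.ofFn z)).sum + 2 * ((y : ℤ) * y) ≤ 95040 := by
      have h := hsq (S.X ∪ S.Y)
      rw [Finset.sum_union S.disj, ← Finset.add_sum_erase _ _ hTX, hY, Finset.sum_pair hθθ,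
        show Char.degree T = 1 from NineTwoQ.degree_trivial, show Char.degree θ' = y from
          S.degree_eq hθ' hθ,
        ← Finset.sum_coe_sort (S.X.erase T)] at h
      rw [← Fintype.sum_equiv (σ.trans ce) (fun i => Char.degree (c i) ^ 2) _ fun i => rfl] at h
      have hzz : ∀ i, z i * z i = (Char.degree (c i) : ℤ) ^ 2 := fun i => by
        rw [← (hz i).2.2, ← Int.natAbs_mul_self]; push_cast; ring
      rw [List.map_ofFn, List.sum_ofFn]
      simp only [Function.comp_def, hzz]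
      have h' : ((1 ^ 2 + ∑ i, Char.degree (c i) ^ 2 + (y ^ 2 + y ^ 2) : ℕ) : ℤ) ≤ 95040 := by
        exact_mod_cast h
      push_cast at h'
      linarith
    have hymod : (8640 : ℕ) % y = 0 := by
      refine Nat.mod_eq_zero_of_dvd (hdvd θ (NineTwoQ.not_dvd_degree_Y S hθ (by norm_num)))
    have h11 : (1 + (List.ofFn z).sum - 5) % 11 = 0 := by
      rw [← hS]
      have h := Int.ModEq.eq (S.Y_deg' hθ)
      push_cast at h
      change ((y : ℤ)) % 11 = S.ε * 5 % 11 at h
      rcases S.hε with e | e <;> rw [e] at h ⊢ <;> omega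
    rw [hlist]
    refine mem_optLists (hmem 0) (hmem 1) (hmem 2) (hmem 3) (hmon (by decide)) (hmon (by decide))
      (hmon (by decide)) ?_
    rw [← hlist]
    simp only [optTest, hyOf.1, Bool.and_eq_true, decide_eq_true_eq]
    exact ⟨⟨⟨hy2, hymod⟩, h11⟩, hsqs⟩
  have hxinv : x⁻¹ ∈ (P : Subgroup G) := inv_mem hxP
  have hnr : ¬ IsConj x x⁻¹ := by
    intro h
    obtain ⟨g, hg⟩ := isConj_iff.1 h
    have hgN : g ∈ normalizer (zpowers x : Set G) := by
      refine mem_normalizer_iff.2 fun w => ?_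
      have hmap : (zpowers x).map (MulAut.conj g).toMonoidHom = zpowers x := by
        rw [MonoidHom.map_zpowers]
        show zpowers (g * x * g⁻¹) = _
        rw [hg, zpowers_inv]
      refine ⟨fun hy => hmap ▸ ⟨w, hy, rfl⟩, fun hy => ?_⟩
      obtain ⟨v, hv, hv'⟩ := hmap.symm ▸ hy
      have : v = w := by simpa using hv'
      exact this ▸ hv
    have h55 : g ^ 55 = 1 := by
      have := pow_card_eq_one' (x := (⟨g, hgN⟩ : normalizer (zpowers x : Set G)))
      rw [hN] at this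
      simpa using congrArg Subtype.val this
    have hk : g * x * g⁻¹ = x ^ 10 := by
      rw [hg, inv_eq_iff_mul_eq_one, ← pow_succ', show (10 + 1 : ℕ) = orderOf x by omega,
        pow_orderOf_eq_one]
    have h1 := Order7920.conj_pow_pow hk 55
    rw [h55, inv_one, one_mul, mul_one] at h1
    have h1' : x ^ 1 = x ^ 10 ^ 55 := by rw [pow_one]; exact h1
    rw [pow_eq_pow_iff_modEq, hx] at h1'
    revert h1'
    decide +kernel
  have hvan : ∀ χ : IrrCharacter G, χ ∉ S.X ∪ S.Y → χ.1 x = 0 := fun χ hχ =>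
    hsc.vanish hM.2.2 (fun h => hχ (Finset.mem_union.2 (S.mem_XY h))) hxP hx1
  have hvalX : ∀ χ ∈ S.X, χ.1 x = S.εX χ := fun χ hχ => S.X_val χ hχ ⟨x, hxP⟩ hxP'
  have hsplit : ∀ f : IrrCharacter G → ℂ, (∀ χ, χ ∉ S.X ∪ S.Y → f χ = 0) →
      ∑ χ, f χ = f T + (∑ i, f (c i)) + (f θ + f θ') := fun f hf => by
    rw [← Finset.sum_subset (Finset.subset_univ (S.X ∪ S.Y)) fun χ _ h => hf χ h,
      Finset.sum_union S.disj, hsumX, hY, Finset.sum_pair hθθ]
  refine ⟨{
    z := z, opt := hopt, chi := c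
    inj := fun i j h => σ.injective (ce.injective (Subtype.ext h))
    th := θ, th' := θ', th_ne := hθθ
    chi_ne := fun i => ⟨hcT i, fun e => Finset.disjoint_left.1 S.disj (hcX i) (e ▸ hθ),
      fun e => Finset.disjoint_left.1 S.disj (hcX i) (e ▸ hθ')⟩
    th_triv := ⟨hθT θ hθ, hθT θ' hθ'⟩
    deg := fun i => (hz i).2.2.symm
    deg_th := ⟨hyOf.1.symm, (S.degree_eq hθ' hθ).trans hyOf.1.symm⟩
    val := fun i => by rw [(hz i).2.1]; exact hvalX _ (hcX i)
    rel := fun g hg => by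
      rw [hyOf.2, S.relation θ hθ g hg, hsumX, hεT, Char.trivialChar_apply]
      simp only [(hz _).2.1]
      push_cast; ring
    agree := fun g hg => S.agree θ' hθ' θ hθ g hg
    sum_th := by
      rw [hyOf.2, ← hsc.sum_Y hM.2.2 S ⟨θ, hθ⟩ hxP hx1, hY, Finset.sum_pair hθθ]
    sum_norm := by
      have h := hsc.sum_Y_sq hM.2.2 S hxP hx1
      rw [hY, Finset.sum_pair hθθ] at h
      push_cast at h
      linear_combination h
    sum_sq := ?_
    vanish := fun χ h1 h2 h3 h4 => hvan χ fun hm => ?_ }⟩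
  · have h := Char.sum_irr_mul_conj x x⁻¹
    rw [if_neg hnr, hsplit _ fun χ hχ => by rw [hvan χ hχ, zero_mul]] at h
    simp only [CharInt.char_inv (Char.irr_isCharacter _), Complex.conj_conj] at h
    have hone : ∀ χ ∈ S.X, χ.1 x * χ.1 x = 1 := fun χ hχ => by
      rw [hvalX χ hχ]
      rcases S.hεX χ hχ with e | e <;> rw [e] <;> norm_num
    rw [hone T hTX, Finset.sum_congr rfl fun i _ => hone (c i) (hcX i)] at h
    simp at h
    linear_combination h
  · rcases Finset.mem_union.1 hm with hm | hm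
    · obtain ⟨i, hi⟩ : ∃ i, (ce (σ i)) = ⟨χ, Finset.mem_erase.2 ⟨h1, hm⟩⟩ :=
        (σ.trans ce).surjective _
      exact h2 i (congrArg Subtype.val hi).symm
    · rw [hY] at hm
      rcases Finset.mem_insert.1 hm with rfl | hm
      · exact h3 rfl
      · exact h4 (Finset.mem_singleton.1 hm)

end Cfsg.Agent.Order95040
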