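import Cfsg.Agent.Lib.DefectOne.PrincipalOne
import Cfsg.Agent.Lib.DefectOne.SelfCent
import Cfsg.Agent.Lib.Blocks.PrimePowerDegree
import Cfsg.Agent.Lib.SmallCofactor.Basic
import Cfsg.Agent.Lib.Clifford.CoprimeExtension
import Cfsg.Agent.Lib.CharInt.Eigen

/-!
# Principal block characters on the sections of a Sylow subgroup of order `p`

For `z` of prime order `r ≠ p` centralising the Sylow `p`-subgroup of a simple group, a
nontrivial character of the principal `p`-block has degree at least `2 p`, or divisible by `p`,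
and is not of full `r`-defect. For an involution `t` inverting `P`, the value at `t` is bounded
by the multiplicity of the trivial character on `P`.
-/

set_option autoImplicit false
set_option linter.style.haveILetI false
set_option linter.unusedSectionVars false

namespace Cfsg.Agent.Order95040

open Cfsg Cfsg.Agent Cfsg.Agent.DefectOne
open scoped ComplexConjugate Classical

universe u

variable {G : Type u} [Group G] [Fintype G] {p : ℕ} [hp : Fact p.Prime] {P : Sylow p G}
  {M : Ideal AlgInt} [M.IsMaximal]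

/-- A geometric sum of a root of unity. -/
theorem sum_pow_range {n : ℕ} (_hn : n ≠ 0) {x : ℂ} (hx : x ^ n = 1) :
    ∑ a ∈ Finset.range n, x ^ a = if x = 1 then (n : ℂ) else 0 := by
  split_ifs with h
  · simp [h]
  · rw [geom_sum_eq h, hx, sub_self, zero_div]

/-- The values of a principal block character are constant on the section of `y ∈ P - 1`. -/
theorem apply_mul_section (hpM : (p : AlgInt) ∈ M) (hP : Nat.card P = p) {χ : IrrCharacter G}
    (hχ : χ ∈ principalBlock M G) {y v : G} (hy : y ∈ (P : Subgroup G)) (hy1 : y ≠ 1)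
    (hc : Commute y v) (hv : ¬ p ∣ orderOf v) : χ.1 (y * v) = χ.1 y := by
  have hd := freeData_of_card_eq hP
  exact hd.apply_section hpM hχ ⟨v, rfl, hc, hd.exists_pow_orderOf hy, hv⟩ hy hy1

/-- A character of degree prime to `p` does not vanish on all of `P - 1`. -/
theorem exists_apply_ne_zero (hP : Nat.card P = p) {χ : IrrCharacter G}
    (hdeg : ¬ p ∣ Char.degree χ) : ∃ y ∈ (P : Subgroup G), y ≠ 1 ∧ χ.1 y ≠ 0 := by
  by_contra h
  push Not at h
  obtain ⟨n, hn⟩ := exists_sum_eq_mul hP χ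
  rw [Finset.sum_eq_single (1 : (P : Subgroup G))
    (fun y _ hy => h y y.2 fun e => hy (Subtype.ext e)) (by simp), OneMemClass.coe_one,
    Char.apply_one_eq_degree, ← Nat.cast_mul, Nat.cast_inj] at hn
  exact hdeg ⟨n, hn⟩

/-- No principal block character of degree prime to `p` has full `r`-defect degree when `r`
divides the order of the centraliser of `P`. -/
theorem not_defect_zero (hpM : (p : AlgInt) ∈ M) (hP : Nat.card P = p) {χ : IrrCharacter G}
    (hχ : χ ∈ principalBlock M G) (hdeg : ¬ p ∣ Char.degree χ) {r : ℕ} (hr : r.Prime) (hrp : r ≠ p)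
    (hrC : r ∣ Nat.card (Subgroup.centralizer ((P : Subgroup G) : Set G))) :
    (Char.degree χ).factorization r ≠ (Nat.card G).factorization r := by
  intro hfac
  haveI := Fact.mk hr
  obtain ⟨⟨z, hz⟩, hzo⟩ := exists_prime_orderOf_dvd_card' r hrC
  rw [Subgroup.orderOf_mk] at hzo
  obtain ⟨y, hy, hy1, hne⟩ := exists_apply_ne_zero hP hdeg
  have hc : Commute y z := Subgroup.mem_centralizer_iff.1 hz y hy
  have hyo : orderOf y = p := by
    rcases (Nat.dvd_prime hp.out).1 (hP ▸ Subgroup.orderOf_dvd_natCard _ hy : orderOf y ∣ p) with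
      h1 | h1
    · exact absurd (orderOf_eq_one_iff.1 h1) hy1
    · exact h1
  obtain ⟨M', hM'⟩ := CharInt.exists_isPModular_of_prime (q := r) hr
  haveI := hM'.2.1
  have h0 := Blocks.apply_eq_zero_of_defect_zero hM'.2.2 χ hfac (g := y * z) (by
    unfold IsPRegular
    rw [not_not, hc.orderOf_mul_eq_mul_orderOf_of_coprime
      (by rw [hyo, hzo]; exact (Nat.coprime_primes hp.out hr).2 (Ne.symm hrp)), hzo]
    exact dvd_mul_left r _)
  rw [apply_mul_section hpM hP hχ hy hy1 hc (by
    rw [hzo, Nat.prime_dvd_prime_iff_eq hp.out hr]; exact Ne.symm hrp)] at h0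
  exact hne h0

variable [IsSimpleGroup G]

/-- In a simple group, an element of prime order centralising `P` forces nontrivial principal
block degrees to be at least `2 p`. -/
theorem two_mul_le_degree (hna : ¬ IsMulCommutative G) (hpM : (p : AlgInt) ∈ M)
    (hP : Nat.card P = p) {χ : IrrCharacter G} (hχ : χ ∈ principalBlock M G)
    (hne : χ ≠ Char.trivialChar G) {r : ℕ} (hr : r.Prime) (hrp : r ≠ p)
    (hrC : r ∣ Nat.card (Subgroup.centralizer ((P : Subgroup G) : Set G))) :
    2 * p ≤ Char.degree χ := by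
  haveI := Fact.mk hr
  obtain ⟨⟨z, hz⟩, hzo⟩ := exists_prime_orderOf_dvd_card' r hrC
  rw [Subgroup.orderOf_mk] at hzo
  obtain ⟨y, hyP, hy1, hyo⟩ : ∃ y ∈ (P : Subgroup G), y ≠ 1 ∧ orderOf y = p := by
    obtain ⟨⟨y, hy⟩, hyo⟩ := exists_prime_orderOf_dvd_card' (G := (P : Subgroup G)) p
      (dvd_of_eq hP.symm)
    rw [Subgroup.orderOf_mk] at hyo
    exact ⟨y, hy, fun e => hp.out.ne_one (by rw [← hyo, e, orderOf_one]), hyo⟩
  have hc : Commute y z := Subgroup.mem_centralizer_iff.1 hz y hyP
  have hcop : Nat.Coprime p r := (Nat.coprime_primes hp.out hr).2 (Ne.symm hrp)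
  obtain ⟨e, he1, he2⟩ := Nat.chineseRemainder hcop 1 0
  obtain ⟨f, hf1, hf2⟩ := Nat.chineseRemainder hcop 0 1
  set w := y * z with hwdef
  have hyN : ∀ {k l : ℕ}, k ≡ l [MOD p] → y ^ k = y ^ l := fun h =>
    pow_eq_pow_iff_modEq.2 (by rwa [hyo])
  have hzN : ∀ {k l : ℕ}, k ≡ l [MOD r] → z ^ k = z ^ l := fun h =>
    pow_eq_pow_iff_modEq.2 (by rwa [hzo])
  have hwe : w ^ e = y := by
    rw [hwdef, hc.mul_pow, hyN he1, hzN he2, pow_one, pow_zero, mul_one]
  have hwf : w ^ f = z := by
    rw [hwdef, hc.mul_pow, hyN hf1, hzN hf2, pow_one, pow_zero, one_mul]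
  obtain ⟨d, ρ, hρ, hρχ⟩ := χ.2
  obtain ⟨b, μ, -, hb⟩ := CharInt.exists_eigenbasis_rho ρ w
  have hfr : Module.finrank ℂ (Fin d → ℂ) = Char.degree χ := by
    have h1 := Char.apply_one_eq_degree χ
    rw [← congrFun hρχ 1, Representation.char_one] at h1
    exact_mod_cast h1
  have hval : ∀ k, χ.1 (w ^ k) = ∑ i, μ i ^ k := fun k => by
    rw [← congrFun hρχ, Representation.character, map_pow]
    exact CharInt.trace_of_eigenbasis b (CharInt.pow_apply_eigenvector b hb k)
  set α := fun i => μ i ^ e with hα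
  set β := fun i => μ i ^ f with hβ
  have hbz : ∀ i, ρ z (b i) = β i • b i := fun i => by
    rw [← hwf, map_pow]; exact CharInt.pow_apply_eigenvector b hb f i
  have hby : ∀ i, ρ y (b i) = α i • b i := fun i => by
    rw [← hwe, map_pow]; exact CharInt.pow_apply_eigenvector b hb e i
  have hroot : ∀ (g : G) (c : ℂ) (i) (n : ℕ), g ^ n = 1 → ρ g (b i) = c • b i → c ^ n = 1 := by
    intro g c i n hn hgi
    have h1 : (ρ g ^ n) (b i) = c ^ n • b i := by
      clear hn
      induction n with
      | zero => simp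
      | succ k ih => rw [pow_succ', Module.End.mul_apply, ih, map_smul, hgi, smul_smul, ← pow_succ]
    rw [← map_pow, hn, map_one] at h1
    have h2 : ((1 : ℂ) - c ^ n) • b i = 0 := by rw [sub_smul, one_smul, ← h1]; simp
    rcases smul_eq_zero.1 h2 with h3 | h3
    · exact (sub_eq_zero.1 h3).symm
    · exact absurd h3 (b.ne_zero i)
  have hαp : ∀ i, α i ^ p = 1 := fun i =>
    hroot y _ i p (hyo ▸ pow_orderOf_eq_one y) (hby i)
  have hβr : ∀ i, β i ^ r = 1 := fun i =>
    hroot z _ i r (hzo ▸ pow_orderOf_eq_one z) (hbz i)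
  -- values on the sections
  have hyz : ∀ a j, χ.1 (y ^ a * z ^ j) = ∑ i, α i ^ a * β i ^ j := fun a j => by
    rw [← hwe, ← hwf, ← pow_mul, ← pow_mul, ← pow_add, hval]
    exact Finset.sum_congr rfl fun i _ => by simp only [hα, hβ]; rw [pow_add, pow_mul, pow_mul]
  set T := ∑ a ∈ Finset.Ico 1 p, χ.1 (y ^ a) with hT
  have hrel : ∀ j : ℕ, ∑ i, β i ^ j + T =
      (p : ℂ) * ∑ i ∈ Finset.univ.filter (fun i => α i = 1), β i ^ j := by
    intro j
    have h1 : ∑ a ∈ Finset.range p, χ.1 (y ^ a * z ^ j) =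
        (p : ℂ) * ∑ i ∈ Finset.univ.filter (fun i => α i = 1), β i ^ j := by
      simp only [hyz]
      rw [Finset.sum_comm, Finset.mul_sum, Finset.sum_filter]
      refine Finset.sum_congr rfl fun i _ => ?_
      rw [← Finset.sum_mul, sum_pow_range hp.out.ne_zero (hαp i)]
      split_ifs <;> simp
    rw [← h1, Finset.range_eq_Ico, Finset.sum_eq_sum_Ico_succ_bot hp.out.pos, hT]
    congr 1
    · rw [hyz]; simp
    · refine Finset.sum_congr rfl fun a ha => ?_
      obtain ⟨ha1, ha2⟩ := Finset.mem_Ico.1 ha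
      refine (apply_mul_section hpM hP hχ ((P : Subgroup G).pow_mem hyP a) (fun e0 => ?_)
        (hc.pow_pow a j) fun hd => ?_).symm
      · have := orderOf_dvd_of_pow_eq_one e0
        rw [hyo] at this
        have := Nat.le_of_dvd (by omega) this
        omega
      · have h2 : p ∣ r := hzo ▸ hd.trans (orderOf_pow_dvd j)
        exact hrp ((Nat.prime_dvd_prime_iff_eq hp.out hr).1 h2).symm
  -- the multiplicities of the eigenvalues `ν ≠ 1` of `z` are multiples of `p`
  have hmult : ∀ ν : ℂ, ν ^ r = 1 → ν ≠ 1 →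
      p ∣ (Finset.univ.filter fun i => β i = ν).card := by
    intro ν hν hν1
    have hν0 : ν ≠ 0 := fun h0 => by rw [h0, zero_pow hr.ne_zero] at hν; exact zero_ne_one hν
    have hs : ∀ i, ∑ j ∈ Finset.range r, β i ^ j * (ν⁻¹) ^ j = if β i = ν then (r : ℂ) else 0 := by
      intro i
      simp only [← mul_pow]
      rw [sum_pow_range hr.ne_zero (by rw [mul_pow, inv_pow, hν, hβr i, inv_one, mul_one])]
      simp only [← div_eq_mul_inv, div_eq_one_iff_eq hν0]
    have h0 : ∑ j ∈ Finset.range r, (ν⁻¹ : ℂ) ^ j = 0 := by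
      rw [sum_pow_range hr.ne_zero (by rw [inv_pow, hν, inv_one]), if_neg]
      simpa using hν1
    have hsum := congrArg (fun F : ℕ → ℂ => ∑ j ∈ Finset.range r, F j * (ν⁻¹) ^ j) (funext hrel)
    simp only [add_mul, Finset.sum_add_distrib, mul_assoc, ← Finset.mul_sum, Finset.sum_mul, h0,
      mul_zero, add_zero] at hsum
    rw [Finset.sum_comm (s := Finset.range r), Finset.sum_comm (s := Finset.range r)] at hsum
    simp only [hs, ← Finset.sum_filter, Finset.sum_const, nsmul_eq_mul, Finset.filter_filter]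
      at hsum
    refine ⟨(Finset.univ.filter fun i => α i = 1 ∧ β i = ν).card, ?_⟩
    have h2 : (r : ℂ) * ((Finset.univ.filter fun i => β i = ν).card : ℂ) =
        (r : ℂ) * ((p * (Finset.univ.filter fun i => α i = 1 ∧ β i = ν).card : ℕ) : ℂ) := by
      push_cast
      linear_combination hsum
    exact_mod_cast mul_left_cancel₀ (Nat.cast_ne_zero.2 hr.ne_zero) h2
  by_contra hlt
  push Not at hlt
  obtain ⟨c₀, d₀, hcd⟩ := SmallCofactor.exists_noncomm hna
  by_cases hall : ∀ i, β i = 1
  · have h1 : z = 1 := SmallCofactor.eq_one_of_apply_eq hna hne (by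
      rw [← hwf, hval, Char.apply_one_eq_degree]
      rw [Finset.sum_congr rfl fun i _ => (hall i : μ i ^ f = 1), Finset.sum_const, Finset.card_univ,
        Fintype.card_fin, hfr, nsmul_one])
    rw [h1, orderOf_one] at hzo
    exact hr.ne_one hzo.symm
  push Not at hall
  obtain ⟨i₀, hi₀⟩ := hall
  set S := Finset.univ.filter fun i => β i = β i₀ with hS
  have hScard : S.card = p := by
    obtain ⟨k, hk⟩ := hmult _ (hβr i₀) hi₀
    have hpos : 0 < S.card := Finset.card_pos.2 ⟨i₀, by simp [hS]⟩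
    have hle : S.card ≤ Char.degree χ := by
      refine (Finset.card_le_univ S).trans (le_of_eq ?_)
      rw [Fintype.card_fin, hfr]
    change S.card = p * k at hk
    have : k = 1 := by
      rcases k with _ | _ | k
      · omega
      · rfl
      · have : p * 2 ≤ p * (k + 1 + 1) := Nat.mul_le_mul_left p (by omega)
        omega
    rw [hk, this, mul_one]
  have hrest : ∀ i, i ∉ S → β i = 1 := by
    intro i hi
    by_contra hi1
    obtain ⟨k, hk⟩ := hmult _ (hβr i) hi1
    set S' := Finset.univ.filter fun j => β j = β i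
    have hpos : 0 < S'.card := Finset.card_pos.2 ⟨i, by simp [S']⟩
    have hk0 : k ≠ 0 := by rintro rfl; omega
    have hdis : Disjoint S S' := Finset.disjoint_left.2 fun j h1 h2 => hi (by
      simp only [hS, S', Finset.mem_filter, Finset.mem_univ, true_and] at h1 h2 ⊢
      exact h2.symm.trans h1)
    have hle := Finset.card_le_univ (S ∪ S')
    rw [Finset.card_union_of_disjoint hdis, hScard] at hle
    replace hle := hle.trans_eq ((Fintype.card_fin _).trans hfr)
    change S'.card = p * k at hk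
    have : p * 1 ≤ p * k := Nat.mul_le_mul_left p (by omega)
    omega
  have hdet : Clifford.detChar χ z = 1 := by
    rcases (MonoidHom.normal_ker (Clifford.detChar χ)).eq_bot_or_eq_top with h | h
    · exact absurd ((MonoidHom.ker_eq_bot_iff _).1 h (by rw [map_mul, map_mul, mul_comm])) hcd
    · exact MonoidHom.mem_ker.1 (h ▸ Subgroup.mem_top z)
  rw [Clifford.detChar_eq χ ρ hρχ, CharInt.det_of_eigenbasis b hbz,
    ← Finset.prod_subset (Finset.subset_univ S) (fun i _ hi => hrest i hi),
    Finset.prod_congr rfl (fun i hi => (Finset.mem_filter.1 hi).2), Finset.prod_const, hScard] at hdet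
  refine hi₀ ?_
  have hν : orderOf (β i₀) ∣ Nat.gcd p r :=
    Nat.dvd_gcd (orderOf_dvd_of_pow_eq_one hdet) (orderOf_dvd_of_pow_eq_one (hβr i₀))
  rw [hcop.gcd_eq_one, Nat.dvd_one, orderOf_eq_one_iff] at hν
  exact hν

omit [IsSimpleGroup G] in
/-- An involution inverting `P` has trace at most the multiplicity of the trivial character. -/
theorem trace_inverting (hP : Nat.card P = p) (hp2 : p ≠ 2) {t : G} (ht : t * t = 1)
    (hinv : ∀ y ∈ (P : Subgroup G), t * y * t⁻¹ = y⁻¹) (χ : IrrCharacter G) :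
    ∃ m k : ℕ, ∑ y : (P : Subgroup G), χ.1 y = (p : ℂ) * m ∧ k ≤ m ∧
      χ.1 t = 2 * (k : ℂ) - m := by
  obtain ⟨d, ρ, hρ, hρχ⟩ := χ.2
  have hpc : (p : ℂ) ≠ 0 := Nat.cast_ne_zero.2 hp.out.ne_zero
  set E : Module.End ℂ (Fin d → ℂ) := (p : ℂ)⁻¹ • ∑ y : (P : Subgroup G), ρ y with hE
  have hti : t⁻¹ = t := inv_eq_of_mul_eq_one_left ht
  have habs : ∀ x : (P : Subgroup G), ρ x * E = E := by
    intro x
    rw [hE, mul_smul_comm, Finset.mul_sum]
    congr 1
    exact Fintype.sum_equiv (Equiv.mulLeft x) _ _ fun y => by simp [← map_mul]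
  have hEE : E * E = E := by
    conv_lhs => arg 1; rw [hE]
    rw [smul_mul_assoc, Finset.sum_mul, Finset.sum_congr rfl fun x _ => habs x, Finset.sum_const,
      Finset.card_univ, ← Nat.card_eq_fintype_card, show Nat.card (P : Subgroup G) = p from hP,
      ← Nat.cast_smul_eq_nsmul ℂ, smul_smul, inv_mul_cancel₀ hpc, one_smul]
  have hcomm : E * ρ t = ρ t * E := by
    rw [hE, smul_mul_assoc, mul_smul_comm, Finset.sum_mul, Finset.mul_sum]
    congr 1
    refine Fintype.sum_equiv (Equiv.inv _) _ _ fun y => ?_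
    rw [← map_mul, ← map_mul, Equiv.inv_apply, InvMemClass.coe_inv,
      ← hinv (y : G) y.2, hti, ← mul_assoc, ← mul_assoc, ht, one_mul]
  set T := ρ t * E with hT
  have hTT : T * T = E := by
    rw [hT, mul_assoc, ← mul_assoc E, hcomm, mul_assoc, hEE, ← mul_assoc, ← map_mul, ht, map_one,
      one_mul]
  have hET : E * T = T := by rw [hT, ← mul_assoc, hcomm, mul_assoc, hEE]
  have hTE : T * E = T := by rw [hT, mul_assoc, hEE]
  have hidem : ∀ F : Module.End ℂ (Fin d → ℂ), F * F = F → ∃ k : ℕ,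
      LinearMap.trace ℂ (Fin d → ℂ) F = k := fun F hF =>
    ⟨_, ((LinearMap.isProj_range_iff_isIdempotentElem F).2 hF).trace⟩
  have htE : LinearMap.trace ℂ (Fin d → ℂ) E = (p : ℂ)⁻¹ * ∑ y : (P : Subgroup G), χ.1 y := by
    rw [hE, map_smul, map_sum, smul_eq_mul]
    simp only [← hρχ, Representation.character]
  have htT : LinearMap.trace ℂ (Fin d → ℂ) T = χ.1 t := by
    rw [hT, hE, mul_smul_comm, Finset.mul_sum, map_smul, map_sum, smul_eq_mul]
    rw [Finset.sum_congr rfl (g := fun _ => χ.1 t) fun y _ => ?_, Finset.sum_const, Finset.card_univ,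
      ← Nat.card_eq_fintype_card, show Nat.card (P : Subgroup G) = p from hP, nsmul_eq_mul,
      ← mul_assoc, inv_mul_cancel₀ hpc, one_mul]
    rw [← map_mul]
    refine (congrFun hρχ (t * (y : G))).trans ?_
    obtain ⟨i, hi⟩ := (hp.out.odd_of_ne_two hp2)
    set q : G := (y : G) ^ (i + 1)
    have hqP : q ∈ (P : Subgroup G) := (P : Subgroup G).pow_mem y.2 _
    have hq2 : q * q = (y : G) := by
      have hy : (y : G) ^ p = 1 := orderOf_dvd_iff_pow_eq_one.1
        ((Subgroup.orderOf_dvd_natCard _ y.2).trans (dvd_of_eq hP))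
      rw [← pow_add, show i + 1 + (i + 1) = p + 1 by omega, pow_succ, hy, one_mul]
    have heq : t * (y : G) = q⁻¹ * t * q⁻¹⁻¹ := by
      rw [inv_inv, ← hinv q hqP, ← hq2]
      rw [inv_mul_cancel_right, mul_assoc]
    rw [heq]
    exact Blocks.irr_classFun χ _ _
  obtain ⟨m, hm⟩ := hidem E hEE
  obtain ⟨k, hk⟩ := hidem ((2⁻¹ : ℂ) • (E + T)) (by
    rw [smul_mul_smul_comm, add_mul, mul_add, mul_add, hEE, hET, hTE, hTT,
      show E + T + (T + E) = (2 : ℂ) • (E + T) by rw [two_smul]; abel, smul_smul]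
    norm_num)
  obtain ⟨l, hl⟩ := hidem ((2⁻¹ : ℂ) • (E - T)) (by
    rw [smul_mul_smul_comm, sub_mul, mul_sub, mul_sub, hEE, hET, hTE, hTT,
      show E - T - (T - E) = (2 : ℂ) • (E - T) by rw [two_smul]; abel, smul_smul]
    norm_num)
  rw [map_smul, map_add, smul_eq_mul, htT, hm] at hk
  rw [map_smul, map_sub, smul_eq_mul, htT, hm] at hl
  have hkl : k + l = m := by
    have : ((k + l : ℕ) : ℂ) = m := by push_cast; linear_combination -hk - hl
    exact_mod_cast this
  refine ⟨m, k, ?_, by omega, by linear_combination 2 * hk⟩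
  rw [htE] at hm
  rw [← hm, ← mul_assoc, mul_inv_cancel₀ hpc, one_mul]

end Cfsg.Agent.Order95040
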