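import Cfsg.Agent.Lib.Order95040.BlockSection
import Cfsg.Agent.Lib.Char.ClassSum

/-!
# Counting products of two conjugates of an involution in a section

For a Sylow subgroup `P` of odd prime order, `y ∈ P - 1` and an involution `t`, the number of
pairs `(b₁, b₂)` such that `b₁ t b₁⁻¹ b₂ t b₂⁻¹` has `p`-part `y` is a square divided by `p`.
Against the principal block this makes `|C(y)| |G| Σ χ(t)² χ̄(y) / χ(1)` a square.
-/

set_option autoImplicit false
set_option linter.style.haveILetI false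
set_option linter.unusedSectionVars false

namespace Cfsg.Agent.Order95040

open Cfsg Cfsg.Agent Cfsg.Agent.DefectOne
open scoped ComplexConjugate Classical

universe u

variable {G : Type u} [Group G] [Fintype G] {p : ℕ} [hp : Fact p.Prime] {P : Sylow p G}
  {M : Ideal AlgInt} [M.IsMaximal]

/-- The principal block against the column at `y`. -/
theorem block_column (hpM : (p : AlgInt) ∈ M) (hP : Nat.card P = p) {y : G}
    (hy : y ∈ (P : Subgroup G)) (hy1 : y ≠ 1) {g x : G} (hg : IsPPart p g x) :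
    ∑ χ ∈ Finset.univ.filter (· ∈ principalBlock M G), χ.1 g * conj (χ.1 y) =
      if IsConj x y then (p : ℂ) else 0 := by
  have hd := freeData_of_card_eq hP
  split_ifs with hc
  · obtain ⟨c, hcy⟩ := isConj_iff.1 hc
    have hgc : IsPPart p (c * g * c⁻¹) y := hcy ▸ Blocks.IsPPart.conj hg c
    rw [← congrArg (fun n : ℕ => (n : ℂ)) hP, ← hd.sum_principal_sq hpM hy hy1]
    refine Finset.sum_congr rfl fun χ hχ => ?_
    rw [← hd.apply_section hpM (Finset.mem_filter.1 hχ).2 hgc hy hy1, Blocks.irr_classFun χ g c]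
  · exact sum_block_conj hpM hg (hd.isPPart_self hy) hc

/-- The structure constant of an involution into a section, as a square. -/
theorem exists_sq_class_sum (hpM : (p : AlgInt) ∈ M) (hP : Nat.card P = p) (hp2 : p ≠ 2)
    {t y : G} (ht : t * t = 1) (hy : y ∈ (P : Subgroup G)) (hy1 : y ≠ 1) :
    ∃ N : ℕ, (Nat.card (Subgroup.centralizer ({y} : Set G)) : ℂ) * (Nat.card G : ℂ) *
      ∑ χ ∈ Finset.univ.filter (· ∈ principalBlock M G),
        χ.1 t * χ.1 t * conj (χ.1 y) / χ.1 1 = (N : ℂ) ^ 2 := by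
  obtain ⟨cn, hcn⟩ : ∃ cn : G → G, ∀ b, cn b = b * t * b⁻¹ := ⟨_, fun _ => rfl⟩
  set A := Finset.univ.filter fun b => cn b * y * (cn b)⁻¹ = y⁻¹ with hA
  set S := Finset.univ.filter fun q : G × G => IsPPart p (cn q.1 * cn q.2) y with hS
  have hcn2 : ∀ b, cn b * cn b = 1 := fun b => by
    rw [hcn]
    rw [show b * t * b⁻¹ * (b * t * b⁻¹) = b * (t * t) * b⁻¹ by group, ht, mul_one, mul_inv_cancel]
  have hcni : ∀ b, (cn b)⁻¹ = cn b := fun b => inv_eq_of_mul_eq_one_left (hcn2 b)
  have hzy : Subgroup.zpowers y = (P : Subgroup G) := by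
    refine Subgroup.eq_of_le_of_card_ge (Subgroup.zpowers_le.2 hy) ?_
    rw [Nat.card_zpowers, hP]
    rcases (Nat.dvd_prime hp.out).1 (hP ▸ Subgroup.orderOf_dvd_natCard _ hy : orderOf y ∣ p) with
      h1 | h1
    · exact absurd (orderOf_eq_one_iff.1 h1) hy1
    · exact h1.ge
  have hpow : ∀ s ∈ (P : Subgroup G), s ^ p = 1 := fun s hs =>
    orderOf_dvd_iff_pow_eq_one.1 ((Subgroup.orderOf_dvd_natCard _ hs).trans (dvd_of_eq hP))
  obtain ⟨i, hi⟩ := hp.out.odd_of_ne_two hp2
  have hsqrt : ∀ s ∈ (P : Subgroup G), (s ^ (i + 1)) * s ^ (i + 1) = s := fun s hs => by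
    rw [← pow_add, show i + 1 + (i + 1) = p + 1 by omega, pow_succ, hpow s hs, one_mul]
  have hsqinj : ∀ s ∈ (P : Subgroup G), ∀ s' ∈ (P : Subgroup G), s * s = s' * s' → s = s' :=
    fun s hs s' hs' h => by
      rw [← hsqrt s hs, ← hsqrt s' hs', ← (Commute.refl s).mul_pow, h, (Commute.refl s').mul_pow]
  -- inverting `y` means inverting `P`
  have hAinv : ∀ b ∈ A, ∀ s ∈ (P : Subgroup G), cn b * s * (cn b)⁻¹ = s⁻¹ := by
    intro b hb s hs
    rw [← hzy] at hs
    obtain ⟨k, rfl⟩ := hs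
    simp only
    rw [← conj_zpow, (Finset.mem_filter.1 hb).2, inv_zpow]
  -- a `p`-element centralising `y` lies in `P`
  have hpel : ∀ x : G, (∃ k, orderOf x = p ^ k) → Commute x y → x ∈ (P : Subgroup G) := by
    rintro x ⟨k, hk⟩ hc
    have hxN : x ∈ Subgroup.normalizer ((P : Subgroup G) : Set G) := by
      refine Subgroup.centralizer_le_normalizer _ (Subgroup.mem_centralizer_iff.2 fun s hs => ?_)
      rw [SetLike.mem_coe, ← hzy] at hs
      obtain ⟨j, rfl⟩ := hs
      exact (hc.zpow_right j).symm.eq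
    have hz : IsPGroup p (Subgroup.zpowers x) :=
      IsPGroup.of_card (n := k) (by rw [Nat.card_zpowers, hk])
    exact ((hz.inf_normalizer_sylow P).le ⟨Subgroup.mem_zpowers x, hxN⟩).2
  -- pairs of `S` come from `A`
  have hSA : ∀ q ∈ S, q.1 ∈ A ∧ q.2 ∈ A := by
    intro q hq
    have hg := (Finset.mem_filter.1 hq).2
    obtain ⟨k, hk⟩ := Blocks.IsPPart.mem_zpowers hg
    have h1 : cn q.1 * y * (cn q.1)⁻¹ = y⁻¹ := by
      rw [← hk]
      simp only
      rw [← conj_zpow, ← inv_zpow, mul_inv_rev, hcni, hcni, ← mul_assoc (cn q.1), hcn2, one_mul]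
    refine ⟨Finset.mem_filter.2 ⟨Finset.mem_univ _, h1⟩,
      Finset.mem_filter.2 ⟨Finset.mem_univ _, ?_⟩⟩
    have hgy : Commute (cn q.1 * cn q.2) y := hk ▸ Commute.self_zpow _ k
    have e : cn q.2 = cn q.1 * (cn q.1 * cn q.2) := by rw [← mul_assoc, hcn2, one_mul]
    rw [e, mul_inv_rev, show cn q.1 * (cn q.1 * cn q.2) * y *
      ((cn q.1 * cn q.2)⁻¹ * (cn q.1)⁻¹) =
      cn q.1 * ((cn q.1 * cn q.2) * y * (cn q.1 * cn q.2)⁻¹) * (cn q.1)⁻¹ by group,
      hgy.eq, mul_inv_cancel_right, h1]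
  -- translation by `P`
  have hshift : ∀ b ∈ A, ∀ s ∈ (P : Subgroup G), s * b ∈ A ∧ cn (s * b) = cn b * (s⁻¹ * s⁻¹) := by
    intro b hb s hs
    have h1 : cn (s * b) = cn b * (s⁻¹ * s⁻¹) := by
      have h2 := hAinv b hb s hs
      rw [show cn (s * b) = s * cn b * s⁻¹ by simp only [hcn]; group]
      rw [show s * cn b = cn b * s⁻¹ by rw [← h2, hcni, ← mul_assoc, ← mul_assoc, hcn2, one_mul],
        mul_assoc]
    refine ⟨Finset.mem_filter.2 ⟨Finset.mem_univ _, ?_⟩, h1⟩
    have hcs : Commute (s⁻¹ * s⁻¹) y := by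
      rw [← hzy] at hs
      obtain ⟨j, rfl⟩ := hs
      exact ((Commute.self_zpow y j).symm.inv_left).mul_left ((Commute.self_zpow y j).symm.inv_left)
    rw [h1, mul_inv_rev, show cn b * (s⁻¹ * s⁻¹) * y * ((s⁻¹ * s⁻¹)⁻¹ * (cn b)⁻¹) =
      cn b * ((s⁻¹ * s⁻¹) * y * (s⁻¹ * s⁻¹)⁻¹) * (cn b)⁻¹ by group, hcs.eq, mul_inv_cancel_right]
    exact (Finset.mem_filter.1 hb).2
  -- `p |S| = |A|²`
  have hScard : p * S.card = A.card ^ 2 := by
    have hfib : ∀ a ∈ A, p * (A.filter fun b => IsPPart p (cn a * cn b) y).card = A.card := by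
      intro a ha
      have hcomm : ∀ b ∈ A, ∀ s ∈ (P : Subgroup G), Commute (cn a * cn b) s := by
        intro b hb s hs
        have h1 := hAinv b hb s hs
        have h2 := hAinv a ha (s⁻¹) (inv_mem hs)
        rw [inv_inv] at h2
        refine mul_inv_eq_iff_eq_mul.1 ?_
        rw [mul_inv_rev, show cn a * cn b * s * ((cn b)⁻¹ * (cn a)⁻¹) =
          cn a * (cn b * s * (cn b)⁻¹) * (cn a)⁻¹ by group, h1, h2]
      have hmove : ∀ b ∈ A, ∀ x, IsPPart p (cn a * cn b) x → x ∈ (P : Subgroup G) →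
          ∀ s ∈ (P : Subgroup G), IsPPart p (cn a * cn (s * b)) (x * (s⁻¹ * s⁻¹)) := by
        intro b hb x hx hxP s hs
        rw [(hshift b hb s hs).2, ← mul_assoc]
        obtain ⟨w, hw, hcw, -, hwo⟩ := hx
        obtain ⟨k, hk⟩ := (Blocks.IsPPart.mem_zpowers (g := cn a * cn b)
          ⟨w, hw, hcw, (freeData_of_card_eq hP).exists_pow_orderOf hxP, hwo⟩)
        have hq : s⁻¹ * s⁻¹ ∈ (P : Subgroup G) := mul_mem (inv_mem hs) (inv_mem hs)
        have hwc : Commute w (s⁻¹ * s⁻¹) := by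
          rw [show w = x⁻¹ * (cn a * cn b) by rw [← hw, inv_mul_cancel_left]]
          refine Commute.mul_left ?_ (hcomm b hb _ hq)
          rw [← hk]
          exact ((hcomm b hb _ hq).zpow_left k).inv_left
        have hxs : Commute x (s⁻¹ * s⁻¹) := by
          rw [← hk]; exact (hcomm b hb _ hq).zpow_left k
        refine ⟨w, ?_, Commute.mul_left hcw hwc.symm,
          (freeData_of_card_eq hP).exists_pow_orderOf (mul_mem hxP hq), hwo⟩
        rw [← hw, mul_assoc, hwc.symm.eq, ← mul_assoc]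
      rw [show p * (A.filter fun b => IsPPart p (cn a * cn b) y).card =
          ((Finset.univ : Finset (P : Subgroup G)) ×ˢ
            A.filter fun b => IsPPart p (cn a * cn b) y).card by
        rw [Finset.card_product, Finset.card_univ, ← Nat.card_eq_fintype_card]
        exact congrArg (fun n => n * (A.filter fun b => IsPPart p (cn a * cn b) y).card) hP.symm]
      refine Finset.card_bij (fun q _ => (q.1 : G) * q.2) ?_ ?_ ?_
      · intro q hq
        exact (hshift _ (Finset.mem_filter.1 (Finset.mem_product.1 hq).2).1 _ q.1.2).1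
      · rintro ⟨s, b⟩ hq ⟨s', b'⟩ hq' he
        obtain ⟨hb, hbp⟩ := Finset.mem_filter.1 (Finset.mem_product.1 hq).2
        obtain ⟨hb', hbp'⟩ := Finset.mem_filter.1 (Finset.mem_product.1 hq').2
        simp only at he
        have h1 := hmove b hb y hbp hy s s.2
        have h2 := hmove b' hb' y hbp' hy s' s'.2
        rw [he] at h1
        have h3 := mul_left_cancel (Blocks.IsPPart.unique h1 h2)
        have h4 : (s : G) = s' := inv_injective (hsqinj _ (inv_mem s.2) _ (inv_mem s'.2) h3)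
        rw [h4] at he
        exact Prod.ext (Subtype.ext h4) (mul_left_cancel he)
      · intro b hb
        obtain ⟨x, hx⟩ := Blocks.exists_isPPart (p := p) (cn a * cn b)
        have hxP : x ∈ (P : Subgroup G) := hpel x (Blocks.IsPPart.isPElement hx) (by
          obtain ⟨k, hk⟩ := Blocks.IsPPart.mem_zpowers hx
          exact hk ▸ (hcomm b hb y hy).zpow_left k)
        set s := (y⁻¹ * x) ^ (i + 1) with hs
        have hsP : s ∈ (P : Subgroup G) := (P : Subgroup G).pow_mem (mul_mem (inv_mem hy) hxP) _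
        have hss : s * s = y⁻¹ * x := hsqrt _ (mul_mem (inv_mem hy) hxP)
        have h1 := hmove b hb x hx hxP s hsP
        rw [← mul_inv_rev, hss, mul_inv_rev, inv_inv, mul_inv_cancel_left] at h1
        exact ⟨(⟨s⁻¹, inv_mem hsP⟩, s * b), Finset.mem_product.2 ⟨Finset.mem_univ _,
          Finset.mem_filter.2 ⟨(hshift b hb s hsP).1, h1⟩⟩, inv_mul_cancel_left s b⟩
    have hSsum : S.card = ∑ a ∈ A, (A.filter fun b => IsPPart p (cn a * cn b) y).card := by
      rw [← Finset.card_sigma]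
      refine Finset.card_bij' (fun q _ => ⟨q.1, q.2⟩) (fun r _ => (r.1, r.2)) ?_ ?_ ?_ ?_
      · intro q hq
        exact Finset.mem_sigma.2 ⟨(hSA q hq).1,
          Finset.mem_filter.2 ⟨(hSA q hq).2, (Finset.mem_filter.1 hq).2⟩⟩
      · intro r hr
        exact Finset.mem_filter.2 ⟨Finset.mem_univ _,
          (Finset.mem_filter.1 (Finset.mem_sigma.1 hr).2).2⟩
      · intro q _; rfl
      · intro r _; rfl
    rw [hSsum, Finset.mul_sum, Finset.sum_congr rfl hfib, Finset.sum_const, smul_eq_mul, sq]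
  -- the character sum
  set F : G → ℂ := fun g => ∑ χ ∈ Finset.univ.filter (· ∈ principalBlock M G),
    χ.1 g * conj (χ.1 y) with hF
  have hsum : (Nat.card G : ℂ) * (Nat.card G : ℂ) *
      ∑ χ ∈ Finset.univ.filter (· ∈ principalBlock M G),
        χ.1 t * χ.1 t * conj (χ.1 y) / χ.1 1 = ∑ q : G × G, F (cn q.1 * cn q.2) := by
    simp only [hF]
    rw [Finset.sum_comm, Finset.mul_sum]
    refine Finset.sum_congr rfl fun χ _ => ?_
    rw [← Finset.sum_mul, Fintype.sum_prod_type_right]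
    have h1 := Char.IsIrrCharacter.apply_one_ne_zero χ.2
    have h2 : ∀ b : G, ∑ a, χ.1 (cn a * cn b) = (Nat.card G : ℂ) * χ.1 t * χ.1 t / χ.1 1 := by
      intro b
      simp only [hcn]
      rw [eq_div_iff h1, mul_comm, Char.sum_irr_conj_mul χ.2 t (b * t * b⁻¹),
        Blocks.irr_classFun χ t b]
    rw [Finset.sum_congr rfl fun b _ => h2 b, Finset.sum_const, Finset.card_univ, nsmul_eq_mul,
      ← Nat.card_eq_fintype_card]
    ring
  have hcase : ∀ q : G × G,
      (Nat.card (Subgroup.centralizer ({y} : Set G)) : ℂ) * F (cn q.1 * cn q.2) =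
        (p : ℂ) * ∑ g : G, if IsPPart p (cn q.1 * cn q.2) (g * y * g⁻¹) then (1 : ℂ) else 0 := by
    intro q
    obtain ⟨x, hx⟩ := Blocks.exists_isPPart (p := p) (cn q.1 * cn q.2)
    simp only [hF]
    rw [block_column hpM hP hy hy1 hx]
    have hiff : ∀ g, IsPPart p (cn q.1 * cn q.2) (g * y * g⁻¹) ↔ g * y * g⁻¹ = x :=
      fun g => ⟨fun h => Blocks.IsPPart.unique h hx, fun h => h ▸ hx⟩
    simp only [hiff, Finset.sum_boole]
    split_ifs with hc
    · obtain ⟨c, hc'⟩ := isConj_iff.1 hc.symm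
      rw [mul_comm]
      congr 2
      rw [Nat.card_eq_fintype_card, ← Finset.card_univ]
      refine Finset.card_bij (fun z _ => c * (z : G)) ?_ ?_ ?_
      · intro z _
        refine Finset.mem_filter.2 ⟨Finset.mem_univ _, ?_⟩
        rw [mul_inv_rev, show c * (z : G) * y * ((z : G)⁻¹ * c⁻¹) = c * ((z : G) * y * (z : G)⁻¹) * c⁻¹
          by group, Subgroup.mem_centralizer_singleton_iff.1 z.2, mul_inv_cancel_right, hc']
      · intro z _ z' _ h
        exact Subtype.ext (mul_left_cancel h)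
      · intro g hg
        have hg' := (Finset.mem_filter.1 hg).2
        refine ⟨⟨c⁻¹ * g, Subgroup.mem_centralizer_singleton_iff.2 ?_⟩, Finset.mem_univ _,
          mul_inv_cancel_left c g⟩
        refine mul_inv_eq_iff_eq_mul.1 ?_
        rw [mul_inv_rev, show c⁻¹ * g * y * (g⁻¹ * c⁻¹⁻¹) = c⁻¹ * (g * y * g⁻¹) * c by group, hg',
          ← hc']
        group
    · rw [mul_zero, Finset.filter_eq_empty_iff.2 fun g _ h => hc ?_, Finset.card_empty,
        Nat.cast_zero, mul_zero]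
      exact (isConj_iff.2 ⟨g, h⟩).symm
  have hg0 : ∀ g : G,
      ∑ q : G × G, (if IsPPart p (cn q.1 * cn q.2) (g * y * g⁻¹) then (1 : ℂ) else 0) = S.card := by
    intro g
    rw [hS, ← Finset.sum_boole]
    refine (Fintype.sum_equiv ((Equiv.mulLeft g).prodCongr (Equiv.mulLeft g)) _ _ fun q => ?_).symm
    have he : cn (g * q.1) * cn (g * q.2) = g * (cn q.1 * cn q.2) * g⁻¹ := by
      simp only [hcn]; group
    simp only [Equiv.prodCongr_apply, Prod.map_fst, Prod.map_snd, Equiv.coe_mulLeft, he]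
    refine if_congr ⟨fun h => Blocks.IsPPart.conj h g, fun h => ?_⟩ rfl rfl
    have h2 := Blocks.IsPPart.conj h g⁻¹
    simpa [mul_assoc] using h2
  refine ⟨A.card, ?_⟩
  have hG0 : (Nat.card G : ℂ) ≠ 0 := Nat.cast_ne_zero.2 Nat.card_pos.ne'
  refine mul_left_cancel₀ hG0 ?_
  calc (Nat.card G : ℂ) * ((Nat.card (Subgroup.centralizer ({y} : Set G)) : ℂ) * (Nat.card G : ℂ) *
        ∑ χ ∈ Finset.univ.filter (· ∈ principalBlock M G), χ.1 t * χ.1 t * conj (χ.1 y) / χ.1 1)
      = (Nat.card (Subgroup.centralizer ({y} : Set G)) : ℂ) * ∑ q : G × G, F (cn q.1 * cn q.2) := by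
        rw [← hsum]; ring
    _ = (p : ℂ) * ((Nat.card G : ℂ) * (S.card : ℂ)) := by
        rw [Finset.mul_sum, Finset.sum_congr rfl fun q _ => hcase q, ← Finset.mul_sum,
          Finset.sum_comm, Finset.sum_congr rfl fun g _ => hg0 g, Finset.sum_const, Finset.card_univ,
          nsmul_eq_mul, ← Nat.card_eq_fintype_card]
    _ = (Nat.card G : ℂ) * (A.card : ℂ) ^ 2 := by
        rw [← Nat.cast_pow, ← hScard]; push_cast; ring

end Cfsg.Agent.Order95040
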