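import Cfsg.Agent.Lib.Order95040.CycleBase

/-!
# An element of order three cycling a four-group in a group of order 95040

From `Facts` and `Local` we produce `h` with `Rel a b c d u h`.
-/

set_option autoImplicit false
set_option synthInstance.maxSize 512
set_option linter.style.haveILetI false
set_option linter.unusedSimpArgs false

namespace Cfsg.Agent.Order95040

open Subgroup Equiv

variable {G : Type*} [Group G] {a b c d u : G} {F : G → Perm (Fin 5)}

theorem Facts.finite (H : Facts G) : Finite G :=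
  Nat.finite_of_card_ne_zero (by rw [H.card]; norm_num)

/-- Membership in the four-group `{1, u, a, u a}`. -/
abbrev InW (u a x : G) : Prop := x = 1 ∨ x = u ∨ x = a ∨ x = u * a

/-- The four-group generated by two commuting involutions. -/
def fourSub (x y : G) (hx : x * x = 1) (hy : y * y = 1) (hxy : Commute y x) : Subgroup G where
  carrier := {z | InW x y z}
  one_mem' := Or.inl rfl
  inv_mem' := by
    rintro z (rfl | rfl | rfl | rfl)
    · exact Or.inl inv_one
    · exact Or.inr (Or.inl (inv_eq_of_mul_eq_one_right hx))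
    · exact Or.inr (Or.inr (Or.inl (inv_eq_of_mul_eq_one_right hy)))
    · refine Or.inr (Or.inr (Or.inr ?_))
      rw [mul_inv_rev, inv_eq_of_mul_eq_one_right hx, inv_eq_of_mul_eq_one_right hy, hxy.eq]
  mul_mem' := by
    have h1 : ∀ z, x * (x * z) = z := fun z => by rw [← mul_assoc, hx, one_mul]
    have h2 : ∀ z, y * (y * z) = z := fun z => by rw [← mul_assoc, hy, one_mul]
    have h3 : ∀ z, y * (x * z) = x * (y * z) := fun z => by rw [← mul_assoc, hxy.eq, mul_assoc]
    rintro z w (rfl | rfl | rfl | rfl) (rfl | rfl | rfl | rfl) <;>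
      simp [InW, mul_assoc, h1, h2, h3, hx, hy, hxy.eq]

theorem Img.u_ne_one (L : Local a b c d u) : u ≠ 1 := fun h => by
  simpa [h] using L.ou

theorem h_comm_aux (L : Local a b c d u) : a * (u * a) = u := by
  rw [← mul_assoc, L.cau.eq, mul_assoc, L.aa, mul_one]

theorem Img.a_ne (I : Img a b c d u F) : a ≠ 1 ∧ a ≠ u := by
  constructor <;> intro h
  · have := I.fa; rw [h, I.one] at this; revert this; decide
  · have := I.fa; rw [h, I.fu] at this; revert this; decide

theorem card_fourSub (I : Img a b c d u F) (L : Local a b c d u) :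
    Nat.card (fourSub u a L.uu L.aa L.cau) = 4 := by
  classical
  obtain ⟨ha1, hau⟩ := I.a_ne
  have h1 : u * a ≠ 1 := fun h => hau ((mul_eq_one_iff_inv_eq.1 h).symm.trans
    (inv_eq_of_mul_eq_one_right L.uu))
  have h2 : u * a ≠ u := fun h => ha1 (mul_eq_left.1 h)
  have h3 : u * a ≠ a := fun h => Img.u_ne_one L (mul_eq_right.1 h)
  have e : ((fourSub u a L.uu L.aa L.cau : Subgroup G) : Set G) =
      (({1, u, a, u * a} : Finset G) : Set G) := by
    ext z; simp [fourSub, InW]
  rw [← SetLike.coe_sort_coe, e, Nat.card_coe_set_eq, Set.ncard_coe_finset]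
  simp [Finset.card_insert_of_notMem, (Img.u_ne_one L).symm, ha1.symm, hau.symm, h1.symm, h2.symm,
    h3.symm]

theorem e_order (I : Img a b c d u F) (L : Local a b c d u) :
    a * c ≠ 1 ∧ orderOf (a * c) = 2 := by
  have h1 : a * c ≠ 1 := by
    intro h; have := I.f_e L; rw [h, I.one] at this; revert this; decide
  exact ⟨h1, orderOf_eq_prime (by rw [pow_two]; exact L.e_sq) h1⟩

theorem ue_order (I : Img a b c d u F) (L : Local a b c d u) : orderOf (u * (a * c)) = 2 := by
  refine orderOf_eq_prime ?_ fun h => ?_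
  · rw [L.ue.mul_pow, pow_two, pow_two, L.uu, L.e_sq, one_mul]
  · have := I.mul u L.memu (a * c) (mul_mem L.mema L.memc)
    rw [h, I.one, I.fu, I.f_e L] at this
    revert this; decide

/-- `a c` is a square of an element of order four, so it is not big. -/
theorem card_e (H : Facts G) (I : Img a b c d u F) (L : Local a b c d u) :
    Nat.card (cent (a * c)) = 192 := by
  have hsq : a * (b * a * c * b) * (a * (b * a * c * b)) = a * c := by
    calc a * (b * a * c * b) * (a * (b * a * c * b))
        = a * (b * a * c * b * a * (b * a * c * b)) := by simp only [mul_assoc]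
      _ = a * c := by rw [L.rar]
  obtain ⟨he1, he⟩ := e_order I L
  have h4 : orderOf (a * (b * a * c * b)) = 4 := by
    refine orderOf_eq_prime_pow (p := 2) (n := 1) ?_ ?_
    · rwa [pow_one, pow_two, hsq]
    · rw [show (2 : ℕ) ^ (1 + 1) = 2 * 2 from rfl, pow_mul, pow_two (a * (b * a * c * b)), hsq,
        pow_two, L.e_sq]
  have := H.not_square _ h4
  rw [hsq] at this
  exact (H.involution _ he).resolve_right this

theorem card_centralizer_pE : Nat.card (centralizer ({pE} : Set (Perm (Fin 5)))) = 8 := by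
  classical
  rw [← perm_cent_pE_card, ← Nat.card_eq_finsetCard]
  refine Nat.card_congr (Equiv.subtypeEquivRight fun p => ?_)
  rw [Finset.mem_filter, Subgroup.mem_centralizer_singleton_iff]
  simp

/-- `C(u) ∩ C(a c)` has order dividing 16. -/
theorem card_inf_dvd (H : Facts G) (I : Img a b c d u F) (L : Local a b c d u) :
    Nat.card ↥(cent u ⊓ cent (a * c)) ∣ 16 := by
  haveI := H.finite
  let T := cent u ⊓ cent (a * c)
  let ψ : T →* Perm (Fin 5) :=
    { toFun := fun x => F x
      map_one' := I.one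
      map_mul' := fun x y => I.mul _ x.2.1 _ y.2.1 }
  have hr : ψ.range ≤ centralizer ({pE} : Set (Perm (Fin 5))) := by
    rintro _ ⟨x, rfl⟩
    rw [Subgroup.mem_centralizer_singleton_iff]
    have hx := mem_cent.1 x.2.2
    have e1 := I.mul _ (mul_mem L.mema L.memc) _ x.2.1
    have e2 := I.mul _ x.2.1 _ (mul_mem L.mema L.memc)
    rw [I.f_e L] at e1 e2
    show F x * pE = pE * F x
    rw [← e1, ← e2, hx.eq]
  have h8 := card_dvd_of_le hr
  rw [card_centralizer_pE] at h8
  have h2 : Nat.card ψ.ker ≤ 2 := by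
    classical
    have : Function.Injective fun x : ψ.ker => decide ((x : T) = 1) := by
      intro x y hxy
      have key : ∀ z : ψ.ker, ((z : T) : G) = 1 ∨ ((z : T) : G) = u := fun z =>
        I.ker _ (z : T).2.1 z.2
      simp only [decide_eq_decide] at hxy
      rcases key x with e | e
      · exact Subtype.ext ((Subtype.ext e : (x : T) = 1).trans (hxy.1 (Subtype.ext e)).symm)
      · rcases key y with e' | e'
        · have := hxy.2 (Subtype.ext e')
          exact absurd ((congrArg Subtype.val this).symm.trans e).symm (Img.u_ne_one L)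
        · exact Subtype.ext (Subtype.ext (e.trans e'.symm))
    have := Nat.card_le_card_of_injective _ this
    simpa using this
  rw [← Subgroup.card_mul_index ψ.ker, index_ker]
  have h0 : 0 < Nat.card ψ.ker := Nat.card_pos
  have : Nat.card ψ.ker ∣ 2 := by interval_cases Nat.card ψ.ker <;> norm_num
  exact Nat.mul_dvd_mul this h8

/-- `u (a c)` is big. -/
theorem card_ue (H : Facts G) (I : Img a b c d u F) (L : Local a b c d u) :
    Nat.card (cent (u * (a * c))) = 240 := by
  haveI := H.finite
  haveI : Fact (Nat.Prime 2) := ⟨Nat.prime_two⟩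
  set e := a * c with he
  let E := cent e
  let T : Subgroup E := (cent u).subgroupOf E
  have hT : Nat.card T ∣ 16 := by
    have : Nat.card T = Nat.card ↥(cent u ⊓ E) := by
      show Nat.card ((cent u).subgroupOf E) = _
      rw [← Subgroup.inf_subgroupOf_right]
      exact Nat.card_congr (subgroupOfEquivOfLe inf_le_right).toEquiv
    rw [this]
    exact card_inf_dvd H I L
  obtain ⟨k, hk, hTk⟩ := (Nat.dvd_prime_pow Nat.prime_two (m := 4)).1 hT
  obtain ⟨P, hP, hTP⟩ := Sylow.exists_subgroup_card_pow_prime_le 2 (n := k) (m := 6)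
    (show 2 ^ 6 ∣ Nat.card E by rw [card_e H I L]; norm_num) T hTk (by omega)
  haveI : Group.IsNilpotent P := (IsPGroup.of_card hP).isNilpotent
  have hlt : T.subgroupOf P < ⊤ := by
    refine lt_top_iff_ne_top.2 fun h => ?_
    have h' : Nat.card P ∣ Nat.card T := card_dvd_of_le (subgroupOf_eq_top.1 h)
    rw [hP, hTk] at h'
    have := (Nat.pow_dvd_pow_iff_le_right (by norm_num)).1 h'
    omega
  obtain ⟨n, hn, hnT⟩ := SetLike.exists_of_lt (Group.normalizerCondition_of_isNilpotent _ hlt)
  rw [mem_normalizer_iff] at hn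
  set z : G := ((n : E) : G) with hz
  have hnE : z ∈ cent e := (n : E).2
  have hnu : z ∉ cent u := fun h => hnT h
  have key : ∀ x ∈ cent u, x ∈ E → z * x * z⁻¹ ∈ cent u := by
    intro x hx hxE
    have hxT : (⟨x, hxE⟩ : E) ∈ T := hx
    exact (hn ⟨_, hTP hxT⟩).1 hxT
  have key' : ∀ x ∈ cent u, x ∈ E → z⁻¹ * x * z ∈ cent u := by
    intro x hx hxE
    have hxT : (⟨x, hxE⟩ : E) ∈ T := hx
    refine (hn (n⁻¹ * ⟨_, hTP hxT⟩ * n)).2 ?_
    simpa [mul_assoc, mem_subgroupOf] using hxT
  have huE : u ∈ E := mem_cent.2 L.ue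
  set v := z * u * z⁻¹ with hv
  have hvu : v ∈ cent u := key u L.memu huE
  have hve : Commute v e :=
    ((mem_cent.1 hnE).mul_left (mem_cent.1 huE)).mul_left (mem_cent.1 hnE).inv_left
  have hcomm : ∀ x ∈ cent u, x ∈ E → Commute v x := by
    intro x hx hxE
    have h1 := (mem_cent.1 (key' x hx hxE)).symm
    have h2 : z * u * z⁻¹ * x = x * (z * u * z⁻¹) := by
      calc z * u * z⁻¹ * x = z * (u * (z⁻¹ * x * z)) * z⁻¹ := by group
        _ = z * (z⁻¹ * x * z * u) * z⁻¹ := by rw [h1.eq]
        _ = x * (z * u * z⁻¹) := by group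
    exact h2
  have hra : Commute (b * a * c * b) e := L.re
  have hae : Commute a e := (Commute.refl a).mul_right L.cac
  have hr : b * a * c * b ∈ cent u := mul_mem (mul_mem (mul_mem L.memb L.mema) L.memc) L.memb
  have hec : e ∈ cent u := mul_mem L.mema L.memc
  have f1 : F v * pE = pE * F v := by
    have e1 := I.mul _ hvu _ hec
    have e2 := I.mul _ hec _ hvu
    rw [I.f_e L] at e1 e2
    rw [← e1, ← e2, hve.eq]
  have f2 : F v * swap 0 1 = swap 0 1 * F v := by
    have e1 := I.mul _ hvu _ L.mema
    have e2 := I.mul _ L.mema _ hvu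
    rw [I.fa] at e1 e2
    rw [← e1, ← e2, (hcomm a L.mema (mem_cent.2 hae)).eq]
  have f3 : F v * (swap 0 2 * swap 1 3) = swap 0 2 * swap 1 3 * F v := by
    have e1 := I.mul _ hvu _ hr
    have e2 := I.mul _ hr _ hvu
    rw [I.f_r L] at e1 e2
    rw [← e1, ← e2, (hcomm _ hr (mem_cent.2 hra)).eq]
  rcases perm_central _ f1 f2 f3 with h | h
  · rcases I.ker _ hvu h with h' | h'
    · exact absurd (conj_eq_one_iff.1 h') (Img.u_ne_one L)
    · exact absurd (mem_cent.2 (show Commute z u from mul_inv_eq_iff_eq_mul.1 h')) hnu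
  · replace h : F v = F e := h.trans (I.f_e L).symm
    rcases I.eq_of_eq hvu hec h with h' | h'
    · exfalso
      have hue : u = e := by
        have : z * u = z * e := by
          rw [mul_inv_eq_iff_eq_mul.1 h', (mem_cent.1 hnE).eq]
        exact mul_left_cancel this
      have := I.f_e L
      rw [← he, ← hue, I.fu] at this
      revert this; decide
    · rw [← h', hv, conj_card_cent, L.cu]

/-- The elements of `C(u) ∩ C(c d)`. -/
theorem inf_g (I : Img a b c d u F) (L : Local a b c d u) {x : G} (hx : x ∈ cent u)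
    (hx' : Commute x (c * d)) : ∃ w, InW u a w ∧ ∃ k < 3, x = w * (c * d) ^ k := by
  have hg : c * d ∈ cent u := mul_mem L.memc L.memd
  have f1 : F x * (swap 2 3 * swap 3 4) = swap 2 3 * swap 3 4 * F x := by
    have e1 := I.mul _ hx _ hg
    have e2 := I.mul _ hg _ hx
    rw [I.f_g L] at e1 e2
    rw [← e1, ← e2, hx'.eq]
  obtain ⟨k, hk, h | h⟩ := perm_cent_three _ f1
  · rcases I.eq_of_eq hx (pow_mem hg k) (by rw [h, I.pow hg, I.f_g L]) with e | e
    · exact ⟨1, Or.inl rfl, k, hk, by rw [one_mul]; exact e⟩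
    · exact ⟨u, Or.inr (Or.inl rfl), k, hk, e⟩
  · rcases I.eq_of_eq hx (mul_mem L.mema (pow_mem hg k))
      (by rw [h, I.mul _ L.mema _ (pow_mem hg k), I.fa, I.pow hg, I.f_g L]) with e | e
    · exact ⟨a, Or.inr (Or.inr (Or.inl rfl)), k, hk, e⟩
    · exact ⟨u * a, Or.inr (Or.inr (Or.inr rfl)), k, hk, by rw [mul_assoc]; exact e⟩

theorem g_order (I : Img a b c d u F) (L : Local a b c d u) : orderOf (c * d) = 3 := by
  haveI : Fact (Nat.Prime 3) := ⟨Nat.prime_three⟩
  refine orderOf_eq_prime L.cd fun h => ?_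
  have := I.f_g L
  rw [h, I.one] at this
  revert this; decide

/-- The centraliser of `c d` has order 36. -/
theorem card_g (H : Facts G) (I : Img a b c d u F) (L : Local a b c d u) :
    Nat.card (cent (c * d)) = 36 := by
  classical
  haveI := H.finite
  haveI : Fact (Nat.Prime 3) := ⟨Nat.prime_three⟩
  have hV : fourSub u a L.uu L.aa L.cau ≤ cent (c * d) := by
    rintro x (rfl | rfl | rfl | rfl)
    · exact one_mem _
    · exact mem_cent.2 L.ug
    · exact mem_cent.2 L.ag
    · exact mem_cent.2 (L.ug.mul_left L.ag)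
  have h4 := card_dvd_of_le hV
  rw [card_fourSub I L] at h4
  have h3 := g_order I L
  have hz : Nat.card (zpowers (c * d)) = 3 ^ 1 := by rw [Nat.card_zpowers, h3, pow_one]
  obtain ⟨K, hK, hgK⟩ := Sylow.exists_subgroup_card_pow_prime_le 3 (n := 1) (m := 3)
    (show 3 ^ 3 ∣ Nat.card G by rw [H.card]; norm_num) _ hz (by norm_num)
  let M := cent (c * d) ⊓ K
  have hgM : zpowers (c * d) ≤ M := le_inf (zpowers_le.2 (mem_cent.2 (Commute.refl _))) hgK
  have h9 : 9 ∣ Nat.card (cent (c * d)) := by
    obtain ⟨j, hj, hMj⟩ :=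
      (Nat.dvd_prime_pow Nat.prime_three).1 (hK ▸ card_dvd_of_le (inf_le_right : M ≤ K))
    rcases Nat.lt_or_ge j 2 with hj2 | hj2
    · exfalso
      have hM3 : zpowers (c * d) = M := by
        refine eq_of_le_of_card_ge hgM ?_
        rw [hz, hMj]
        exact Nat.pow_le_pow_right (by norm_num) (by omega)
      haveI : Nontrivial K := by
        rw [← Finite.one_lt_card_iff_nontrivial, hK]; norm_num
      haveI : Nontrivial (center K) := (IsPGroup.of_card hK).center_nontrivial
      obtain ⟨z, hz1⟩ := exists_ne (1 : center K)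
      have hzc : ∀ y ∈ K, Commute y ((z : K) : G) := fun y hy =>
        congrArg Subtype.val (Subgroup.mem_center_iff.1 z.2 ⟨y, hy⟩)
      have hgKm : c * d ∈ K := hgK (mem_zpowers _)
      have hzM : ((z : K) : G) ∈ zpowers (c * d) := by
        rw [hM3]
        exact ⟨mem_cent.2 (hzc _ hgKm).symm, (z : K).2⟩
      have hzz : zpowers ((z : K) : G) = zpowers (c * d) := by
        refine eq_of_le_of_card_ge (zpowers_le.2 hzM) ?_
        rw [Nat.card_zpowers, Nat.card_zpowers, h3]
        have hd : orderOf ((z : K) : G) ∣ 3 := by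
          have := card_dvd_of_le (zpowers_le.2 hzM)
          rwa [Nat.card_zpowers, Nat.card_zpowers, h3] at this
        rcases (Nat.dvd_prime Nat.prime_three).1 hd with e | e
        · exact absurd (Subtype.ext (Subtype.ext (orderOf_eq_one_iff.1 e))) hz1
        · exact e.ge
      obtain ⟨i, hi⟩ := mem_zpowers_iff.1 (hzz ▸ mem_zpowers (c * d))
      have hKM : K ≤ M := le_inf (fun y hy => mem_cent.2 (hi ▸ (hzc y hy).zpow_right i)) le_rfl
      have := card_dvd_of_le hKM
      rw [← hM3, hz, hK] at this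
      norm_num at this
    · refine dvd_trans ?_ (card_dvd_of_le (inf_le_left : M ≤ cent (c * d)))
      rw [hMj]
      exact dvd_trans (by norm_num : 9 ∣ 3 ^ 2) (pow_dvd_pow 3 hj2)
  refine (H.three _ h3 (Nat.Coprime.mul_dvd_of_dvd_of_dvd (by norm_num) h4 h9)).resolve_right
    fun h72 => ?_
  have hle : Nat.card ↥(cent (c * d) ⊓ cent u) ≤ 12 := by
    let f : (fourSub u a L.uu L.aa L.cau) × Fin 3 → ↥(cent (c * d) ⊓ cent u) :=
      fun p => ⟨(p.1 : G) * (c * d) ^ (p.2 : ℕ),
        mul_mem (hV p.1.2) (pow_mem (mem_cent.2 (Commute.refl _)) _),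
        mul_mem (by rcases p.1.2 with e | e | e | e <;> rw [e]
                    exacts [one_mem _, L.memu, L.mema, mul_mem L.memu L.mema])
          (pow_mem (mul_mem L.memc L.memd) _)⟩
    have hf : Function.Surjective f := by
      rintro ⟨x, hx1, hx2⟩
      obtain ⟨w, hw, k, hk, rfl⟩ := inf_g I L hx2 (mem_cent.1 hx1)
      exact ⟨(⟨w, hw⟩, ⟨k, hk⟩), rfl⟩
    have := Nat.card_le_card_of_surjective f hf
    rwa [Nat.card_prod, card_fourSub I L, Nat.card_fin] at this
  have h14 := H.six_big _ u h3 L.ou L.ug.symm h72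
  rw [cent_mul_eq L.ug.symm L.cd (by rw [pow_two]; exact L.uu)] at h14
  omega

/-- An element of `C(c d)` of three-power order that cycles `u`, `a`, `u a`. -/
theorem exists_cycle (H : Facts G) (I : Img a b c d u F) (L : Local a b c d u) :
    ∃ x : G, Commute x (c * d) ∧ x ^ 9 = 1 ∧ x ^ 3 ∈ zpowers (c * d) ∧
      x⁻¹ * u * x = a ∧ x⁻¹ * a * x = u * a := by
  classical
  haveI := H.finite
  haveI : Fact (Nat.Prime 3) := ⟨Nat.prime_three⟩
  set K := cent (c * d) with hKdef
  haveI : Fintype K := Fintype.ofFinite _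
  have hK : Nat.card K = 36 := card_g H I L
  let g' : K := ⟨c * d, mem_cent.2 (Commute.refl _)⟩
  have hgc : ∀ y : K, Commute y g' := fun y => Subtype.ext (mem_cent.1 y.2).eq
  have hg3 : orderOf g' = 3 := (Subgroup.orderOf_mk _ _).trans (g_order I L)
  let U : K := ⟨u, mem_cent.2 L.ug⟩
  let A : K := ⟨a, mem_cent.2 L.ag⟩
  have hUU : U * U = 1 := Subtype.ext L.uu
  have hAA : A * A = 1 := Subtype.ext L.aa
  have hAU : Commute A U := Subtype.ext L.cau.eq
  have hP9 : ∀ P : Sylow 3 K, Nat.card P = 9 := by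
    intro P
    obtain ⟨j, hj⟩ := P.isPGroup'.exists_card_eq
    have h1 := Subgroup.card_mul_index (P : Subgroup K)
    have h2 := P.not_dvd_index
    rw [hj, hK] at h1
    have : j ≤ 2 := by
      by_contra hcon
      have := (pow_dvd_pow 3 (show 3 ≤ j by omega)).trans (Dvd.intro _ h1)
      norm_num at this
    interval_cases j
    · exact absurd (by norm_num at h1; rw [h1]; norm_num) h2
    · exact absurd (by norm_num at h1; rw [show (P : Subgroup K).index = 12 by omega]; norm_num) h2
    · simpa using hj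
  have hcomm : ∀ P : Sylow 3 K, ∀ x ∈ P, ∀ y ∈ P, Commute x y := fun P x hx y hy =>
    congrArg Subtype.val (((IsPGroup.isMulCommutative_of_card_eq_prime_sq (p := 3)
      (show Nat.card P = 3 ^ 2 by rw [hP9]; norm_num)).is_comm.comm ⟨x, hx⟩ ⟨y, hy⟩))
  have hgP : ∀ P : Sylow 3 K, g' ∈ P := by
    intro P
    obtain ⟨P₀, h0⟩ := (IsPGroup.of_card (G := zpowers g') (n := 1)
      (by rw [Nat.card_zpowers, hg3, pow_one]) : IsPGroup 3 _).exists_le_sylow
    obtain ⟨y, rfl⟩ := MulAction.exists_smul_eq K P₀ P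
    exact ⟨g', h0 (mem_zpowers g'), by simp [(hgc y).eq]⟩
  have hZ : ∀ P : Sylow 3 K, ∃ x ∈ P, x ∉ zpowers g' := by
    intro P
    by_contra hcon
    push Not at hcon
    have h := card_dvd_of_le (show (P : Subgroup K) ≤ zpowers g' from hcon)
    rw [Nat.card_zpowers, hg3, hP9] at h
    norm_num at h
  have hx9 : ∀ P : Sylow 3 K, ∀ x ∈ P, x ^ 9 = 1 := by
    intro P x hx
    have h := congrArg Subtype.val (pow_card_eq_one' (x := (⟨x, hx⟩ : (P : Subgroup K))))
    rwa [hP9] at h
  have hn3 : Nat.card (Sylow 3 K) = 1 ∨ Nat.card (Sylow 3 K) = 4 := by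
    obtain ⟨P⟩ := (inferInstance : Nonempty (Sylow 3 K))
    have h1 := P.card_dvd_index
    have h2 := Subgroup.card_mul_index (P : Subgroup K)
    rw [hP9, hK] at h2
    rw [show (P : Subgroup K).index = 4 by omega] at h1
    have h3 := card_sylow_modEq_one 3 K
    have h4 := Nat.le_of_dvd (by norm_num) h1
    interval_cases hc : Nat.card (Sylow 3 K) <;> simp_all [Nat.ModEq]
  rcases hn3 with h1 | h4
  · exfalso
    haveI : Subsingleton (Sylow 3 K) := (Nat.card_eq_one_iff_unique.1 h1).1
    obtain ⟨P⟩ := (inferInstance : Nonempty (Sylow 3 K))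
    have hPn : (P : Subgroup K).Normal := P.normal_of_subsingleton
    obtain ⟨x, hxP, hxg⟩ := hZ P
    have key : ∀ e : K, e * e = 1 → e ≠ 1 → x * (e * x * e) ∈ zpowers g' := by
      intro e he he1
      by_contra hy
      have hei : e⁻¹ = e := inv_eq_of_mul_eq_one_right he
      have hexe : e * x * e ∈ P := by
        have := hPn.conj_mem x hxP e
        rwa [hei] at this
      set y := x * (e * x * e) with hydef
      have hyP : y ∈ P := mul_mem hxP hexe
      have hye : Commute y e := by
        show y * e = e * y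
        have h : e * y * e = y := by
          calc e * (x * (e * x * e)) * e = e * x * e * x * (e * e) := by simp only [mul_assoc]
            _ = y := by rw [he, mul_one, hydef]; exact (hcomm P _ hexe _ hxP).eq
        calc y * e = e * y * e * e := by rw [h]
          _ = e * y := by rw [mul_assoc, he, mul_one]
      set Q := (P : Subgroup K) ⊓ centralizer {e} with hQ
      have hgQ : zpowers g' ≤ Q := zpowers_le.2
        ⟨hgP P, Subgroup.mem_centralizer_singleton_iff.2 (hgc e).eq.symm⟩
      have hQ9 : Nat.card Q = 9 := by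
        have hd := card_dvd_of_le (inf_le_left : Q ≤ (P : Subgroup K))
        have hd3 : 3 ≤ Nat.card Q := by
          have := Nat.le_of_dvd Nat.card_pos (card_dvd_of_le hgQ)
          rwa [Nat.card_zpowers, hg3] at this
        rw [show Nat.card (P : Subgroup K) = 9 from hP9 P] at hd
        obtain ⟨j, hj, hQj⟩ := (Nat.dvd_prime_pow Nat.prime_three (m := 2)).1 hd
        interval_cases j
        · have : Nat.card Q = 1 := hQj; omega
        · exfalso
          have : zpowers g' = Q := eq_of_le_of_card_ge hgQ (by rw [Nat.card_zpowers, hg3, hQj]; norm_num)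
          refine hy (this ▸ ⟨hyP, ?_⟩)
          exact Subgroup.mem_centralizer_singleton_iff.2 hye.eq
        · exact hQj
      have hQe : Q.map K.subtype ≤ cent (e : G) := by
        rintro _ ⟨z, hz, rfl⟩
        refine mem_cent.2 ?_
        exact congrArg Subtype.val (Subgroup.mem_centralizer_singleton_iff.1 hz.2)
      have h9 := card_dvd_of_le hQe
      rw [card_map_of_injective K.subtype_injective, hQ9] at h9
      have heo : orderOf (e : G) = 2 := by
        rw [Subgroup.orderOf_coe]
        exact orderOf_eq_prime (by rw [pow_two, he]) he1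
      rcases H.involution _ heo with h' | h' <;> rw [h'] at h9 <;> norm_num at h9
    have hU1 : U ≠ 1 := fun h => Img.u_ne_one L (congrArg Subtype.val h)
    have hA1 : A ≠ 1 := fun h => I.a_ne.1 (congrArg Subtype.val h)
    have hUA : (U * A) * (U * A) = 1 := by
      rw [mul_assoc, ← mul_assoc A U A, hAU.eq, mul_assoc U A A, hAA, mul_one, hUU]
    have hUA1 : U * A ≠ 1 := fun h => I.a_ne.2
      ((mul_eq_one_iff_inv_eq.1 (congrArg Subtype.val h)).symm.trans
        (inv_eq_of_mul_eq_one_right L.uu))
    have k1 := key U hUU hU1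
    have k2 := key A hAA hA1
    have k3 := key (U * A) hUA hUA1
    obtain ⟨i, hi⟩ := mem_zpowers_iff.1 k1
    obtain ⟨j, hj⟩ := mem_zpowers_iff.1 k2
    have ei : U * x * U = x⁻¹ * g' ^ i := by rw [hi, ← mul_assoc, inv_mul_cancel, one_mul]
    have ej : A * x * A = x⁻¹ * g' ^ j := by rw [hj, ← mul_assoc, inv_mul_cancel, one_mul]
    have hUi : U⁻¹ = U := inv_eq_of_mul_eq_one_right hUU
    have hUg : ∀ m : ℤ, U * g' ^ m * U = g' ^ m := fun m => by
      rw [((hgc U).zpow_right m).eq, mul_assoc, hUU, mul_one]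
    have e3 : U * A * x * (U * A) = (g' ^ i)⁻¹ * x * g' ^ j := by
      calc U * A * x * (U * A) = U * (A * x * A) * U := by
            rw [show U * A * x * (U * A) = U * A * x * (A * U) by rw [hAU.eq]]
            simp only [mul_assoc]
        _ = (U * x * U)⁻¹ * (U * g' ^ j * U) := by
            rw [ej, mul_inv_rev, mul_inv_rev, hUi]; simp only [mul_assoc]
            rw [← mul_assoc U U, hUU, one_mul]
        _ = (g' ^ i)⁻¹ * x * g' ^ j := by rw [ei, hUg, mul_inv_rev, inv_inv]
    have hxx : x * x ∈ zpowers g' := by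
      rw [e3, ← ((hgc x).zpow_right i).inv_right.eq] at k3
      have : x * (x * (g' ^ i)⁻¹ * g' ^ j) = x * x * ((g' ^ i)⁻¹ * g' ^ j) := by
        simp only [mul_assoc]
      rw [this] at k3
      exact (mul_mem_cancel_right
        (mul_mem (inv_mem (zpow_mem (mem_zpowers g') i)) (zpow_mem (mem_zpowers g') j))).1 k3
    apply hxg
    have : x = (x * x) ^ 5 := by
      rw [← pow_two, ← pow_mul, show 2 * 5 = 9 + 1 from rfl, pow_succ, hx9 P x hxP, one_mul]
    rw [this]; exact pow_mem hxx 5
  · -- every involution of `K` lies in the four-group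
    haveI : Fintype (Sylow 3 K) := Fintype.ofFinite _
    let Z : Finset K := Finset.univ.filter (· ∈ zpowers g')
    let D : Sylow 3 K → Finset K := fun P =>
      Finset.univ.filter fun x => x ∈ P ∧ x ∉ zpowers g'
    let S : Finset K := Finset.univ.filter fun x => x ^ 9 = 1
    have hZc : Z.card = 3 := by
      rw [← Nat.card_eq_finsetCard, ← hg3, ← Nat.card_zpowers]
      exact Nat.card_congr (Equiv.subtypeEquivRight fun x => by simp [Z])
    have hDc : ∀ P, (D P).card = 6 := by
      intro P
      have h1 : D P = (Finset.univ.filter (· ∈ P)) \ Z := by ext x; simp [D, Z]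
      have h2 : Z ⊆ Finset.univ.filter (· ∈ P) := by
        intro x hx
        simp only [Z, Finset.mem_filter, Finset.mem_univ, true_and] at hx ⊢
        exact (zpowers_le.2 (hgP P) : zpowers g' ≤ (P : Subgroup K)) hx
      have h3 : (Finset.univ.filter (· ∈ P)).card = 9 := by
        rw [← Nat.card_eq_finsetCard, ← hP9 P]
        exact Nat.card_congr (Equiv.subtypeEquivRight fun x =>
          Finset.mem_filter.trans (and_iff_right (Finset.mem_univ _)))
      rw [h1, Finset.card_sdiff_of_subset h2, hZc, h3]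
    have hDd : ((Finset.univ : Finset (Sylow 3 K)) : Set (Sylow 3 K)).PairwiseDisjoint D := by
      intro P _ Q _ hPQ
      rw [Function.onFun, Finset.disjoint_left]
      intro x hx hx'
      simp only [D, Finset.mem_filter, Finset.mem_univ, true_and] at hx hx'
      apply hPQ
      have hle : zpowers g' ≤ (P : Subgroup K) ⊓ Q := zpowers_le.2 ⟨hgP P, hgP Q⟩
      have hd := card_dvd_of_le (inf_le_left : (P : Subgroup K) ⊓ Q ≤ P)
      rw [show Nat.card (P : Subgroup K) = 9 from hP9 P] at hd
      obtain ⟨j, hj, hj'⟩ := (Nat.dvd_prime_pow Nat.prime_three (m := 2)).1 hd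
      rcases Nat.lt_or_ge j 2 with h | h
      · have : zpowers g' = (P : Subgroup K) ⊓ Q := by
          refine eq_of_le_of_card_ge hle ?_
          rw [Nat.card_zpowers, hg3, hj']
          exact (Nat.pow_le_pow_right (by norm_num) (show j ≤ 1 by omega)).trans (by norm_num)
        exact absurd (this ▸ ⟨hx.1, hx'.1⟩ : x ∈ zpowers g') hx.2
      · have e1 : (P : Subgroup K) ⊓ Q = P := eq_of_le_of_card_ge inf_le_left (by
          rw [hj', show Nat.card (P : Subgroup K) = 9 from hP9 P, show j = 2 by omega]; norm_num)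
        have e2 : (P : Subgroup K) ≤ Q := e1 ▸ inf_le_right
        exact (Sylow.ext (eq_of_le_of_card_ge e2 (le_of_eq ((hP9 Q).trans (hP9 P).symm))))
    have hS : 27 ≤ S.card := by
      have h1 : Disjoint Z (Finset.univ.biUnion D) := by
        rw [Finset.disjoint_left]
        intro x hx hx'
        simp only [Z, D, Finset.mem_filter, Finset.mem_univ, true_and, Finset.mem_biUnion] at hx hx'
        obtain ⟨P, -, h⟩ := hx'
        exact h hx
      have h2 : Z ∪ Finset.univ.biUnion D ⊆ S := by
        intro x hx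
        simp only [Z, D, S, Finset.mem_union, Finset.mem_filter, Finset.mem_univ, true_and,
          Finset.mem_biUnion] at hx ⊢
        rcases hx with hx | ⟨P, hP, -⟩
        · obtain ⟨i, rfl⟩ := mem_zpowers_iff.1 hx
          have h3 : g' ^ 3 = 1 := hg3 ▸ pow_orderOf_eq_one g'
          rw [← zpow_natCast, ← zpow_mul, mul_comm, zpow_mul, zpow_natCast, pow_mul g' 3 3, h3,
            one_pow, one_zpow]
        · exact hx9 P x hP
      have := Finset.card_le_card h2
      rw [Finset.card_union_of_disjoint h1, Finset.card_biUnion hDd, hZc,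
        Finset.sum_congr rfl fun P _ => hDc P, Finset.sum_const, Finset.card_univ,
        ← Nat.card_eq_fintype_card, h4, smul_eq_mul] at this
      omega
    let W₁ : Finset K := {U, A, U * A}
    let T : Finset K := (W₁ ×ˢ Finset.range 3).image fun p => p.1 * g' ^ p.2
    have hW : ∀ w ∈ W₁, w * w = 1 ∧ w ≠ 1 := by
      intro w hw
      simp only [W₁, Finset.mem_insert, Finset.mem_singleton] at hw
      rcases hw with rfl | rfl | rfl
      · exact ⟨hUU, fun h => Img.u_ne_one L (congrArg Subtype.val h)⟩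
      · exact ⟨hAA, fun h => I.a_ne.1 (congrArg Subtype.val h)⟩
      · refine ⟨?_, fun h => I.a_ne.2 ((mul_eq_one_iff_inv_eq.1 (congrArg Subtype.val h)).symm.trans
          (inv_eq_of_mul_eq_one_right L.uu))⟩
        rw [mul_assoc, ← mul_assoc A U A, hAU.eq, mul_assoc U A A, hAA, mul_one, hUU]
    have hcube : ∀ w ∈ W₁, ∀ k : ℕ, (w * g' ^ k) ^ 3 = w := by
      intro w hw k
      rw [((hgc w).pow_right k).mul_pow, ← pow_mul, mul_comm k, pow_mul,
        (hg3 ▸ pow_orderOf_eq_one g' : g' ^ 3 = 1), one_pow, mul_one, pow_succ, pow_two,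
        (hW w hw).1, one_mul]
    have hTc : T.card = 9 := by
      rw [Finset.card_image_of_injOn]
      · have hUA : U ≠ A := fun h => I.a_ne.2 (congrArg Subtype.val h).symm
        have hU : U ≠ U * A := fun h => I.a_ne.1 (congrArg Subtype.val (mul_eq_left.1 h.symm))
        have hA : A ≠ U * A := fun h => Img.u_ne_one L (congrArg Subtype.val (mul_eq_right.1 h.symm))
        simp [W₁, Finset.card_insert_of_notMem, hUA, hU, hA]
      · rintro ⟨w, k⟩ hp ⟨w', k'⟩ hp' h
        simp only [Finset.coe_product, Set.mem_prod, Finset.mem_coe, Finset.mem_range] at hp hp'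
        have e : w = w' := by
          have := congrArg (· ^ 3) h
          simpa [hcube w hp.1, hcube w' hp'.1] using this
        subst e
        have e' : k = k' := pow_injOn_Iio_orderOf (by rw [hg3]; exact hp.2) (by rw [hg3]; exact hp'.2)
          (mul_left_cancel h)
        rw [e']
    have hST : Disjoint S T := by
      rw [Finset.disjoint_left]
      intro x hx hx'
      simp only [S, Finset.mem_filter, Finset.mem_univ, true_and] at hx
      simp only [T, Finset.mem_image, Finset.mem_product] at hx'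
      obtain ⟨⟨w, k⟩, ⟨hw, -⟩, rfl⟩ := hx'
      refine (hW w hw).2 ?_
      rw [show (9 : ℕ) = 3 * 3 from rfl, pow_mul, hcube w hw, pow_succ, pow_two, (hW w hw).1,
        one_mul] at hx
      exact hx
    have huniv : S ∪ T = Finset.univ := by
      refine Finset.eq_univ_of_card _ ?_
      have := Finset.card_le_univ (S ∪ T)
      rw [Finset.card_union_of_disjoint hST, hTc, ← Nat.card_eq_fintype_card, hK] at this
      rw [Finset.card_union_of_disjoint hST, hTc, ← Nat.card_eq_fintype_card, hK]
      omega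
    have hinv : ∀ i : K, i * i = 1 → i ≠ 1 → i ∈ W₁ := by
      intro i hi hi1
      have hmem : i ∈ S ∪ T := huniv ▸ Finset.mem_univ i
      rcases Finset.mem_union.1 hmem with h | h
      · simp only [S, Finset.mem_filter, Finset.mem_univ, true_and] at h
        rw [show (9 : ℕ) = 2 * 4 + 1 from rfl, pow_succ, pow_mul, pow_two, hi, one_pow,
          one_mul] at h
        exact absurd h hi1
      · simp only [T, Finset.mem_image, Finset.mem_product] at h
        obtain ⟨⟨w, k⟩, ⟨hw, -⟩, rfl⟩ := h
        have := hcube w hw k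
        rw [pow_succ, pow_two, hi, one_mul] at this
        rwa [this]
    obtain ⟨P⟩ := (inferInstance : Nonempty (Sylow 3 K))
    obtain ⟨x, hxP, hxg⟩ := hZ P
    have hx3 : x ^ 3 ∈ zpowers g' := by
      let Zp : Subgroup (P : Subgroup K) := (zpowers g').subgroupOf P
      haveI : Zp.Normal := ⟨fun z hz y => by
        have : y * z * y⁻¹ = z := Subtype.ext (by
          simp [(hcomm P _ y.2 _ z.2).eq])
        rwa [this]⟩
      have hZp : Nat.card Zp = 3 :=
        (Nat.card_congr (subgroupOfEquivOfLe (zpowers_le.2 (hgP P))).toEquiv).trans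
          ((Nat.card_zpowers g').trans hg3)
      have hq : Nat.card ((P : Subgroup K) ⧸ Zp) = 3 := by
        have := Subgroup.card_mul_index Zp
        rw [hZp, hP9] at this
        rw [← Subgroup.index_eq_card]
        omega
      have h := pow_card_eq_one' (x := ((⟨x, hxP⟩ : (P : Subgroup K)) : (P : Subgroup K) ⧸ Zp))
      rw [hq, ← QuotientGroup.mk_pow, QuotientGroup.eq_one_iff] at h
      exact h
    have hxu : ¬ Commute (x : G) u := by
      intro hc
      obtain ⟨w, hw, k, -, hk⟩ := inf_g I L (mem_cent.2 hc) (mem_cent.1 x.2)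
      have hw1 : w = 1 := by
        have h9 : (x : G) ^ 9 = 1 := congrArg Subtype.val (hx9 P x hxP)
        have hwg : Commute w (c * d) := by
          rcases hw with rfl | rfl | rfl | rfl
          exacts [Commute.one_left _, L.ug, L.ag, L.ug.mul_left L.ag]
        have hw2 : w * w = 1 := by
          rcases hw with rfl | rfl | rfl | rfl
          exacts [one_mul 1, L.uu, L.aa, by
            rw [mul_assoc, ← mul_assoc a, L.cau.eq, mul_assoc u a, L.aa, mul_one, L.uu]]
        rw [hk, (hwg.pow_right k).mul_pow, ← pow_mul, mul_comm k, show 9 * k = 3 * (3 * k) by ring,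
          pow_mul (c * d), L.cd, one_pow, mul_one, show (9 : ℕ) = 2 * 4 + 1 from rfl, pow_succ,
          pow_mul, pow_two, hw2, one_pow, one_mul] at h9
        exact h9
      rw [hw1, one_mul] at hk
      exact hxg (by rw [show x = g' ^ k from Subtype.ext hk]; exact pow_mem (mem_zpowers g') k)
    have hconj : ∀ y : K, ∀ w : K, w * w = 1 → w ≠ 1 → y⁻¹ * w * y = U ∨ y⁻¹ * w * y = A ∨
        y⁻¹ * w * y = U * A := by
      intro y w hw hw1
      have := hinv (y⁻¹ * w * y) (by
        rw [show y⁻¹ * w * y * (y⁻¹ * w * y) = y⁻¹ * (w * w) * y by group, hw]; group)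
        (fun h => hw1 (by
          have := congrArg (fun z => y * z * y⁻¹) h
          simpa [mul_assoc] using this))
      simpa [W₁] using this
    have hxU : x⁻¹ * U * x ≠ U := fun h => hxu (by
      have h' : U * x = x * U := by rw [← inv_mul_eq_iff_eq_mul, ← mul_assoc]; exact h
      exact (congrArg Subtype.val h').symm)
    have hUA2 : (U * A) * (U * A) = 1 ∧ U * A ≠ 1 := hW _ (by simp [W₁])
    have hinj : ∀ v w : K, x⁻¹ * v * x = x⁻¹ * w * x → v = w := fun v w h =>
      mul_left_cancel (mul_right_cancel h)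
    have hxg' : Commute (x : G) (c * d) := mem_cent.1 x.2
    have h9 : (x : G) ^ 9 = 1 := congrArg Subtype.val (hx9 P x hxP)
    have h3 : (x : G) ^ 3 ∈ zpowers (c * d) := by
      obtain ⟨i, hi⟩ := mem_zpowers_iff.1 hx3
      exact mem_zpowers_iff.2 ⟨i, by
        have := congrArg Subtype.val hi
        push_cast at this
        exact this⟩
    rcases hconj x U hUU (fun h => Img.u_ne_one L (congrArg Subtype.val h)) with h | h | h
    · exact absurd h hxU
    · -- u ↦ a
      refine ⟨x, hxg', h9, h3, congrArg Subtype.val h, ?_⟩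
      rcases hconj x A hAA (fun h => I.a_ne.1 (congrArg Subtype.val h)) with h' | h' | h'
      · exfalso
        apply hxu
        have h2 : (x * x)⁻¹ * U * (x * x) = U := by
          rw [show (x * x)⁻¹ * U * (x * x) = x⁻¹ * (x⁻¹ * U * x) * x by group, h, h']
        have hc2 : Commute (x * x) U := by
          show x * x * U = U * (x * x)
          conv_lhs => rw [← h2]
          group
        have h9' : x ^ 9 = 1 := hx9 P x hxP
        have := hc2.pow_left 5
        rw [← pow_two, ← pow_mul, show 2 * 5 = 9 + 1 from rfl, pow_succ, h9', one_mul] at this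
        exact congrArg Subtype.val this.eq
      · exact absurd (hinj U A (h.trans h'.symm)) fun e => I.a_ne.2 (congrArg Subtype.val e).symm
      · exact congrArg Subtype.val h'
    · -- u ↦ u a : invert
      refine ⟨(x : G)⁻¹, hxg'.inv_left, by rw [inv_pow, h9, inv_one],
        by rw [inv_pow]; exact inv_mem h3, ?_, ?_⟩
      all_goals
        have hUA' : x⁻¹ * (U * A) * x = A := by
          rcases hconj x (U * A) hUA2.1 hUA2.2 with h' | h' | h'
          · exfalso
            apply hxu
            have h2 : (x * x)⁻¹ * U * (x * x) = U := by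
              rw [show (x * x)⁻¹ * U * (x * x) = x⁻¹ * (x⁻¹ * U * x) * x by group, h, h']
            have hc2 : Commute (x * x) U := by
              show x * x * U = U * (x * x)
              conv_lhs => rw [← h2]
              group
            have h9' : x ^ 9 = 1 := hx9 P x hxP
            have := hc2.pow_left 5
            rw [← pow_two, ← pow_mul, show 2 * 5 = 9 + 1 from rfl, pow_succ, h9', one_mul] at this
            exact congrArg Subtype.val this.eq
          · exact h'
          · exact absurd (hinj U (U * A) (h.trans h'.symm)) fun e =>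
              I.a_ne.1 (congrArg Subtype.val (mul_eq_left.1 e.symm))
      · have hA' : x⁻¹ * A * x = U := by
          rw [show x⁻¹ * A * x = x⁻¹ * U * x * (x⁻¹ * (U * A) * x) by
              rw [show x⁻¹ * U * x * (x⁻¹ * (U * A) * x) = x⁻¹ * (U * U * A) * x by group, hUU,
                one_mul], h, hUA', mul_assoc, hAA, mul_one]
        rw [inv_inv, ← show (x : G)⁻¹ * a * x = u from congrArg Subtype.val hA']
        group
      · have h' : (x : G)⁻¹ * (u * a) * x = a := congrArg Subtype.val hUA'
        rw [inv_inv]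
        calc (x : G) * a * (x : G)⁻¹ = x * ((x : G)⁻¹ * (u * a) * x) * (x : G)⁻¹ := by rw [h']
          _ = u * a := by group

theorem card_r (H : Facts G) (I : Img a b c d u F) (L : Local a b c d u) :
    Nat.card (cent (b * a * c * b)) = 192 ∧ Nat.card (cent (a * c * (b * a * c * b))) = 192 := by
  have hb : b⁻¹ = b := inv_eq_of_mul_eq_one_right L.bb
  have ha : a⁻¹ = a := inv_eq_of_mul_eq_one_right L.aa
  have h1 : Nat.card (cent (b * a * c * b)) = 192 := by
    rw [show b * a * c * b = b * (a * c) * b⁻¹ by rw [hb]; simp only [mul_assoc], conj_card_cent,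
      card_e H I L]
  refine ⟨h1, ?_⟩
  have h2 : a * c * (b * a * c * b) = a * (b * a * c * b) * a⁻¹ := by
    have h3 := L.rar
    have h4 := L.r_sq
    generalize b * a * c * b = r at h3 h4 ⊢
    rw [ha, ← h3]
    simp only [mul_assoc]
    rw [h4, mul_one]
  rw [h2, conj_card_cent, h1]

/-- No big involution centralises a copy of `A₄` on `⟨u, a⟩` and an element of order three. -/
theorem not_big (H : Facts G) (I : Img a b c d u F) (L : Local a b c d u) {e h : G}
    (he2 : orderOf e = 2) (hecard : Nat.card (cent e) = 240) (heu : e ≠ u) (hea : e ≠ a)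
    (hu : Commute u e) (ha : Commute a e) (hh : Commute h e)
    (h1 : h⁻¹ * u * h = a) (h2 : h⁻¹ * a * h = u * a) : False := by
  obtain ⟨z, hz⟩ := isConj_iff.1 (H.big_conj u e L.ou he2 L.cu hecard)
  have mv : ∀ x, Commute x e → z⁻¹ * x * z ∈ cent u := by
    intro x hx
    refine mem_cent.2 ?_
    have : u = z⁻¹ * e * z := by rw [← hz]; group
    show z⁻¹ * x * z * u = u * (z⁻¹ * x * z)
    rw [this]
    calc z⁻¹ * x * z * (z⁻¹ * e * z) = z⁻¹ * (x * e) * z := by group
      _ = z⁻¹ * (e * x) * z := by rw [hx.eq]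
      _ = z⁻¹ * e * z * (z⁻¹ * x * z) := by group
  set u' := z⁻¹ * u * z with hu'
  set a' := z⁻¹ * a * z with ha'
  set h' := z⁻¹ * h * z with hh'
  have mu := mv u hu
  have ma := mv a ha
  have mh := mv h hh
  have e1 : a' = h'⁻¹ * u' * h' := by rw [ha', ← h1, hu', hh']; group
  have e2 : u' * a' = h'⁻¹ * a' * h' := by
    calc u' * a' = z⁻¹ * (u * a) * z := by rw [hu', ha']; group
      _ = z⁻¹ * (h⁻¹ * a * h) * z := by rw [h2]
      _ = h'⁻¹ * a' * h' := by rw [hh', ha']; group
  have sconj : ∀ y ∈ cent u, Perm.sign (F (h'⁻¹ * y * h')) = Perm.sign (F y) := by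
    intro y hy
    rw [I.mul _ (mul_mem (inv_mem mh) hy) _ mh, I.mul _ (inv_mem mh) _ hy, I.inv mh, map_mul,
      map_mul, map_inv, mul_comm (Perm.sign (F h'))⁻¹, mul_assoc, inv_mul_cancel, mul_one]
  have s1 : Perm.sign (F a') = Perm.sign (F u') := by rw [e1]; exact sconj _ mu
  have s2 : Perm.sign (F u') = 1 := by
    have := sconj _ ma
    rw [← e2, I.mul _ mu _ ma, map_mul] at this
    exact mul_eq_right.1 this
  have s3 : Perm.sign (F a') = 1 := s1.trans s2
  have invol : ∀ x : G, x * x = 1 → ∀ z : G, z⁻¹ * x * z * (z⁻¹ * x * z) = 1 := by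
    intro x hx z
    calc z⁻¹ * x * z * (z⁻¹ * x * z) = z⁻¹ * (x * x) * z := by group
      _ = 1 := by rw [hx]; group
  have Fsq : ∀ x ∈ cent u, x * x = 1 → F x * F x = 1 := fun x hx h => by
    rw [← I.mul _ hx _ hx, h, I.one]
  have ne1 : ∀ x : G, x ≠ 1 → x ≠ e → Commute x e → F (z⁻¹ * x * z) ≠ 1 := by
    intro x hx1 hxe hxc hF
    rcases I.ker _ (mv x hxc) hF with h | h
    · exact hx1 (by
        have := congrArg (fun y => z * y * z⁻¹) h
        simpa [mul_assoc] using this)
    · exact hxe (by rw [← hz, ← h]; group)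
  have hFu : F u' ≠ 1 := ne1 u (Img.u_ne_one L) (Ne.symm heu) hu
  have hFa : F a' ≠ 1 := ne1 a I.a_ne.1 (Ne.symm hea) ha
  obtain ⟨q, hq⟩ := perm_even_invol _ (Fsq _ mu (invol u L.uu z)) hFu s2
  obtain ⟨w, hw, hwq⟩ := I.surj q
  have fconj : ∀ y ∈ cent u, F (w * y * w⁻¹) = q * F y * q⁻¹ := by
    intro y hy
    rw [I.mul _ (mul_mem hw hy) _ (inv_mem hw), I.mul _ hw _ hy, I.inv hw, hwq]
  set U := w * u' * w⁻¹ with hU
  set A := w * a' * w⁻¹ with hA
  have mU : U ∈ cent u := mul_mem (mul_mem hw mu) (inv_mem hw)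
  have mA : A ∈ cent u := mul_mem (mul_mem hw ma) (inv_mem hw)
  have ca : Nat.card (cent a) = 240 := by rw [← h1, conj_card_cent', L.cu]
  have cua : Nat.card (cent (u * a)) = 240 := by rw [← h2, conj_card_cent', ca]
  have cU : Nat.card (cent U) = 240 := by rw [hU, hu', conj_card_cent, conj_card_cent', L.cu]
  have cA : Nat.card (cent A) = 240 := by rw [hA, ha', conj_card_cent, conj_card_cent', ca]
  have cUA : Nat.card (cent (U * A)) = 240 := by
    rw [show U * A = w * (z⁻¹ * (u * a) * z) * w⁻¹ by rw [hU, hA, hu', ha']; group,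
      conj_card_cent, conj_card_cent', cua]
  have hec : a * c ∈ cent u := mul_mem L.mema L.memc
  have hr : b * a * c * b ∈ cent u := mul_mem (mul_mem (mul_mem L.memb L.mema) L.memc) L.memb
  have hce := card_e H I L
  obtain ⟨hcr, hcer⟩ := card_r H I L
  have hUval : U = u * (a * c) := by
    rcases I.eq_of_eq mU hec ((fconj _ mu).trans (hq.trans (I.f_e L).symm)) with h | h
    · rw [h, hce] at cU; norm_num at cU
    · exact h
  have hcom : F A * pE = pE * F A := by
    have hUA : Commute U A := by
      have : Commute u' a' := by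
        show u' * a' = a' * u'
        calc u' * a' = z⁻¹ * (u * a) * z := by rw [hu', ha']; group
          _ = z⁻¹ * (a * u) * z := by rw [L.cau.eq]
          _ = a' * u' := by rw [hu', ha']; group
      rw [hU, hA]
      exact this.map (MulAut.conj w).toMonoidHom
    have f1 := I.mul _ mA _ mU
    have f2 := I.mul _ mU _ mA
    have fU : F U = pE := (fconj _ mu).trans hq
    rw [fU] at f1 f2
    rw [← f1, ← f2, hUA.eq]
  have hA2 : F A * F A = 1 := Fsq _ mA (by
    rw [hA, ha']
    calc w * (z⁻¹ * a * z) * w⁻¹ * (w * (z⁻¹ * a * z) * w⁻¹)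
        = w * z⁻¹ * (a * a) * z * w⁻¹ := by group
      _ = 1 := by rw [L.aa]; group)
  have hAs : Perm.sign (F A) = 1 := by
    rw [hA, fconj _ ma, map_mul, map_mul, map_inv, mul_comm (Perm.sign q), mul_inv_cancel_right, s3]
  have hue : ∀ y : G, u * (a * c) * (u * y) = a * c * y := fun y => by
    calc u * (a * c) * (u * y) = (u * (a * c)) * u * y := by simp only [mul_assoc]
      _ = a * c * u * u * y := by rw [L.ue.eq]
      _ = a * c * y := by rw [mul_assoc (a * c), L.uu, mul_one]
  rcases perm_cent_even _ hcom hA2 hAs with f | f | f | f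
  · apply hFa
    have := (fconj _ ma).symm.trans f
    rwa [mul_inv_eq_one, mul_eq_left] at this
  · rcases I.eq_of_eq mA hec (f.trans (I.f_e L).symm) with h | h
    · rw [h, hce] at cA; norm_num at cA
    · have hAU : A = U := h.trans hUval.symm
      apply I.a_ne.2
      have := congrArg (fun y => z * (w⁻¹ * y * w) * z⁻¹) hAU
      simpa [hA, hU, ha', hu', mul_assoc] using this
  · rcases I.eq_of_eq mA hr (f.trans (I.f_r L).symm) with h | h
    · rw [h, hcr] at cA; norm_num at cA
    · rw [hUval, h, hue, hcer] at cUA; norm_num at cUA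
  · have f' : F A = F (a * c * (b * a * c * b)) := by rw [I.mul _ hec _ hr, I.f_e L, I.f_r L]; exact f
    rcases I.eq_of_eq mA (mul_mem hec hr) f' with h | h
    · rw [h, hcer] at cA; norm_num at cA
    · rw [hUval, h, hue, ← mul_assoc (a * c), L.e_sq, one_mul, hcr] at cUA; norm_num at cUA

/-- An element of order three of `C(c d) ∩ C(a c)` cycling `u`, `a`, `u a`. -/
theorem exists_h (H : Facts G) (I : Img a b c d u F) (L : Local a b c d u) :
    ∃ h : G, Commute h (c * d) ∧ Commute h (a * c) ∧ h ^ 3 = 1 ∧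
      h⁻¹ * u * h = a ∧ h⁻¹ * a * h = u * a := by
  haveI := H.finite
  obtain ⟨x, hxg, hx9, hx3, hxu, hxa⟩ := exists_cycle H I L
  have hg : c * d ∈ cent u := mul_mem L.memc L.memd
  have hxua : x⁻¹ * (u * a) * x = u := by
    calc x⁻¹ * (u * a) * x = x⁻¹ * u * x * (x⁻¹ * a * x) := by group
      _ = a * (u * a) := by rw [hxu, hxa]
      _ = u := by rw [← mul_assoc, L.cau.eq, mul_assoc, L.aa, mul_one]
  have cu : Commute c u := mem_cent.1 L.memc
  set c' := x⁻¹ * c * x with hc'
  have hc'u : c' ∈ cent u := mem_cent.2 (by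
    show c' * u = u * c'
    rw [← hxua, hc']
    calc x⁻¹ * c * x * (x⁻¹ * (u * a) * x) = x⁻¹ * (c * (u * a)) * x := by group
      _ = x⁻¹ * ((u * a) * c) * x := by rw [(cu.mul_right L.cac.symm).eq]
      _ = x⁻¹ * (u * a) * x * (x⁻¹ * c * x) := by group)
  have hc'a : Commute c' a := by
    show c' * a = a * c'
    rw [← hxu, hc']
    calc x⁻¹ * c * x * (x⁻¹ * u * x) = x⁻¹ * (c * u) * x := by group
      _ = x⁻¹ * (u * c) * x := by rw [cu.eq]
      _ = x⁻¹ * u * x * (x⁻¹ * c * x) := by group
  have hc'2 : c' * c' = 1 := by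
    calc c' * c' = x⁻¹ * (c * c) * x := by rw [hc']; group
      _ = 1 := by rw [L.cc]; group
  have f1 : F c' * swap 0 1 = swap 0 1 * F c' := by
    have e1 := I.mul _ hc'u _ L.mema
    have e2 := I.mul _ L.mema _ hc'u
    rw [I.fa] at e1 e2
    rw [← e1, ← e2, hc'a.eq]
  -- the coset of `c'`
  have hform : ∃ w, InW u a w ∧ ∃ k : ℕ, c' = w * (c * d) ^ k ∨ c' = w * c * (c * d) ^ k := by
    obtain ⟨k, -, h | h | h | h⟩ := perm_cent_swap _ f1
    · rcases I.eq_of_eq hc'u (pow_mem hg k) (by rw [h, I.pow hg, I.f_g L]) with e | e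
      · exact ⟨1, Or.inl rfl, k, Or.inl (by rw [one_mul]; exact e)⟩
      · exact ⟨u, Or.inr (Or.inl rfl), k, Or.inl e⟩
    · rcases I.eq_of_eq hc'u (mul_mem L.mema (pow_mem hg k))
        (by rw [h, I.mul _ L.mema _ (pow_mem hg k), I.fa, I.pow hg, I.f_g L]) with e | e
      · exact ⟨a, Or.inr (Or.inr (Or.inl rfl)), k, Or.inl e⟩
      · exact ⟨u * a, Or.inr (Or.inr (Or.inr rfl)), k, Or.inl (by rw [mul_assoc]; exact e)⟩
    · rcases I.eq_of_eq hc'u (mul_mem L.memc (pow_mem hg k))
        (by rw [h, I.mul _ L.memc _ (pow_mem hg k), I.fc, I.pow hg, I.f_g L]) with e | e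
      · exact ⟨1, Or.inl rfl, k, Or.inr (by rw [one_mul]; exact e)⟩
      · exact ⟨u, Or.inr (Or.inl rfl), k, Or.inr (by rw [mul_assoc]; exact e)⟩
    · rcases I.eq_of_eq hc'u (mul_mem (mul_mem L.mema L.memc) (pow_mem hg k))
        (by rw [h, I.mul _ (mul_mem L.mema L.memc) _ (pow_mem hg k), I.f_e L, I.pow hg, I.f_g L])
        with e | e
      · exact ⟨a, Or.inr (Or.inr (Or.inl rfl)), k, Or.inr e⟩
      · exact ⟨u * a, Or.inr (Or.inr (Or.inr rfl)), k,
          Or.inr (by simp only [mul_assoc] at e ⊢; exact e)⟩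
  obtain ⟨w, hw, k, hk⟩ := hform
  have hwg : Commute w (c * d) := by
    rcases hw with rfl | rfl | rfl | rfl
    exacts [Commute.one_left _, L.ug, L.ag, L.ug.mul_left L.ag]
  rcases hk with hk | hk
  · exfalso
    have hw2 : w * w = 1 := by
      rcases hw with rfl | rfl | rfl | rfl
      exacts [one_mul 1, L.uu, L.aa, by
        rw [mul_assoc, ← mul_assoc a, L.cau.eq, mul_assoc u a, L.aa, mul_one, L.uu]]
    have h2 : ((c * d) ^ k) ^ 2 = 1 := by
      have := hc'2
      rw [hk, ← pow_two, (hwg.pow_right k).mul_pow, pow_two w, hw2, one_mul] at this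
      exact this
    have h1 : (c * d) ^ k = 1 := by
      have h3 : ((c * d) ^ k) ^ 3 = 1 := by rw [← pow_mul, mul_comm, pow_mul, L.cd, one_pow]
      rw [pow_succ, h2, one_mul] at h3
      exact h3
    rw [h1, mul_one] at hk
    have hc : c = x * w * x⁻¹ := by rw [← hk, hc']; group
    have hcases : c = 1 ∨ c = u ∨ c = a ∨ c = u * a := by
      have key : ∀ v v' : G, x⁻¹ * v' * x = v → x * v * x⁻¹ = v' := fun v v' h => by
        rw [← h]; group
      rcases hw with h | h | h | h <;> rw [h] at hc
      · left; rw [hc]; group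
      · right; right; right; rw [hc, key _ _ hxua]
      · right; left; rw [hc, key _ _ hxu]
      · right; right; left; rw [hc, key _ _ hxa]
    have hfc := I.fc
    rcases hcases with e | e | e | e <;> rw [e] at hfc
    · rw [I.one] at hfc; revert hfc; decide
    · rw [I.fu] at hfc; revert hfc; decide
    · rw [I.fa] at hfc; revert hfc; decide
    · rw [I.mul _ L.memu _ L.mema, I.fu, I.fa] at hfc; revert hfc; decide
  · -- adjust by a power of `c d`
    set g := c * d with hgdef
    have hcg : ∀ n : ℕ, (g ^ n)⁻¹ * c = c * g ^ n := by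
      intro n
      have h1 : c * g ^ n * c = (g ^ n)⁻¹ := by
        induction n with
        | zero => simp [L.cc]
        | succ n ih =>
          rw [pow_succ]
          calc c * (g ^ n * g) * c = c * g ^ n * (c * c) * g * c := by
                rw [L.cc]; simp only [mul_one, mul_assoc]
            _ = (c * g ^ n * c) * (c * g * c) := by simp only [mul_assoc]
            _ = (g ^ n * g)⁻¹ := by
                rw [ih, hgdef, L.cgc, ← hgdef, ← mul_inv_rev, ← pow_succ', pow_succ]
      calc (g ^ n)⁻¹ * c = c * g ^ n * (c * c) := by rw [← h1]; simp only [mul_assoc]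
        _ = c * g ^ n := by rw [L.cc, mul_one]
    set y := x * g ^ k with hy
    have hyc : y⁻¹ * c * y = w * c := by
      calc y⁻¹ * c * y = (g ^ k)⁻¹ * c' * g ^ k := by rw [hy, hc']; group
        _ = (g ^ k)⁻¹ * w * c * (g ^ k * g ^ k) := by rw [hk]; simp only [mul_assoc]
        _ = w * ((g ^ k)⁻¹ * c) * (g ^ k * g ^ k) := by
            rw [← (hwg.pow_right k).inv_right.eq]; simp only [mul_assoc]
        _ = w * c * (g ^ k * g ^ k * g ^ k) := by rw [hcg]; simp only [mul_assoc]
        _ = w * c := by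
            rw [← pow_add, ← pow_add, show k + k + k = 3 * k by ring, pow_mul, hgdef, L.cd, one_pow,
              mul_one]
    have hyg : Commute y g := hxg.mul_left ((Commute.refl g).pow_left k)
    have hconj : ∀ v, Commute v g → y⁻¹ * v * y = x⁻¹ * v * x := by
      intro v hv
      have : Commute (x⁻¹ * v * x) (g ^ k) :=
        ((hxg.inv_left.mul_left hv).mul_left hxg).pow_right k
      calc y⁻¹ * v * y = (g ^ k)⁻¹ * (x⁻¹ * v * x * g ^ k) := by rw [hy]; group
        _ = x⁻¹ * v * x := by rw [this.eq, inv_mul_cancel_left]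
    have hyu : y⁻¹ * u * y = a := (hconj u L.ug).trans hxu
    have hya : y⁻¹ * a * y = u * a := (hconj a L.ag).trans hxa
    have hyua : y⁻¹ * (u * a) * y = u := (hconj _ (L.ug.mul_left L.ag)).trans hxua
    -- the fixed element of the coset
    obtain ⟨w₁, hw₁, hfix⟩ : ∃ w₁, InW u a w₁ ∧ y⁻¹ * w₁ * y * w = w₁ := by
      have h1 : a * (u * a) = u := by rw [← mul_assoc, L.cau.eq, mul_assoc, L.aa, mul_one]
      rcases hw with h | h | h | h <;> rw [h]
      · exact ⟨1, Or.inl rfl, by group⟩
      · refine ⟨a, Or.inr (Or.inr (Or.inl rfl)), ?_⟩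
        rw [hya, mul_assoc, L.cau.eq, ← mul_assoc, L.uu, one_mul]
      · exact ⟨u * a, Or.inr (Or.inr (Or.inr rfl)), by rw [hyua]⟩
      · exact ⟨u, Or.inr (Or.inl rfl), by rw [hyu, h1]⟩
    set e := w₁ * c with he
    have hye : Commute y e := by
      have : y⁻¹ * e * y = e := by
        calc y⁻¹ * e * y = y⁻¹ * w₁ * y * (y⁻¹ * c * y) := by rw [he]; group
          _ = y⁻¹ * w₁ * y * w * c := by rw [hyc, ← mul_assoc]
          _ = e := by rw [hfix]
      show y * e = e * y
      calc y * e = y * (y⁻¹ * e * y) := by rw [this]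
        _ = e * y := by group
    have hw₁c : Commute w₁ c ∧ Commute w₁ g ∧ Commute w₁ u ∧ Commute w₁ a ∧ w₁ * w₁ = 1 := by
      rcases hw₁ with rfl | rfl | rfl | rfl
      · exact ⟨Commute.one_left _, Commute.one_left _, Commute.one_left _, Commute.one_left _,
          one_mul 1⟩
      · exact ⟨cu.symm, L.ug, Commute.refl _, L.cau.symm, L.uu⟩
      · exact ⟨L.cac, L.ag, L.cau, Commute.refl _, L.aa⟩
      · refine ⟨cu.symm.mul_left L.cac, L.ug.mul_left L.ag, (Commute.refl u).mul_left L.cau,
          L.cau.symm.mul_left (Commute.refl a), ?_⟩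
        rw [mul_assoc, h_comm_aux L, L.uu]
    obtain ⟨q1, q2, q3, q4, q5⟩ := hw₁c
    have hee : e * e = 1 := by
      rw [he, ← pow_two, q1.mul_pow, pow_two, pow_two, q5, L.cc, one_mul]
    have hy3 : y ^ 3 = 1 := by
      obtain ⟨i, hi⟩ := mem_zpowers_iff.1 hx3
      have hyx : y ^ 3 = x ^ 3 := by
        rw [hy, (hxg.pow_right k).mul_pow, ← pow_mul, mul_comm k, pow_mul, hgdef, L.cd, one_pow,
          mul_one]
      have hei : e⁻¹ = e := inv_eq_of_mul_eq_one_right hee
      have h1 : e * y ^ 3 * e⁻¹ = (y ^ 3)⁻¹ := by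
        rw [hyx, ← hi, ← zpow_neg, ← inv_zpow', ← conj_zpow]
        congr 1
        rw [hei, he]
        calc w₁ * c * g * (w₁ * c) = w₁ * (c * g) * (c * w₁) := by
              conv_lhs => arg 2; rw [q1.eq]
              simp only [mul_assoc]
          _ = w₁ * (c * g * c) * w₁ := by simp only [mul_assoc]
          _ = g⁻¹ := by rw [hgdef, L.cgc, ← hgdef, q2.inv_right.eq, mul_assoc, q5, mul_one]
      rw [(hye.pow_left 3).symm.eq, mul_inv_cancel_right] at h1
      have h2 : (y ^ 3) ^ 2 = 1 := by
        rw [pow_two]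
        nth_rewrite 2 [h1]
        exact mul_inv_cancel _
      have h3 : (y ^ 3) ^ 3 = 1 := by
        rw [hyx, ← pow_mul, show 3 * 3 = 9 from rfl, hx9]
      rw [pow_succ, h2, one_mul] at h3
      exact h3
    have heu : Commute u e := q3.symm.mul_right cu.symm
    have hea : Commute a e := q4.symm.mul_right L.cac
    have hca : Nat.card (cent a) = 240 := by rw [← hxu, conj_card_cent', L.cu]
    have hcua : Nat.card (cent (u * a)) = 240 := by rw [← hxa, conj_card_cent', hca]
    have hz : b * c * (a * b) ∈ cent u :=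
      mul_mem (mul_mem L.memb L.memc) (mul_mem L.mema L.memb)
    have hzc : b * c * (a * b) * a * (b * c * (a * b))⁻¹ = c := by
      have hab : a * b * a * (a * b)⁻¹ = b := by
        rw [mul_inv_rev, inv_eq_of_mul_eq_one_right L.aa, inv_eq_of_mul_eq_one_right L.bb]
        calc a * b * a * (b * a) = a * (b * a * b) * a := by simp only [mul_assoc]
          _ = a * (a * b * a) * a := by rw [braid L.aa L.bb L.ab]
          _ = a * a * b * (a * a) := by simp only [mul_assoc]
          _ = b := by rw [L.aa, one_mul, mul_one]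
      have hbc : b * c * b * (b * c)⁻¹ = c := by
        rw [mul_inv_rev, inv_eq_of_mul_eq_one_right L.bb, inv_eq_of_mul_eq_one_right L.cc]
        calc b * c * b * (c * b) = b * (c * b * c) * b := by simp only [mul_assoc]
          _ = b * (b * c * b) * b := by rw [braid L.bb L.cc L.bc]
          _ = b * b * c * (b * b) := by simp only [mul_assoc]
          _ = c := by rw [L.bb, one_mul, mul_one]
      calc b * c * (a * b) * a * (b * c * (a * b))⁻¹ = b * c * (a * b * a * (a * b)⁻¹) * (b * c)⁻¹ := by
            group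
        _ = c := by rw [hab, hbc]
    have hne : ∀ v : G, F v ≠ F e → e ≠ v := fun v h he => h (by rw [he])
    have hfe : F e = F w₁ * swap 2 3 := by
      have : w₁ ∈ cent u := mem_cent.2 q3
      rw [he, I.mul _ this _ L.memc, I.fc]
    have hF1 : F w₁ = 1 ∨ F w₁ = swap 0 1 := by
      rcases hw₁ with rfl | rfl | rfl | rfl
      · exact Or.inl I.one
      · exact Or.inl I.fu
      · exact Or.inr I.fa
      · exact Or.inr (by rw [I.mul _ L.memu _ L.mema, I.fu, I.fa, one_mul])
    have heu' : e ≠ u := hne u (by rw [hfe, I.fu]; rcases hF1 with h | h <;> rw [h] <;> decide)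
    have hea' : e ≠ a := hne a (by rw [hfe, I.fa]; rcases hF1 with h | h <;> rw [h] <;> decide)
    have he1 : e ≠ 1 := hne 1 (by rw [hfe, I.one]; rcases hF1 with h | h <;> rw [h] <;> decide)
    have he2 : orderOf e = 2 := orderOf_eq_prime (by rw [pow_two, hee]) he1
    have hbig : Nat.card (cent e) = 240 → False := fun h =>
      not_big H I L he2 h heu' hea' heu hea hye hyu hya
    rcases hw₁ with h | h | h | h <;> rw [h] at he
    · exfalso
      apply hbig
      rw [he, one_mul, ← hzc, conj_card_cent, hca]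
    · exfalso
      apply hbig
      rw [he, ← hzc, ← mul_assoc, ← mul_assoc, ← (mem_cent.1 hz).eq, mul_assoc (b * c * (a * b)) u,
        conj_card_cent, hcua]
    · exact ⟨y, hyg, he ▸ hye, hy3, hyu, hya⟩
    · exfalso
      apply hbig
      rw [he, mul_assoc, card_ue H I L]


theorem e_conj_g (L : Local a b c d u) : a * c * (c * d) * (a * c) = (c * d)⁻¹ := by
  calc a * c * (c * d) * (a * c) = a * c * (c * d) * (c * a) := by rw [L.cac.eq]
    _ = a * (c * (c * d) * c) * a := by simp only [mul_assoc]
    _ = (c * d)⁻¹ := by rw [L.cgc, L.ag.inv_right.eq, mul_assoc, L.aa, mul_one]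

theorem h_moves (I : Img a b c d u F) (L : Local a b c d u) {h w : G} (hu : h⁻¹ * u * h = a)
    (ha : h⁻¹ * a * h = u * a) (hw : InW u a w) (hc : Commute w h) : w = 1 := by
  have key : ∀ v v' : G, Commute v h → h⁻¹ * v * h = v' → v = v' := fun v v' hc e => by
    rw [← e, mul_assoc, hc.eq, inv_mul_cancel_left]
  rcases hw with rfl | rfl | rfl | rfl
  · rfl
  · exact absurd (key _ _ hc hu).symm I.a_ne.2
  · exact absurd (right_eq_mul.1 (key _ _ hc ha)) (Img.u_ne_one L)
  · refine absurd (mul_eq_left.1 (key (u * a) u hc ?_)) I.a_ne.1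
    calc h⁻¹ * (u * a) * h = h⁻¹ * u * h * (h⁻¹ * a * h) := by group
      _ = u := by rw [hu, ha, h_comm_aux L]

/-- `C(h) ∩ C(a c)` has no subgroup of order four. -/
theorem not_four (H : Facts G) (I : Img a b c d u F) (L : Local a b c d u) {h : G}
    (hg : Commute h (c * d)) (he : Commute h (a * c)) (h3 : h ^ 3 = 1)
    (hu : h⁻¹ * u * h = a) (ha : h⁻¹ * a * h = u * a) :
    ¬ 4 ∣ Nat.card ↥(cent h ⊓ cent (a * c)) := by
  classical
  haveI := H.finite
  haveI : Fact (Nat.Prime 3) := ⟨Nat.prime_three⟩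
  haveI : Fact (Nat.Prime 2) := ⟨Nat.prime_two⟩
  intro h4
  set g := c * d with hgdef
  set e := a * c with hedef
  have hh1 : h ≠ 1 := fun e => I.a_ne.2 (by rw [← hu, e, inv_one, one_mul, mul_one])
  have ho : orderOf h = 3 := orderOf_eq_prime h3 hh1
  have hgo : orderOf g = 3 := g_order I L
  obtain ⟨-, heo⟩ := e_order I L
  let C := cent h
  let g' : C := ⟨g, mem_cent.2 hg.symm⟩
  let e' : C := ⟨e, mem_cent.2 he.symm⟩
  let h' : C := ⟨h, mem_cent.2 (Commute.refl h)⟩
  have hcent : ∀ x : C, Commute x h' := fun x => Subtype.ext (mem_cent.1 x.2).eq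
  let D : Subgroup C := (cent g).subgroupOf C
  have hgD : g' ∈ D := mem_cent.2 (Commute.refl g)
  have hhD : h' ∈ D := mem_cent.2 hg
  -- powers of `h` commuting with `u`
  have hpow : ∀ j : ℕ, j < 3 → Commute (h ^ j) u → j = 0 := by
    intro j hj hc
    by_contra hj0
    have hco : Commute h u := by
      have : (h ^ j) ^ j = h := by
        rw [← pow_mul]
        rcases (show j = 1 ∨ j = 2 by omega) with rfl | rfl
        · exact pow_one h
        · rw [show 2 * 2 = 3 + 1 from rfl, pow_succ, h3, one_mul]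
      exact this ▸ hc.pow_left j
    exact Img.u_ne_one L (h_moves I L hu ha (Or.inr (Or.inl rfl)) hco.symm)
  have hinj : Function.Injective fun p : Fin 3 × Fin 3 =>
      (⟨g' ^ (p.1 : ℕ) * h' ^ (p.2 : ℕ), mul_mem (pow_mem hgD _) (pow_mem hhD _)⟩ : D) := by
    rintro ⟨i, j⟩ ⟨i', j'⟩ hp
    have hp' : g ^ (i : ℕ) * h ^ (j : ℕ) = g ^ (i' : ℕ) * h ^ (j' : ℕ) :=
      congrArg (fun x : D => ((x : C) : G)) hp
    have hcu : Commute (h ^ (j : ℕ) * (h ^ (j' : ℕ))⁻¹) u := by
      have : h ^ (j : ℕ) * (h ^ (j' : ℕ))⁻¹ = (g ^ (i : ℕ))⁻¹ * g ^ (i' : ℕ) := by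
        rw [eq_inv_mul_iff_mul_eq, ← mul_assoc, hp', mul_inv_cancel_right]
      rw [this]
      exact (L.ug.symm.pow_left _).inv_left.mul_left (L.ug.symm.pow_left _)
    have hjj : (j : ℕ) = j' := by
      have e3 : h ^ (j : ℕ) * (h ^ (j' : ℕ))⁻¹ = h ^ (((j : ℕ) + (3 - j')) % 3) := by
        rw [← pow_eq_pow_mod _ h3, mul_inv_eq_iff_eq_mul, ← pow_add,
          show (j : ℕ) + (3 - j') + j' = j + 3 by omega, pow_add, h3, mul_one]
      rw [e3] at hcu
      have := hpow _ (Nat.mod_lt _ (by norm_num)) hcu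
      omega
    rw [hjj] at hp'
    have hii : (i : ℕ) = i' := pow_injOn_Iio_orderOf (by rw [hgo]; exact i.2)
      (by rw [hgo]; exact i'.2) (mul_right_cancel hp')
    exact Prod.ext (Fin.ext hii) (Fin.ext hjj)
  have hD9 : Nat.card D = 9 := by
    refine le_antisymm ?_ ?_
    · let V := fourSub u a L.uu L.aa L.cau
      have hV : ∀ w : V, (w : G) ∈ cent g := fun w => by
        rcases w.2 with e | e | e | e <;> rw [e]
        exacts [one_mem _, mem_cent.2 L.ug, mem_cent.2 L.ag, mem_cent.2 (L.ug.mul_left L.ag)]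
      let f : D × V → cent g := fun p =>
        ⟨((p.1 : C) : G) * (p.2 : G), mul_mem p.1.2 (hV p.2)⟩
      have hf : Function.Injective f := by
        rintro ⟨m, w⟩ ⟨m', w'⟩ hp
        have hp' : ((m : C) : G) * (w : G) = ((m' : C) : G) * (w' : G) := congrArg Subtype.val hp
        have hw : (((m' : C) : G))⁻¹ * ((m : C) : G) = (w' : G) * (w : G)⁻¹ := by
          rw [eq_mul_inv_iff_mul_eq, mul_assoc, hp', inv_mul_cancel_left]
        have h1 : (w' : G) * (w : G)⁻¹ = 1 := by
          refine h_moves I L hu ha (V.mul_mem w'.2 (V.inv_mem w.2)) ?_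
          rw [← hw]
          exact mem_cent.1 (mul_mem (inv_mem (m' : C).2) (m : C).2)
        rw [h1, inv_mul_eq_one] at hw
        rw [mul_inv_eq_one] at h1
        exact Prod.ext (Subtype.ext (Subtype.ext hw.symm)) (Subtype.ext h1.symm)
      have := Nat.card_le_card_of_injective f hf
      rw [Nat.card_prod, card_fourSub I L, card_g H I L] at this
      omega
    · simpa using Nat.card_le_card_of_injective _ hinj
  have hDform : ∀ x ∈ D, ∃ p : Fin 3 × Fin 3, x = g' ^ (p.1 : ℕ) * h' ^ (p.2 : ℕ) := by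
    intro x hx
    obtain ⟨p, hp⟩ := (Nat.bijective_iff_injective_and_card _).2
      ⟨hinj, by simpa using hD9.symm⟩ |>.2 ⟨x, hx⟩
    exact ⟨p, (congrArg Subtype.val hp).symm⟩
  have hC9 : 9 ∣ Nat.card C := hD9 ▸ Subgroup.card_subgroup_dvd_card D
  have hC4 : 4 ∣ Nat.card C := h4.trans (card_dvd_of_le inf_le_left)
  have hC36 : 36 ∣ Nat.card C := Nat.Coprime.mul_dvd_of_dvd_of_dvd (by norm_num) hC4 hC9
  have hmul := cent_mul_eq he h3 (by rw [pow_two]; exact L.e_sq)
  rcases H.three h ho hC36 with h36 | h72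
  · have h41 := H.six_small h e ho heo he h36 (card_e H I L)
    rw [hmul] at h41
    have := Nat.le_of_dvd Nat.card_pos (card_dvd_of_le (inf_le_left : cent h ⊓ cent e ≤ cent h))
    omega
  · have h14 := H.six_big h e ho heo he h72
    rw [hmul] at h14
    have h24 : Nat.card ↥(cent h ⊓ cent e) = 24 := by
      have d1 := card_dvd_of_le (inf_le_left : cent h ⊓ cent e ≤ cent h)
      have d2 := card_dvd_of_le (inf_le_right : cent h ⊓ cent e ≤ cent e)
      rw [card_e H I L] at d2
      rw [h72] at d1
      obtain ⟨k, hk⟩ : Nat.card ↥(cent h ⊓ cent e) ∣ 24 := Nat.dvd_gcd d1 d2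
      have hk2 : k < 2 := by
        by_contra hcon
        have := Nat.mul_le_mul h14 (not_lt.1 hcon)
        omega
      interval_cases k <;> omega
    obtain ⟨T₀, hT₀⟩ := Sylow.exists_subgroup_card_pow_prime (G := ↥(cent h ⊓ cent e)) 2 (n := 3)
      (by rw [h24]; norm_num)
    let T : Subgroup C := (T₀.map (cent h ⊓ cent e).subtype).subgroupOf C
    have hTle : T₀.map (cent h ⊓ cent e).subtype ≤ C := by
      rintro _ ⟨x, -, rfl⟩
      exact x.2.1
    have hT : Nat.card T = 8 := by
      rw [Nat.card_congr (subgroupOfEquivOfLe hTle).toEquiv,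
        card_map_of_injective (cent h ⊓ cent e).subtype_injective, hT₀]
      norm_num
    have hTe : ∀ t ∈ T, Commute t e' := by
      intro t ht
      obtain ⟨x, -, hx⟩ := ht
      have hx' : (x : G) = (t : G) := hx
      exact Subtype.ext (hx' ▸ mem_cent.1 x.2.2 : Commute (t : G) e).eq
    have hTD : IsComplement' T D := by
      refine isComplement'_of_coprime ?_ ?_
      · rw [hT, hD9]; exact h72.symm
      · rw [hT, hD9]; norm_num
    -- `e'` normalises `D`
    have heN : e' ∈ normalizer (D : Set C) := by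
      have key : ∀ x ∈ D, e' * x * e'⁻¹ ∈ D := by
        intro x hx
        refine mem_cent.2 ?_
        have h1 : Commute (x : G) g⁻¹ := (mem_cent.1 hx).inv_right
        have h2 := h1.map (MulAut.conj e).toMonoidHom
        simp only [MulEquiv.coe_toMonoidHom, MulAut.conj_apply] at h2
        have h3' : e * g⁻¹ * e⁻¹ = g := by
          rw [← conj_inv, inv_eq_of_mul_eq_one_right L.e_sq, e_conj_g L, inv_inv]
        rwa [h3'] at h2
      have hei : e'⁻¹ = e' := inv_eq_of_mul_eq_one_right (Subtype.ext L.e_sq)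
      rw [mem_normalizer_iff]
      refine fun x => ⟨key x, fun hx => ?_⟩
      have := key _ hx
      rwa [hei, show e' * (e' * x * e') * e' = (e' * e') * x * (e' * e') by simp only [mul_assoc],
        show e' * e' = 1 from Subtype.ext L.e_sq, one_mul, mul_one] at this
    have hconj : ∀ x : C, x * e' * x⁻¹ ∈ normalizer (D : Set C) := by
      intro x
      obtain ⟨⟨t, p⟩, htp⟩ := hTD.2 x⁻¹
      have hx : x = (p : C)⁻¹ * (t : C)⁻¹ := by
        rw [← mul_inv_rev, ← inv_inj, inv_inv]; exact htp.symm
      have hp := le_normalizer p.2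
      have hte := hTe t t.2
      have : x * e' * x⁻¹ = (p : C)⁻¹ * e' * (p : C) := by
        calc x * e' * x⁻¹ = (p : C)⁻¹ * ((t : C)⁻¹ * e' * (t : C)) * (p : C) := by rw [hx]; group
          _ = (p : C)⁻¹ * e' * (p : C) := by rw [hte.inv_left.eq, inv_mul_cancel_right]
      rw [this]
      exact mul_mem (mul_mem (inv_mem hp) heN) hp
    have hg3 : g' ^ 3 = 1 := Subtype.ext L.cd
    let S : Sylow 3 C := Sylow.ofCard D (by
      rw [hD9, h72]
      rw [show (72 : ℕ) = 2 ^ 3 * 3 ^ 2 by norm_num, Nat.factorization_mul (by norm_num) (by norm_num),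
        Finsupp.add_apply, Nat.Prime.factorization_pow Nat.prime_two,
        Nat.Prime.factorization_pow Nat.prime_three]
      simp)
    have hconjg : ∀ x : C, x * g' * x⁻¹ ∈ D := by
      intro x
      have hgg : g' = e' * (g' * e' * g'⁻¹) := by
        apply Subtype.ext
        show g = e * (g * e * g⁻¹)
        rw [← mul_assoc, ← mul_assoc, hedef, hgdef, e_conj_g L, ← hgdef, ← mul_inv_rev,
          eq_inv_iff_mul_eq_one, ← mul_assoc, ← pow_three']
        exact L.cd
      have hN : x * g' * x⁻¹ ∈ normalizer (D : Set C) := by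
        have : x * g' * x⁻¹ = x * e' * x⁻¹ * (x * g' * e' * (x * g')⁻¹) := by
          conv_lhs => rw [hgg]
          group
        rw [this]
        exact mul_mem (hconj x) (hconj _)
      have hp : IsPGroup 3 (zpowers (x * g' * x⁻¹)) := by
        rintro ⟨y, hy⟩
        obtain ⟨k, rfl⟩ := mem_zpowers_iff.1 hy
        refine ⟨1, Subtype.ext ?_⟩
        show ((x * g' * x⁻¹) ^ k) ^ (3 ^ 1) = 1
        rw [← zpow_natCast ((x * g' * x⁻¹) ^ k), ← zpow_mul, mul_comm, zpow_mul, zpow_natCast,
          pow_one, conj_pow, hg3, mul_one, mul_inv_cancel, one_zpow]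
      have hin := hp.inf_normalizer_sylow S
      exact ((le_inf (le_refl _) (zpowers_le.2 hN)).trans hin.le).trans inf_le_right (mem_zpowers _)
    have hform : ∀ x : C, ∃ p : Fin 2 × Fin 3,
        x * g' * x⁻¹ = g' ^ ((p.1 : ℕ) + 1) * h' ^ (p.2 : ℕ) := by
      intro x
      obtain ⟨⟨i, j⟩, hij⟩ := hDform _ (hconjg x)
      rcases Nat.eq_zero_or_pos (i : ℕ) with hi | hi
      · exfalso
        rw [hi, pow_zero, one_mul, mul_inv_eq_iff_eq_mul, ((hcent x).pow_right _).symm.eq,
          mul_right_inj] at hij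
        have hgh : g = h ^ (j : ℕ) := congrArg Subtype.val hij
        have hj := hpow j j.2 (hgh ▸ L.ug.symm)
        rw [hj, pow_zero] at hij
        have : orderOf g = 1 := orderOf_eq_one_iff.2 (congrArg Subtype.val hij)
        omega
      · exact ⟨(⟨(i : ℕ) - 1, by omega⟩, j), by rw [hij]; congr 2; simp only; omega⟩
    choose f hf using hform
    have hfi : Function.Injective fun q : C ⧸ D => f q.out := by
      intro q q' hq
      have h1 : q.out * g' * q.out⁻¹ = q'.out * g' * q'.out⁻¹ := by
        rw [hf, hf, show f q.out = f q'.out from hq]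
      rw [← Quotient.out_eq' q, ← Quotient.out_eq' q']
      refine QuotientGroup.eq.2 ?_
      refine mem_cent.2 (congrArg Subtype.val (?_ : q.out⁻¹ * q'.out * g' = g' * (q.out⁻¹ * q'.out)))
      calc q.out⁻¹ * q'.out * g' = q.out⁻¹ * (q'.out * g' * q'.out⁻¹) * q'.out := by group
        _ = g' * (q.out⁻¹ * q'.out) := by rw [← h1]; group
    have h6 := Nat.card_le_card_of_injective _ hfi
    have hi := Subgroup.card_mul_index D
    rw [hD9, h72] at hi
    rw [← Subgroup.index, Nat.card_prod, Nat.card_fin, Nat.card_fin] at h6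
    omega

/-- A normal two-subgroup of `C(a c)` containing `a c` and `b a c b`. -/
theorem exists_Q (H : Facts G) (I : Img a b c d u F) (L : Local a b c d u) {h : G}
    (he : Commute h (a * c)) (h3 : h ^ 3 = 1)
    (hu : h⁻¹ * u * h = a) (ha : h⁻¹ * a * h = u * a) :
    ∃ Q : Subgroup ↥(cent (a * c)), Q.Normal ∧ IsPGroup 2 Q ∧
      ∀ x : ↥(cent (a * c)), ((x : G) = a * c ∨ (x : G) = b * a * c * b) → x ∈ Q := by
  classical
  haveI := H.finite
  haveI : Fact (Nat.Prime 2) := ⟨Nat.prime_two⟩
  set e := a * c with hedef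
  set r := b * a * c * b with hrdef
  let E := cent e
  obtain ⟨P⟩ := (inferInstance : Nonempty (Sylow 2 E))
  have hP : Nat.card P = 64 := by
    rw [P.card_eq_multiplicity, card_e H I L, show (192 : ℕ) = 2 ^ 6 * 3 by norm_num,
      Nat.factorization_mul (by norm_num) (by norm_num), Finsupp.add_apply,
      Nat.Prime.factorization_pow Nat.prime_two, Nat.Prime.factorization Nat.prime_three]
    simp
  have hPi : (P : Subgroup E).index = 3 := by
    have := Subgroup.card_mul_index (P : Subgroup E)
    rw [show Nat.card (P : Subgroup E) = 64 from hP, card_e H I L] at this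
    omega
  have hmem2 : ∀ x : E, ((x : G) = e ∨ (x : G) = r) → x ^ 2 = 1 := fun x hx => Subtype.ext (by
    rcases hx with hx | hx <;>
      rw [SubmonoidClass.coe_pow, hx, pow_two]
    exacts [L.e_sq, L.r_sq])
  have hn := P.card_dvd_index
  rw [hPi] at hn
  rcases (Nat.dvd_prime Nat.prime_three).1 hn with h1 | hn3
  · haveI : Subsingleton (Sylow 2 E) := (Nat.card_eq_one_iff_unique.1 h1).1
    refine ⟨P, P.normal_of_subsingleton, P.isPGroup', fun x hx => ?_⟩
    have hx2 : IsPGroup 2 (zpowers x) := by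
      rintro ⟨y, hy⟩
      obtain ⟨k, rfl⟩ := mem_zpowers_iff.1 hy
      refine ⟨1, Subtype.ext ?_⟩
      show (x ^ k) ^ (2 ^ 1) = 1
      rw [← zpow_natCast (x ^ k), ← zpow_mul, mul_comm, zpow_mul, zpow_natCast, pow_one,
        hmem2 x hx, one_zpow]
    obtain ⟨P', hP'⟩ := hx2.exists_le_sylow
    rw [Subsingleton.elim P P']
    exact hP' (mem_zpowers x)
  · let eq : Sylow 2 E ≃ Fin 3 := (Finite.equivFin (Sylow 2 E)).trans (finCongr hn3)
    let π : E →* Perm (Fin 3) :=
      eq.permCongrHom.toMonoidHom.comp (MulAction.toPermHom E (Sylow 2 E))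
    have hker : ∀ x, π x = 1 ↔ ∀ P' : Sylow 2 E, x • P' = P' := fun x => by
      show eq.permCongrHom (MulAction.toPerm x) = 1 ↔ _
      rw [MulEquiv.map_eq_one_iff, Equiv.ext_iff]
      rfl
    have hNP : normalizer ((P : Subgroup E) : Set E) = P := by
      refine (eq_of_le_of_card_ge le_normalizer ?_).symm
      have h1 := Subgroup.card_mul_index (normalizer ((P : Subgroup E) : Set E))
      have h2 := P.card_eq_index_normalizer
      rw [hn3] at h2
      rw [show (normalizer ((P : Subgroup E) : Set E)).index = 3 from h2.symm, card_e H I L] at h1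
      rw [show Nat.card (P : Subgroup E) = 64 from hP]
      omega
    have hK : π.ker ≤ (P : Subgroup E) := fun x hx => by
      rw [← hNP]
      exact Sylow.smul_eq_iff_mem_normalizer.1 ((hker x).1 hx P)
    have hK2 : IsPGroup 2 π.ker := P.isPGroup'.to_le hK
    refine ⟨π.ker, π.normal_ker, hK2, ?_⟩
    have mh : h ∈ E := mem_cent.2 he
    have mu : u ∈ E := mem_cent.2 L.ue
    have mr : r ∈ E := mem_cent.2 L.re
    have mme : e ∈ E := mem_cent.2 (Commute.refl e)
    have ma : a ∈ E := mem_cent.2 ((Commute.refl a).mul_right L.cac)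
    let h' : E := ⟨h, mh⟩
    let u' : E := ⟨u, mu⟩
    let a' : E := ⟨a, ma⟩
    let r' : E := ⟨r, mr⟩
    let e' : E := ⟨e, mme⟩
    have hh' : h' ^ 3 = 1 := Subtype.ext h3
    have hh1 : h ≠ 1 := fun e => I.a_ne.2 (by rw [← hu, e, inv_one, one_mul, mul_one])
    have hπh : π h' ≠ 1 := by
      intro hc
      obtain ⟨n, hn⟩ := hK2 ⟨h', hc⟩
      have hn' : h ^ 2 ^ n = 1 := congrArg (fun x : π.ker => ((x : E) : G)) hn
      have hd := orderOf_dvd_of_pow_eq_one hn'
      rw [orderOf_eq_prime h3 hh1] at hd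
      exact absurd (Nat.prime_three.dvd_of_dvd_pow hd) (by norm_num)
    have hπu : π u' = 1 := by
      refine perm_three_cube _ (π h') ?_ ?_ hπh ?_
      · rw [← map_mul, show u' * u' = 1 from Subtype.ext L.uu, map_one]
      · rw [← map_pow, hh', map_one]
      · have : h'⁻¹ * u' * h' = a' := Subtype.ext hu
        rw [← map_inv, ← map_mul, ← map_mul, this, ← map_mul, ← map_mul]
        exact congrArg π (Subtype.ext L.cau.symm.eq)
    intro x hx
    rcases hx with hx | hx
    · refine (hker x).2 fun P' => Sylow.smul_eq_iff_mem_normalizer.2 ?_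
      rw [show x = e' from Subtype.ext hx]
      have hz : ∀ y : E, Commute e' y := fun y => Subtype.ext (mem_cent.1 y.2).symm.eq
      refine Subgroup.mem_normalizer_iff.2 fun y => ?_
      rw [(hz y).eq, mul_inv_cancel_right]
    · rw [show x = r' from Subtype.ext hx, MonoidHom.mem_ker]
      by_contra hπr
      set s := h' * r' * h' * r' with hs
      have hsK : s ∈ π.ker := by
        rw [MonoidHom.mem_ker, hs, map_mul, map_mul, map_mul]
        refine perm_three_inv _ _ ?_ hπr (by rw [← map_pow, hh', map_one])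
        rw [← map_mul, show r' * r' = 1 from Subtype.ext L.r_sq, map_one]
      obtain ⟨m, hm⟩ := hK2 ⟨s, hsK⟩
      set t := h * r * h * r with ht
      have ht2 : t ^ 2 ^ m = 1 := congrArg (fun x : π.ker => ((x : E) : G)) hm
      have hr := L.r_sq
      rw [← hrdef] at hr
      have hrar : r * a * r = a * e := by
        rw [hrdef, L.rar, hedef, ← mul_assoc, L.aa, one_mul]
      have hrur : r * u * r = u := by
        have hru : Commute r u := mem_cent.1 (mul_mem (mul_mem (mul_mem L.memb L.mema) L.memc) L.memb)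
        rw [hru.eq, mul_assoc, hr, mul_one]
      have hri : r⁻¹ = r := inv_eq_of_mul_eq_one_right hr
      have hrer : r * e * r = e := by rw [(show Commute r e from L.re).eq, mul_assoc, hr, mul_one]
      have heh : h⁻¹ * e * h = e := by rw [mul_assoc, ← he.eq, inv_mul_cancel_left]
      let φ : G →* G := (MulAut.conj t⁻¹).toMonoidHom
      have hφ : ∀ y, φ y = r * (h⁻¹ * (r * (h⁻¹ * y * h) * r) * h) * r := fun y => by
        simp [φ, ht, hri, mul_assoc]
      have rm : ∀ y z : G, r * (y * z) * r = r * y * r * (r * z * r) := fun y z => by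
        calc r * (y * z) * r = r * y * (r * r) * z * r := by rw [hr]; simp only [mul_one, mul_assoc]
          _ = r * y * r * (r * z * r) := by simp only [mul_assoc]
      have hm' : ∀ y z : G, h⁻¹ * (y * z) * h = h⁻¹ * y * h * (h⁻¹ * z * h) := fun y z => by group
      have fe : φ e = e := by rw [hφ, heh, hrer, heh, hrer]
      have fu : φ u = u * a := by
        rw [hφ, hu, hrar, hm', ha, heh, mul_assoc u a, rm, rm, hrur, hrar, hrer, mul_assoc a e e,
          L.e_sq, mul_one]
      have fua : φ (u * a) = a * e := by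
        rw [hφ, hm' u a, hu, ha, h_comm_aux L, hrur, hu, hrar]
      have fa : φ a = u * e := by
        rw [show a = u * (u * a) by rw [← mul_assoc, L.uu, one_mul], map_mul, fu, fua]
        calc u * a * (a * e) = u * (a * a) * e := by simp only [mul_assoc]
          _ = u * e := by rw [L.aa, mul_one]
      have f3 : φ (φ (φ u)) = u := by
        rw [fu, fua, map_mul, fa, fe, mul_assoc, L.e_sq, mul_one]
      have hc3 : Commute u (t ^ 3) := by
        have f3' : (t ^ 3)⁻¹ * u * t ^ 3 = u := by
          conv_rhs => rw [← f3]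
          simp [φ, pow_succ, mul_assoc]
        show u * t ^ 3 = t ^ 3 * u
        calc u * t ^ 3 = t ^ 3 * ((t ^ 3)⁻¹ * u * t ^ 3) := by group
          _ = t ^ 3 * u := by rw [f3']
      have hct : Commute u t := by
        have hcop : Nat.Coprime 3 (orderOf t) :=
          Nat.Coprime.coprime_dvd_right (orderOf_dvd_of_pow_eq_one ht2)
            (Nat.Coprime.pow_right m (by norm_num))
        obtain ⟨j, hj⟩ := exists_pow_eq_self_of_coprime hcop
        exact hj ▸ hc3.pow_right j
      have : φ u = u := by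
        show t⁻¹ * u * t⁻¹⁻¹ = u
        rw [inv_inv, mul_assoc, hct.eq, inv_mul_cancel_left]
      rw [fu] at this
      exact I.a_ne.1 (mul_eq_left.1 this)

/-- The cube of `h (b a c b)` lies in `⟨a c⟩`. -/
theorem cube_hr (H : Facts G) (I : Img a b c d u F) (L : Local a b c d u) {h : G}
    (hg : Commute h (c * d)) (he : Commute h (a * c)) (h3 : h ^ 3 = 1)
    (hu : h⁻¹ * u * h = a) (ha : h⁻¹ * a * h = u * a) :
    (h * (b * a * c * b)) ^ 3 = 1 ∨ (h * (b * a * c * b)) ^ 3 = a * c := by
  classical
  haveI := H.finite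
  haveI : Fact (Nat.Prime 2) := ⟨Nat.prime_two⟩
  obtain ⟨he1, heo⟩ := e_order I L
  set e := a * c with hedef
  obtain ⟨Q, hQn, hQ2, hQm⟩ := exists_Q H I L he h3 hu ha
  let E := cent e
  let h' : E := ⟨h, mem_cent.2 he⟩
  let e' : E := ⟨e, mem_cent.2 (Commute.refl e)⟩
  let r' : E := ⟨b * a * c * b, mem_cent.2 L.re⟩
  have heQ : e' ∈ Q := hQm e' (Or.inl rfl)
  have hee : e' * e' = 1 := Subtype.ext L.e_sq
  have hz : ∀ y : E, Commute e' y := fun y => Subtype.ext (mem_cent.1 y.2).symm.eq
  have hh' : h' ^ 3 = 1 := Subtype.ext h3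
  have fix2 : ∀ y ∈ Q, Commute y h' → y = 1 ∨ y = e' := by
    intro y hy hc
    set R := Q ⊓ centralizer {h'} with hR
    have hyR : y ∈ R := ⟨hy, Subgroup.mem_centralizer_singleton_iff.2 hc.eq⟩
    have heR : zpowers e' ≤ R :=
      zpowers_le.2 ⟨heQ, Subgroup.mem_centralizer_singleton_iff.2 (hz h').eq⟩
    have he'o : orderOf e' = 2 := (Subgroup.orderOf_mk _ _).trans heo
    have hRd : Nat.card R ∣ Nat.card ↥(cent h ⊓ E) := by
      have hle : R.map E.subtype ≤ cent h ⊓ E := by
        rintro _ ⟨z, hz, rfl⟩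
        exact ⟨mem_cent.2 (congrArg Subtype.val
          (Subgroup.mem_centralizer_singleton_iff.1 hz.2) : _), z.2⟩
      have := card_dvd_of_le hle
      rwa [card_map_of_injective E.subtype_injective] at this
    obtain ⟨n, hn⟩ := (hQ2.to_le (inf_le_left : R ≤ Q)).exists_card_eq
    have hR2 : Nat.card R ≤ 2 := by
      rcases Nat.lt_or_ge n 2 with h2 | h2
      · rw [hn]
        interval_cases n <;> norm_num
      · exact absurd ((pow_dvd_pow 2 h2).trans (hn ▸ hRd)) (not_four H I L hg he h3 hu ha)
    have hzR : zpowers e' = R := eq_of_le_of_card_ge heR (by rwa [Nat.card_zpowers, he'o])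
    rw [← hzR, mem_zpowers_iff] at hyR
    obtain ⟨k, rfl⟩ := hyR
    rcases Int.even_or_odd k with ⟨j, rfl⟩ | ⟨j, rfl⟩
    · left; rw [← two_mul, zpow_mul, zpow_two, hee, one_zpow]
    · right; rw [zpow_add_one, zpow_mul, zpow_two, hee, one_zpow, one_mul]
  haveI : Fintype Q := Fintype.ofFinite _
  let ψ : Q → Q := fun y =>
    ⟨h'⁻¹ * (y : E)⁻¹ * h' * y, mul_mem (by simpa using hQn.conj_mem _ (inv_mem y.2) h'⁻¹) y.2⟩
  let eQ : Q := ⟨e', heQ⟩
  set S := (Finset.univ : Finset Q).image ψ with hS
  have hfib : ∀ z ∈ S, ((Finset.univ : Finset Q).filter fun y => ψ y = z).card ≤ 2 := by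
    intro z hzS
    obtain ⟨y, -, rfl⟩ := Finset.mem_image.1 hzS
    refine le_trans (Finset.card_le_card (t := {y, eQ * y}) fun x hx => ?_) (Finset.card_le_two)
    have hxy : h'⁻¹ * (x : E)⁻¹ * h' * (x : E) = h'⁻¹ * (y : E)⁻¹ * h' * (y : E) :=
      congrArg Subtype.val (Finset.mem_filter.1 hx).2
    have hc : Commute ((x : E) * (y : E)⁻¹) h' := by
      show (x : E) * (y : E)⁻¹ * h' = h' * ((x : E) * (y : E)⁻¹)
      calc (x : E) * (y : E)⁻¹ * h' = (x : E) * h' * (h'⁻¹ * (y : E)⁻¹ * h' * y) * (y : E)⁻¹ := by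
            group
        _ = h' * ((x : E) * (y : E)⁻¹) := by rw [← hxy]; group
    rcases fix2 _ (mul_mem x.2 (inv_mem y.2)) hc with e1 | e1
    · exact Finset.mem_insert.2 (Or.inl (Subtype.ext (mul_inv_eq_one.1 e1)))
    · exact Finset.mem_insert_of_mem
        (Finset.mem_singleton.2 (Subtype.ext (mul_inv_eq_iff_eq_mul.1 e1)))
  have hdisj : Disjoint S (S.image (· * eQ)) := by
    rw [Finset.disjoint_left]
    intro z hz1 hz2
    obtain ⟨y, -, rfl⟩ := Finset.mem_image.1 hz1
    obtain ⟨z', hz', hzz⟩ := Finset.mem_image.1 hz2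
    obtain ⟨y', -, rfl⟩ := Finset.mem_image.1 hz'
    have e1 : h'⁻¹ * (y' : E)⁻¹ * h' * y' * e' = h'⁻¹ * (y : E)⁻¹ * h' * y :=
      congrArg Subtype.val hzz
    have e2 : (y' : E)⁻¹ * h' * y' * e' = (y : E)⁻¹ * h' * y := by
      have := congrArg (h' * ·) e1
      simpa [mul_assoc] using this
    have e3 := congrArg (· ^ 3) e2
    simp only [(hz _).symm.mul_pow] at e3
    rw [show (y' : E)⁻¹ * h' * y' = (y' : E)⁻¹ * h' * ((y' : E)⁻¹)⁻¹ by rw [inv_inv],
      show (y : E)⁻¹ * h' * y = (y : E)⁻¹ * h' * ((y : E)⁻¹)⁻¹ by rw [inv_inv],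
      conj_pow, conj_pow, hh', mul_one, mul_one, mul_inv_cancel, mul_inv_cancel, one_mul, pow_succ,
      pow_two, hee, one_mul] at e3
    exact he1 (congrArg Subtype.val e3)
  have hall : S ∪ S.image (· * eQ) = Finset.univ := by
    refine Finset.eq_univ_of_card _ (le_antisymm (Finset.card_le_univ _) ?_)
    rw [Finset.card_union_of_disjoint hdisj,
      Finset.card_image_of_injective _ (mul_left_injective eQ)]
    have := Finset.card_le_mul_card_image (Finset.univ : Finset Q) 2 hfib
    rw [Finset.card_univ, ← hS] at this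
    omega
  have hrQ : (⟨r', hQm r' (Or.inr rfl)⟩ : Q) ∈ S ∪ S.image (· * eQ) := by
    rw [hall]; exact Finset.mem_univ _
  rcases Finset.mem_union.1 hrQ with hm | hm
  · obtain ⟨y, -, hy⟩ := Finset.mem_image.1 hm
    left
    have hy' : h⁻¹ * ((y : E) : G)⁻¹ * h * ((y : E) : G) = b * a * c * b :=
      congrArg (fun q : Q => ((q : E) : G)) hy
    rw [← hy']
    have : h * (h⁻¹ * ((y : E) : G)⁻¹ * h * ((y : E) : G)) =
        ((y : E) : G)⁻¹ * h * (((y : E) : G)⁻¹)⁻¹ := by group
    rw [this, conj_pow, h3, mul_one, mul_inv_cancel]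
  · obtain ⟨z, hz', hz2⟩ := Finset.mem_image.1 hm
    obtain ⟨y, -, rfl⟩ := Finset.mem_image.1 hz'
    right
    have hy' : h⁻¹ * ((y : E) : G)⁻¹ * h * ((y : E) : G) * e = b * a * c * b :=
      congrArg (fun q : Q => ((q : E) : G)) hz2
    rw [← hy']
    have : h * (h⁻¹ * ((y : E) : G)⁻¹ * h * ((y : E) : G) * e) =
        ((y : E) : G)⁻¹ * h * (((y : E) : G)⁻¹)⁻¹ * e := by group
    have hce : Commute (((y : E) : G)⁻¹ * h * (((y : E) : G)⁻¹)⁻¹) e := by
      have hye : Commute ((y : E) : G) e := mem_cent.1 (y : E).2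
      exact (hye.inv_left.mul_left he).mul_left (by rw [inv_inv]; exact hye)
    rw [this, hce.mul_pow, conj_pow, h3, mul_one, mul_inv_cancel, one_mul, pow_succ, pow_two,
      L.e_sq, one_mul]

/-- The presentation holds in a group of order 95040 with the given local structure. -/
theorem exists_rel (H : Facts G) (L : Local a b c d u) : ∃ h, Rel a b c d u h := by
  obtain ⟨F, I⟩ := L.exists_img
  obtain ⟨h, hg, he, h3, hu, ha⟩ := exists_h H I L
  have sq : ∀ {y : G}, y ∈ cent u → y * y = 1 → (u * y) ^ 2 = 1 := fun {y} hy hy2 => by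
    rw [(mem_cent.1 hy).symm.mul_pow, pow_two, pow_two, L.uu, hy2, one_mul]
  have mk : ∀ h : G, Commute h (c * d) → Commute h (a * c) → h ^ 3 = 1 → h⁻¹ * u * h = a →
      h⁻¹ * a * h = u * a → (h * (b * a * c * b)) ^ 3 = 1 → Rel a b c d u h :=
    fun h x1 x2 x3 x4 x5 x6 => {
      aa := L.aa, bb := L.bb, cc := L.cc, dd := L.dd, uu := L.uu
      ab := L.ab, bc := L.bc, cd := L.cd, ac := L.ac, ad := L.ad, bd := L.bd
      ua := sq L.mema L.aa, ub := sq L.memb L.bb, uc := sq L.memc L.cc, ud := sq L.memd L.dd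
      hh := x3, hg := x1, hd := x2, hu := x4, ha := x5, hr := x6 }
  rcases cube_hr H I L hg he h3 hu ha with h1 | h1
  · exact ⟨h, mk h hg he h3 hu ha h1⟩
  · refine ⟨h * a, mk _ (hg.mul_left L.ag) (he.mul_left ((Commute.refl a).mul_right L.cac)) ?_ ?_ ?_ ?_⟩
    · have h12 : h * a = u * h := by rw [← hu]; group
      have h13 : h * u = u * a * h := by
        have e1 : h⁻¹ * (u * a) * h = u := by
          calc h⁻¹ * (u * a) * h = h⁻¹ * u * h * (h⁻¹ * a * h) := by group
            _ = u := by rw [hu, ha, h_comm_aux L]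
        calc h * u = h * (h⁻¹ * (u * a) * h) := by rw [e1]
          _ = u * a * h := by group
      calc (h * a) ^ 3 = h * a * (h * a) * (h * a) := by simp [pow_succ, mul_assoc]
        _ = u * (h * u) * (h * (h * a)) := by rw [h12]; simp only [mul_assoc]
        _ = u * (u * a * h) * (h * (h * a)) := by rw [h13]
        _ = (u * u) * a * h ^ 3 * a := by simp [pow_succ, mul_assoc]
        _ = 1 := by rw [L.uu, one_mul, h3, mul_one, L.aa]
    · rw [mul_inv_rev, inv_eq_of_mul_eq_one_right L.aa,
        show a * h⁻¹ * u * (h * a) = a * (h⁻¹ * u * h) * a by group, hu, L.aa, one_mul]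
    · rw [mul_inv_rev, inv_eq_of_mul_eq_one_right L.aa,
        show a * h⁻¹ * a * (h * a) = a * (h⁻¹ * a * h) * a by group, ha, h_comm_aux L]
    · set r := b * a * c * b with hrdef
      set e := a * c with hedef
      have hrr : r * r = 1 := L.r_sq
      have hae : a * e = c := by rw [hedef, ← mul_assoc, L.aa, one_mul]
      have hca : r * a = a * e * r := by
        calc r * a = r * a * (r * r) := by rw [hrr, mul_one]
          _ = a * e * r := by rw [← mul_assoc, hrdef, L.rar, ← hrdef, ← hae]
      have hru : Commute r u := mem_cent.1 (mul_mem (mul_mem (mul_mem L.memb L.mema) L.memc) L.memb)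
      have her : Commute r e := L.re
      have hue : Commute u e := L.ue
      have hha : h * a = u * h := by rw [← hu]; group
      have hhu : h * u = u * a * h := by
        have e1 : h⁻¹ * (u * a) * h = u := by
          calc h⁻¹ * (u * a) * h = h⁻¹ * u * h * (h⁻¹ * a * h) := by group
            _ = u := by rw [hu, ha, h_comm_aux L]
        calc h * u = h * (h⁻¹ * (u * a) * h) := by rw [e1]
          _ = u * a * h := by group
      have x1 : h * r * u = u * a * (h * r) := by
        rw [mul_assoc, hru.eq, ← mul_assoc, hhu]; simp only [mul_assoc]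
      have x2 : h * r * a = u * e * (h * r) := by
        calc h * r * a = h * (r * a) := mul_assoc _ _ _
          _ = h * a * e * r := by rw [hca]; simp only [mul_assoc]
          _ = u * (h * e) * r := by rw [hha]; simp only [mul_assoc]
          _ = u * e * (h * r) := by rw [he.eq]; simp only [mul_assoc]
      have hae' : Commute a e := (Commute.refl a).mul_right L.cac
      calc (h * a * r) ^ 3 = u * (h * r) * (u * (h * r)) * (u * (h * r)) := by
            rw [hha]; simp [pow_succ, mul_assoc]
        _ = u * (h * r * u) * (h * r) * u * (h * r) := by simp only [mul_assoc]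
        _ = u * (u * a) * (h * r) * (h * r * u) * (h * r) := by
            conv_lhs => rw [x1]
            simp only [mul_assoc]
        _ = a * (h * r * u) * (a * (h * r)) * (h * r) := by
            conv_lhs => rw [← mul_assoc u u, L.uu, one_mul, x1]
            simp only [mul_assoc]
        _ = a * (u * a) * (h * r * a) * (h * r) * (h * r) := by
            conv_lhs => rw [x1]
            simp only [mul_assoc]
        _ = u * (u * e) * ((h * r) * (h * r) * (h * r)) := by
            rw [h_comm_aux L, x2]; simp only [mul_assoc]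
        _ = e * e := by
            rw [← mul_assoc u u, L.uu, one_mul,
              show h * r * (h * r) * (h * r) = (h * r) ^ 3 by simp [pow_succ, mul_assoc], h1]
        _ = 1 := L.e_sq


end Cfsg.Agent.Order95040
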