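import Cfsg.Agent.Lib.Order95040.Facts

/-!
# Preliminaries: the image of the centraliser of an involution in `Perm (Fin 5)`

Computations in S5 and consequences of the relations in `Local`.
-/

set_option autoImplicit false
set_option synthInstance.maxSize 512

namespace Cfsg.Agent.Order95040

open Subgroup Equiv

/-- The image of `a * c`. -/
abbrev pE : Perm (Fin 5) := swap 0 1 * swap 2 3

theorem perm_cent_pE_card :
    (Finset.univ.filter fun p : Perm (Fin 5) => p * pE = pE * p).card = 8 := by decide +kernel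

theorem perm_cent_pE_gen : ∀ p : Perm (Fin 5), p * pE = pE * p →
    p ∈ [1, pE, swap 0 1, pE * swap 0 1, swap 0 2 * swap 1 3, pE * (swap 0 2 * swap 1 3),
      swap 0 1 * (swap 0 2 * swap 1 3), pE * (swap 0 1 * (swap 0 2 * swap 1 3))] := by decide +kernel

theorem perm_central : ∀ p : Perm (Fin 5), p * pE = pE * p → p * swap 0 1 = swap 0 1 * p →
    p * (swap 0 2 * swap 1 3) = swap 0 2 * swap 1 3 * p → p = 1 ∨ p = pE := by decide +kernel

theorem perm_cent_three : ∀ p : Perm (Fin 5),
    p * (swap 2 3 * swap 3 4) = swap 2 3 * swap 3 4 * p →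
    ∃ k < 3, p = (swap 2 3 * swap 3 4) ^ k ∨ p = swap 0 1 * (swap 2 3 * swap 3 4) ^ k := by
  decide +kernel

theorem perm_cent_swap : ∀ p : Perm (Fin 5), p * swap 0 1 = swap 0 1 * p →
    ∃ k < 3, p = (swap 2 3 * swap 3 4) ^ k ∨ p = swap 0 1 * (swap 2 3 * swap 3 4) ^ k ∨
      p = swap 2 3 * (swap 2 3 * swap 3 4) ^ k ∨
      p = swap 0 1 * swap 2 3 * (swap 2 3 * swap 3 4) ^ k := by
  decide +kernel

theorem perm_even_invol : ∀ p : Perm (Fin 5), p * p = 1 → p ≠ 1 → Perm.sign p = 1 →
    ∃ z : Perm (Fin 5), z * p * z⁻¹ = pE := by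
  decide +kernel

theorem perm_cent_even : ∀ p : Perm (Fin 5), p * pE = pE * p → p * p = 1 → Perm.sign p = 1 →
    p = 1 ∨ p = pE ∨ p = swap 0 2 * swap 1 3 ∨ p = pE * (swap 0 2 * swap 1 3) := by
  decide +kernel

theorem perm_three_cube : ∀ p q : Perm (Fin 3), p * p = 1 → q ^ 3 = 1 → q ≠ 1 →
    p * (q⁻¹ * p * q) = q⁻¹ * p * q * p → p = 1 := by
  decide +kernel

theorem perm_three_inv : ∀ p q : Perm (Fin 3), p * p = 1 → p ≠ 1 → q ^ 3 = 1 →
    q * p * q * p = 1 := by
  decide +kernel


variable {G : Type*} [Group G] {a b c d u : G}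

theorem mem_cent {x z : G} : x ∈ cent z ↔ Commute x z := by
  rw [Subgroup.mem_centralizer_singleton_iff]
  exact Iff.rfl

theorem conj_card_cent (z x : G) : Nat.card (cent (z * x * z⁻¹)) = Nat.card (cent x) := by
  refine (Nat.card_congr (Equiv.subtypeEquiv (MulAut.conj z).toEquiv fun y => ?_)).symm
  rw [mem_cent, mem_cent]
  exact ((MulAut.conj z).toEquiv.injective.eq_iff' rfl).symm.trans
    (by simp [Commute, SemiconjBy, MulAut.conj_apply, mul_assoc])

theorem conj_card_cent' (z x : G) : Nat.card (cent (z⁻¹ * x * z)) = Nat.card (cent x) := by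
  simpa using conj_card_cent z⁻¹ x

theorem mem_cent_of_pow {x y z : G} (n : ℕ) (hn : y ^ n = z) (h : x ∈ cent y) : x ∈ cent z := by
  rw [mem_cent] at h ⊢
  exact hn ▸ h.pow_right n

theorem cent_mul_eq {x y : G} (hc : Commute x y) (hx : x ^ 3 = 1) (hy : y ^ 2 = 1) :
    cent (x * y) = cent x ⊓ cent y := by
  apply le_antisymm
  · intro z hz
    refine ⟨mem_cent_of_pow 4 ?_ hz, mem_cent_of_pow 3 ?_ hz⟩
    · rw [hc.mul_pow, pow_succ x 3, hx, one_mul, show (4 : ℕ) = 2 * 2 from rfl, pow_mul, hy, one_pow,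
        mul_one]
    · rw [hc.mul_pow, hx, one_mul, pow_succ, hy, one_mul]
  · rintro z ⟨h1, h2⟩
    exact mem_cent.2 ((mem_cent.1 h1).mul_right (mem_cent.1 h2))

theorem Local.aa (L : Local a b c d u) : a * a = 1 := by
  rw [← pow_two, ← L.oa, pow_orderOf_eq_one]

theorem Local.bb (L : Local a b c d u) : b * b = 1 := by
  rw [← pow_two, ← L.ob, pow_orderOf_eq_one]

theorem Local.cc (L : Local a b c d u) : c * c = 1 := by
  rw [← pow_two, ← L.oc, pow_orderOf_eq_one]

theorem Local.dd (L : Local a b c d u) : d * d = 1 := by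
  rw [← pow_two, ← L.od, pow_orderOf_eq_one]

theorem Local.uu (L : Local a b c d u) : u * u = 1 := by
  rw [← pow_two, ← L.ou, pow_orderOf_eq_one]

theorem commute_of_sq {x y : G} (hx : x * x = 1) (hy : y * y = 1) (h : (x * y) ^ 2 = 1) :
    Commute x y := by
  have h' := eq_inv_of_mul_eq_one_left ((pow_two _).symm.trans h)
  rw [mul_inv_rev, inv_eq_of_mul_eq_one_right hx, inv_eq_of_mul_eq_one_right hy] at h'
  exact h'

theorem braid {x y : G} (hx : x * x = 1) (hy : y * y = 1) (h : (x * y) ^ 3 = 1) :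
    x * y * x = y * x * y := by
  have h' : x * y * x * (y * x * y) = 1 := by rw [← h]; simp [pow_succ, mul_assoc]
  rw [eq_inv_of_mul_eq_one_left h', mul_inv_rev, mul_inv_rev, inv_eq_of_mul_eq_one_right hx,
    inv_eq_of_mul_eq_one_right hy, mul_assoc]

theorem Local.cac (L : Local a b c d u) : Commute a c := commute_of_sq L.aa L.cc L.ac
theorem Local.cad (L : Local a b c d u) : Commute a d := commute_of_sq L.aa L.dd L.ad
theorem Local.cbd (L : Local a b c d u) : Commute b d := commute_of_sq L.bb L.dd L.bd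

theorem Local.mema (L : Local a b c d u) : a ∈ cent u := by
  rw [L.cent_eq]; exact subset_closure (by simp)
theorem Local.memb (L : Local a b c d u) : b ∈ cent u := by
  rw [L.cent_eq]; exact subset_closure (by simp)
theorem Local.memc (L : Local a b c d u) : c ∈ cent u := by
  rw [L.cent_eq]; exact subset_closure (by simp)
theorem Local.memd (L : Local a b c d u) : d ∈ cent u := by
  rw [L.cent_eq]; exact subset_closure (by simp)
theorem Local.memu (_L : Local a b c d u) : u ∈ cent u := mem_cent.2 (Commute.refl u)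

theorem Local.cau (L : Local a b c d u) : Commute a u := mem_cent.1 L.mema

/-- The element `b a c b` conjugates `a` to `c`. -/
theorem Local.rar (L : Local a b c d u) :
    b * a * c * b * a * (b * a * c * b) = c := by
  have h1 : b * a * b = a * b * a := (braid L.aa L.bb L.ab).symm
  have h2 : b * c * b = c * b * c := braid L.bb L.cc L.bc
  have h3 : a * c * a = c := by rw [L.cac.eq, mul_assoc, L.aa, mul_one]
  calc b * a * c * b * a * (b * a * c * b)
      = b * a * c * (b * a * b) * a * c * b := by simp only [mul_assoc]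
    _ = b * a * c * a * b * (a * a) * c * b := by rw [h1]; simp only [mul_assoc]
    _ = b * (a * c * a) * (b * c * b) := by rw [L.aa, mul_one]; simp only [mul_assoc]
    _ = b * c * (c * b * c) := by rw [h3, h2]
    _ = (b * (c * c)) * b * c := by simp only [mul_assoc]
    _ = c := by rw [L.cc, mul_one, L.bb, one_mul]

/-- A map describing the centraliser of `u`. -/
structure Img (a b c d u : G) (F : G → Perm (Fin 5)) : Prop where
  mul : ∀ x ∈ cent u, ∀ y ∈ cent u, F (x * y) = F x * F y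
  ker : ∀ x ∈ cent u, F x = 1 → x = 1 ∨ x = u
  surj : ∀ p, ∃ x ∈ cent u, F x = p
  fa : F a = swap 0 1
  fb : F b = swap 1 2
  fc : F c = swap 2 3
  fd : F d = swap 3 4
  fu : F u = 1

theorem Local.exists_img (L : Local a b c d u) : ∃ F, Img a b c d u F := by
  classical
  obtain ⟨φ, hs, hk, ha, hb, hc, hd⟩ := L.iso
  let F : G → Perm (Fin 5) := fun x => if h : x ∈ cent u then φ ⟨x, h⟩ else 1
  have hF : ∀ z : cent u, F z = φ z := fun z => by simp [F]
  refine ⟨F, ⟨fun x hx y hy => ?_, fun x hx h => ?_, fun p => ?_,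
    (hF ⟨a, L.mema⟩).trans (ha _ rfl), (hF ⟨b, L.memb⟩).trans (hb _ rfl),
    (hF ⟨c, L.memc⟩).trans (hc _ rfl), (hF ⟨d, L.memd⟩).trans (hd _ rfl), ?_⟩⟩
  · rw [hF ⟨x, hx⟩, hF ⟨y, hy⟩, ← map_mul]
    exact hF (⟨x, hx⟩ * ⟨y, hy⟩)
  · rw [hF ⟨x, hx⟩, ← MonoidHom.mem_ker, hk, mem_subgroupOf] at h
    obtain ⟨k, rfl⟩ := h
    rcases Int.even_or_odd k with ⟨j, rfl⟩ | ⟨j, rfl⟩
    · left
      show u ^ (j + j) = 1
      rw [← two_mul, zpow_mul, zpow_two, L.uu, one_zpow]
    · right
      show u ^ (2 * j + 1) = u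
      rw [zpow_add_one, zpow_mul, zpow_two, L.uu, one_zpow, one_mul]
  · obtain ⟨z, hz⟩ := hs p
    exact ⟨z, z.2, (hF z).trans hz⟩
  · rw [hF ⟨u, L.memu⟩, ← MonoidHom.mem_ker, hk, mem_subgroupOf]
    exact mem_zpowers u

variable {F : G → Perm (Fin 5)}

theorem Img.one (I : Img a b c d u F) : F 1 = 1 := by
  simpa using I.mul 1 (one_mem _) 1 (one_mem _)

theorem Img.inv (I : Img a b c d u F) {x : G} (hx : x ∈ cent u) : F x⁻¹ = (F x)⁻¹ := by
  rw [eq_inv_iff_mul_eq_one, ← I.mul _ (inv_mem hx) x hx, inv_mul_cancel, I.one]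

theorem Img.pow (I : Img a b c d u F) {x : G} (hx : x ∈ cent u) (n : ℕ) : F (x ^ n) = F x ^ n := by
  induction n with
  | zero => simpa using I.one
  | succ n ih => rw [pow_succ, I.mul _ (pow_mem hx n) x hx, ih, pow_succ]

theorem Img.eq_of_eq (I : Img a b c d u F) {x y : G} (hx : x ∈ cent u) (hy : y ∈ cent u)
    (h : F x = F y) : x = y ∨ x = u * y := by
  have hm : x * y⁻¹ ∈ cent u := mul_mem hx (inv_mem hy)
  have : F (x * y⁻¹) = 1 := by rw [I.mul _ hx _ (inv_mem hy), I.inv hy, h, mul_inv_cancel]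
  rcases I.ker _ hm this with e | e
  · exact Or.inl (mul_inv_eq_one.1 e)
  · exact Or.inr (mul_inv_eq_iff_eq_mul.1 e)

theorem Img.f_e (I : Img a b c d u F) (L : Local a b c d u) : F (a * c) = swap 0 1 * swap 2 3 := by
  rw [I.mul _ L.mema _ L.memc, I.fa, I.fc]

theorem Img.f_g (I : Img a b c d u F) (L : Local a b c d u) : F (c * d) = swap 2 3 * swap 3 4 := by
  rw [I.mul _ L.memc _ L.memd, I.fc, I.fd]

theorem Img.f_r (I : Img a b c d u F) (L : Local a b c d u) :
    F (b * a * c * b) = swap 0 2 * swap 1 3 := by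
  rw [I.mul _ (mul_mem (mul_mem L.memb L.mema) L.memc) _ L.memb,
    I.mul _ (mul_mem L.memb L.mema) _ L.memc, I.mul _ L.memb _ L.mema, I.fa, I.fb, I.fc]
  decide +kernel

theorem g_cube (L : Local a b c d u) : (c * d) ^ 3 = 1 := L.cd

theorem Local.r_sq (L : Local a b c d u) : b * a * c * b * (b * a * c * b) = 1 := by
  have h : b * a * c * b * (b * a * c * b) = b * (a * c * (b * b) * (a * c)) * b := by
    simp only [mul_assoc]
  rw [h, L.bb, mul_one, show a * c * (a * c) = 1 by rw [← pow_two]; exact L.ac, mul_one, L.bb]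

theorem Local.e_sq (L : Local a b c d u) : a * c * (a * c) = 1 := by rw [← pow_two]; exact L.ac

theorem Local.re (L : Local a b c d u) : Commute (b * a * c * b) (a * c) := by
  have h1 := L.rar
  have h2 := L.r_sq
  generalize b * a * c * b = r at h1 h2 ⊢
  show r * (a * c) = a * c * r
  have h3 : r * a = c * r := by
    rw [← mul_one (r * a), ← h2, ← mul_assoc, h1]
  have h4 : r * c = a * r := by
    rw [← h1, ← mul_assoc, ← mul_assoc, h2, one_mul]
  rw [← mul_assoc, h3, mul_assoc, h4, ← mul_assoc, ← L.cac.eq]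

theorem Local.ag (L : Local a b c d u) : Commute a (c * d) := L.cac.mul_right L.cad

theorem Local.ug (L : Local a b c d u) : Commute u (c * d) :=
  (mem_cent.1 (mul_mem L.memc L.memd)).symm

theorem Local.ue (L : Local a b c d u) : Commute u (a * c) :=
  (mem_cent.1 (mul_mem L.mema L.memc)).symm

theorem Local.cgc (L : Local a b c d u) : c * (c * d) * c = (c * d)⁻¹ := by
  rw [mul_inv_rev, inv_eq_of_mul_eq_one_right L.cc, inv_eq_of_mul_eq_one_right L.dd, ← mul_assoc c,
    L.cc, one_mul]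

end Cfsg.Agent.Order95040
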