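import Cfsg.Agent.Lib.Order95040.Five

/-!
# Degrees divisible by 55 and by 33 in a simple group of order 95040

The characters outside the principal 11-block have degrees `11k` with `∑ k² = 450`. Their values at
an element of order 5 satisfy `∑ v² = 5` and `∑ k v = 15`, and at an involution of the larger kind
their squares sum to 130. This leaves no room for all `k` prime to 5, nor for all `k` prime to 3.
-/

set_option autoImplicit false
set_option linter.style.haveILetI false

namespace Cfsg.Agent.Order95040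

open scoped ComplexConjugate
open Cfsg Subgroup

universe u

/-- The value at an element of order 5 of a character of degree `11k`. -/
def fiveOf (k : ℕ) : ℤ := [0, 1, 2, -2, -1].getD (k % 5) 0

/-- A lower bound for the squared value at a big involution of a character of degree `11k`. -/
def costOf (k : ℕ) : ℕ := [0, 0, 0, 0, 0, 25, 0, 0, 0, 0, 100].getD k 0

/-- Can the totals be reached with entries from the list? -/
def canSum : List ℕ → ℕ → ℕ → ℤ → ℕ → Bool
  | [], s, q, t, _ => decide (s = 0) && decide (q = 0) && decide (t = 0)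
  | k :: ks, s, q, t, B => (List.range (s / (k * k) + 1)).any fun j =>
      decide (j * (fiveOf k).natAbs ^ 2 ≤ q) && decide (j * costOf k ≤ B) &&
        canSum ks (s - j * (k * k)) (q - j * (fiveOf k).natAbs ^ 2) (t - (j : ℤ) * (k * fiveOf k))
          (B - j * costOf k)

theorem canSum_of_finset {ι : Type*} (f : ι → ℕ) : ∀ (ks : List ℕ) (s : Finset ι) (B : ℕ),
    (∀ i ∈ s, f i ∈ ks) → (∀ k ∈ ks, 0 < k) → ∑ i ∈ s, costOf (f i) ≤ B →
      canSum ks (∑ i ∈ s, f i * f i) (∑ i ∈ s, (fiveOf (f i)).natAbs ^ 2)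
        (∑ i ∈ s, (f i : ℤ) * fiveOf (f i)) B = true := by
  classical
  intro ks
  induction ks with
  | nil =>
    intro s B hs _ _
    rw [Finset.eq_empty_of_forall_notMem fun i hi => List.not_mem_nil (hs i hi)]
    simp [canSum]
  | cons k ks ih =>
    intro s B hs hpos hB
    set a := s.filter fun i => f i = k with ha
    set b := s.filter fun i => ¬ f i = k with hb
    have hsplit : ∀ {M : Type} [AddCommMonoid M] (g : ι → M),
        ∑ i ∈ s, g i = ∑ i ∈ a, g i + ∑ i ∈ b, g i := fun g =>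
      (Finset.sum_filter_add_sum_filter_not s _ g).symm
    have hconst : ∀ g : ℕ → ℕ, ∑ i ∈ a, g (f i) = a.card * g k := fun g => by
      rw [Finset.sum_congr rfl fun i hi => by rw [(Finset.mem_filter.1 hi).2]]
      simp
    have hkk : 0 < k * k := Nat.mul_pos (hpos k (by simp)) (hpos k (by simp))
    have hcost := hsplit (fun i => costOf (f i))
    rw [hconst] at hcost
    have e1 := hsplit (fun i => f i * f i)
    rw [hconst fun m => m * m] at e1
    have e2 := hsplit (fun i => (fiveOf (f i)).natAbs ^ 2)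
    rw [hconst fun m => (fiveOf m).natAbs ^ 2] at e2
    have e3 := hsplit (fun i => (f i : ℤ) * fiveOf (f i))
    rw [Finset.sum_congr rfl fun i (hi : i ∈ a) => by rw [(Finset.mem_filter.1 hi).2]] at e3
    simp only [Finset.sum_const, nsmul_eq_mul] at e3
    rw [e1, e2, e3, canSum, List.any_eq_true]
    refine ⟨a.card, List.mem_range.2 (Nat.lt_succ_of_le
      ((Nat.le_div_iff_mul_le hkk).2 (Nat.le_add_right _ _))), ?_⟩
    rw [Bool.and_eq_true, Bool.and_eq_true, decide_eq_true_eq, decide_eq_true_eq,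
      Nat.add_sub_cancel_left, Nat.add_sub_cancel_left, add_sub_cancel_left]
    refine ⟨⟨Nat.le_add_right _ _, by omega⟩,
      ih b _ (fun i hi => ?_) (fun m hm => hpos m (List.mem_cons_of_mem _ hm)) (by omega)⟩
    obtain ⟨h1, h2⟩ := Finset.mem_filter.1 hi
    exact (List.mem_cons.1 (hs i h1)).resolve_left h2

theorem scan_no_five : canSum [1, 2, 3, 4, 6, 8, 9, 12, 16, 18] 450 5 15 130 = false := by
  decide +kernel

theorem scan_no_three : canSum [1, 2, 4, 5, 8, 10, 16, 20] 450 5 15 130 = false := by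
  decide +kernel

theorem scan_five_row : ∀ v ∈ valueRows 5 5 10 theDegs, fiveTest 10 theDegs v = true →
    v = [0, -1, 0, -1] := by
  decide +kernel

theorem mem_outer : ∀ k ∈ List.range 22, 0 < k → 8640 % k = 0 →
    (k % 5 ≠ 0 → k ∈ [1, 2, 3, 4, 6, 8, 9, 12, 16, 18]) ∧
      (k % 3 ≠ 0 → k ∈ [1, 2, 4, 5, 8, 10, 16, 20]) := by
  decide +kernel

variable {G : Type u} [Group G] [Fintype G] [IsSimpleGroup G] (hG : Nat.card G = 95040)
include hG

/-- The row at an element of order 5. -/
theorem five_row {x y : G} (hx : orderOf x = 11) (S : Shape x) (hy : orderOf y = 5)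
    (hl : List.ofFn S.z = theDegs) {v : Fin 4 → ℤ} (hv : ∀ i, (S.chi i).1 y = v i) :
    List.ofFn v = [0, -1, 0, -1] := by
  classical
  haveI : Fact (Nat.Prime 5) := ⟨by norm_num⟩
  have hy1 : y ≠ 1 := fun e => by rw [e, orderOf_one] at hy; omega
  have hg : ¬ 11 ∣ orderOf y := not_dvd_eleven hy (by norm_num)
  obtain ⟨hmem, hbase⟩ := S.base_row hG hg hy1 (md := 5) (q := 5) hv
    (fun χ _ k hk => by
      obtain ⟨n, v', hn, hv', hm'⟩ :=
        Order7920.values_five (Char.irr_isCharacter χ) hy (five_conj hG hy)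
      have hd : n = Char.degree χ := by
        apply Nat.cast_injective (R := ℂ)
        rw [← hn, Char.apply_one_eq_degree]
      rw [hk] at hv'
      rw [Int.cast_inj.1 hv', ← hd]; exact hm')
    (fun i _ h => by
      have h0 := zero_five hG (χ := S.chi i) (by rw [S.deg]; exact Nat.dvd_of_mod_eq_zero h)
        (g := y) (hy ▸ dvd_rfl)
      rw [hv] at h0
      exact_mod_cast h0)
  obtain ⟨hp6, hp5⟩ := S.posTest_row hG hx hg hv
  rw [(five hG hy).1, hl] at hmem hbase hp6 hp5
  exact scan_five_row _ hmem (by simp only [fiveTest, hbase, hp6, hp5, Bool.and_self])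

omit [IsSimpleGroup G] hG in
/-- A character outside the block has degree divisible by 11. -/
theorem eleven_dvd_degree {x : G} (hx : orderOf x = 11) {χ : IrrCharacter G} (h : χ.1 x = 0) :
    11 ∣ Char.degree χ := by
  have h1 := CharInt.char_pow_sub_isIntegral (Char.irr_isCharacter χ) x
    (p := 11) (by norm_num) 1
  rw [pow_one, h, show x ^ 11 = 1 by rw [← hx, pow_orderOf_eq_one], Char.apply_one_eq_degree] at h1
  have h2 : (11 : ℤ) ∣ -(Char.degree χ : ℤ) :=
    CharInt.dvd_of_isIntegral_div (by norm_num) (by simpa using h1)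
  omega

set_option maxHeartbeats 1000000 in
/-- Both edges at 11. -/
theorem exists_degree_dvd :
    (∃ χ : IrrCharacter G, 55 ∣ Char.degree χ) ∧ (∃ χ : IrrCharacter G, 33 ∣ Char.degree χ) := by
  classical
  haveI : Fact (Nat.Prime 5) := ⟨by norm_num⟩
  obtain ⟨x, S, hx, hl⟩ := exists_shape_degs hG
  obtain ⟨y, hy⟩ := exists_prime_orderOf_dvd_card' (G := G) 5 (by rw [hG]; norm_num)
  obtain ⟨u, hu, hCu⟩ := exists_big hG
  have hy5 : ∀ χ : IrrCharacter G, ∃ v : ℤ, χ.1 y = v ∧ ((Char.degree χ : ℤ) - v) % 5 = 0 := by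
    intro χ
    obtain ⟨n, v, hn, hv, hmod⟩ :=
      Order7920.values_five (Char.irr_isCharacter χ) hy (five_conj hG hy)
    have : n = Char.degree χ := by
      apply Nat.cast_injective (R := ℂ)
      rw [← hn, Char.apply_one_eq_degree]
    exact ⟨v, hv, this ▸ hmod⟩
  choose v hv hvm using hy5
  have huu : u * u = 1 := by rw [← pow_two, ← hu, pow_orderOf_eq_one]
  have hu2 : ∀ χ : IrrCharacter G, ∃ a : ℤ, χ.1 u = a := by
    intro χ
    by_cases h : χ = Char.trivialChar G
    · exact ⟨1, by rw [h, Char.trivialChar_apply, Int.cast_one]⟩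
    · obtain ⟨m, -, -, -, hm⟩ := Order7920.involution_value (noncomm hG) χ h hu
      exact ⟨(Char.degree χ : ℤ) - 2 * m, by rw [hm]; push_cast; ring⟩
  choose a ha using hu2
  have hgy : ¬ 11 ∣ orderOf y := not_dvd_eleven hy (by norm_num)
  have hgu : ¬ 11 ∣ orderOf u := not_dvd_eleven hu (by norm_num)
  have hrow5 := five_row hG hx S hy hl (v := fun i => v (S.chi i)) fun i => hv _
  obtain ⟨a', ha', -, hmem, htest⟩ := S.inv_row hG hx hu
  rw [hl] at hmem htest
  have hrow2 : List.ofFn a' = [0, 6, 5, 4] := by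
    rcases scan_inv _ (by rw [hCu]; decide +kernel) _ hmem htest with ⟨h, -⟩ | ⟨-, h⟩
    · omega
    · exact h
  have haa : ∀ i, a (S.chi i) = a' i := fun i => by
    exact Int.cast_injective (α := ℂ) ((ha _).symm.trans (ha' i))
  have hth5 : v S.th = 1 ∧ v S.th' = 1 := by
    have h : S.th.1 y = ((1 : ℤ) : ℂ) := by
      rw [S.theta_val hgy (a := fun i => v (S.chi i)) fun i => hv _, hl, hrow5]; rfl
    exact ⟨Int.cast_injective (α := ℂ) ((hv _).symm.trans h),
      Int.cast_injective (α := ℂ) (((hv _).symm.trans (S.agree y hgy)).trans h)⟩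
  have hth2 : a S.th = 4 ∧ a S.th' = 4 := by
    have h : S.th.1 u = ((4 : ℤ) : ℂ) := by
      rw [S.theta_val hgu (a := a') ha', hl, hrow2]; rfl
    exact ⟨Int.cast_injective (α := ℂ) ((ha _).symm.trans h),
      Int.cast_injective (α := ℂ) (((ha _).symm.trans (S.agree u hgu)).trans h)⟩
  -- split off the principal block
  set F := insert (Char.trivialChar G) (Finset.univ.image S.chi ∪ {S.th, S.th'}) with hF
  set R := Finset.univ \ F with hRdef
  have hsplit : ∀ f : IrrCharacter G → ℤ, ∑ χ, f χ = f (Char.trivialChar G) +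
      (∑ i, f (S.chi i) + (f S.th + f S.th')) + ∑ χ ∈ R, f χ := by
    intro f
    rw [← Finset.sum_sdiff (Finset.subset_univ F), add_comm, hF, Finset.sum_insert, Finset.sum_union,
      Finset.sum_image fun i _ j _ h => S.inj h, Finset.sum_pair S.th_ne, ← hF]
    · simp only [Finset.disjoint_left, Finset.mem_image, Finset.mem_univ, true_and, Finset.mem_insert,
        Finset.mem_singleton]
      rintro _ ⟨i, rfl⟩ (h | h)
      · exact (S.chi_ne i).2.1 h
      · exact (S.chi_ne i).2.2 h
    · simp only [Finset.mem_union, Finset.mem_image, Finset.mem_univ, true_and, Finset.mem_insert,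
        Finset.mem_singleton, not_or, not_exists]
      exact ⟨fun i => (S.chi_ne i).1, fun h => S.th_triv.1 h.symm, fun h => S.th_triv.2 h.symm⟩
  -- the columns
  have hcol : ∀ (g h : G) (p q : IrrCharacter G → ℤ), (∀ χ, χ.1 g = p χ) → (∀ χ, χ.1 h = q χ) →
      (IsConj g h → ((∑ χ, p χ * q χ : ℤ) : ℂ) = (Nat.card (centralizer ({h} : Set G)) : ℂ)) ∧
      (¬ IsConj g h → ((∑ χ, p χ * q χ : ℤ) : ℂ) = 0) := by
    intro g h p q hp hq
    have e := Char.sum_irr_mul_conj g h
    have e' : ((∑ χ, p χ * q χ : ℤ) : ℂ) = ∑ χ : IrrCharacter G, χ.1 g * conj (χ.1 h) := by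
      push_cast
      exact Finset.sum_congr rfl fun χ _ => by rw [hp, hq, map_intCast]
    refine ⟨fun hc => ?_, fun hc => ?_⟩
    · rw [e', e, if_pos hc]
    · rw [e', e, if_neg hc]
  have hdd : ∀ χ : IrrCharacter G, χ.1 1 = ((Char.degree χ : ℤ) : ℂ) := fun χ => by
    rw [Char.apply_one_eq_degree, Int.cast_natCast]
  have c11 : ∑ χ : IrrCharacter G, (Char.degree χ : ℤ) * Char.degree χ = 95040 := by
    have h := Char.sum_degree_sq (G := G)
    rw [hG] at h
    simp only [pow_two] at h
    exact_mod_cast h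
  have c55 : ∑ χ : IrrCharacter G, v χ * v χ = 10 := by
    have h := (hcol y y v v hv hv).1 (IsConj.refl y)
    rw [show Nat.card (centralizer ({y} : Set G)) = 10 from (five hG hy).1] at h
    exact_mod_cast h
  have c15 : ∑ χ : IrrCharacter G, (Char.degree χ : ℤ) * v χ = 0 := by
    have h := (hcol 1 y _ v hdd hv).2
      fun h => by rw [isConj_one_right.1 h, orderOf_one] at hy; omega
    exact_mod_cast h
  have c22 : ∑ χ : IrrCharacter G, a χ * a χ = 240 := by
    have h := (hcol u u a a ha ha).1 (IsConj.refl u)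
    rw [show Nat.card (centralizer ({u} : Set G)) = 240 from hCu] at h
    exact_mod_cast h
  -- values in the block
  have hT1 : (Char.degree (Char.trivialChar G) : ℤ) = 1 := by
    rw [NineTwoQ.degree_trivial]; rfl
  have hTv : v (Char.trivialChar G) = 1 := Int.cast_injective (α := ℂ)
    ((hv _).symm.trans (by simp))
  have hTa : a (Char.trivialChar G) = 1 := Int.cast_injective (α := ℂ)
    ((ha _).symm.trans (by simp))
  rw [ofFn_four] at hrow5 hrow2
  simp only [List.cons.injEq, and_true] at hrow5 hrow2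
  have hdeg : ∀ i, Char.degree (S.chi i) = (![120, 54, 45, 144] : Fin 4 → ℕ) i := by
    have hz := hl
    rw [ofFn_four, theDegs] at hz
    simp only [List.cons.injEq, and_true] at hz
    intro i
    rw [S.deg]
    fin_cases i <;> simp [hz]
  have hy16 : Char.degree S.th = 16 ∧ Char.degree S.th' = 16 := by
    rw [S.deg_th.1, S.deg_th.2, hl]; exact ⟨rfl, rfl⟩
  rw [hsplit] at c11 c55 c15 c22
  simp [Fin.sum_univ_four, hdeg, hy16, hT1] at c11
  simp [Fin.sum_univ_four, hrow5, hTv, hth5] at c55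
  simp [Fin.sum_univ_four, hdeg, hy16, hT1, hrow5, hTv, hth5] at c15
  simp [Fin.sum_univ_four, haa, hrow2, hTa, hth2] at c22
  -- the characters outside the block
  have hR : ∀ χ ∈ R, χ ≠ Char.trivialChar G ∧ χ.1 x = 0 := by
    intro χ hχ
    simp only [hRdef, hF, Finset.mem_sdiff, Finset.mem_univ, true_and, Finset.mem_union,
      Finset.mem_image, Finset.mem_insert, Finset.mem_singleton, not_or, not_exists] at hχ
    exact ⟨hχ.1, S.vanish χ hχ.1 (fun i h => hχ.2.1 i h.symm) hχ.2.2.1 hχ.2.2.2⟩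
  set f : IrrCharacter G → ℕ := fun χ => Char.degree χ / 11 with hf
  have hd : ∀ χ ∈ R, Char.degree χ = 11 * f χ ∧ f χ < 22 ∧ 0 < f χ ∧ 8640 % f χ = 0 := by
    intro χ hχ
    have h11 := eleven_dvd_degree hx (hR χ hχ).2
    have hle := Finset.single_le_sum (f := fun χ => (Char.degree χ : ℤ) * Char.degree χ)
      (fun χ _ => mul_self_nonneg _) hχ
    have heq : Char.degree χ = 11 * f χ := (Nat.mul_div_cancel' h11).symm
    have hdv := Char.degree_dvd_natCard χ
    have hpos := Char.degree_pos χ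
    rw [hG, heq, show 95040 = 11 * 8640 by norm_num] at hdv
    have hlt : (f χ : ℤ) < 22 := by
      rw [heq] at hle
      push_cast at hle
      nlinarith
    exact ⟨heq, by omega, by omega, Nat.mod_eq_zero_of_dvd (Nat.dvd_of_mul_dvd_mul_left (by norm_num) hdv)⟩
  have hvf : ∀ χ ∈ R, v χ = fiveOf (f χ) := by
    intro χ hχ
    have heq := (hd χ hχ).1
    have hle := Finset.single_le_sum (f := fun χ => v χ * v χ) (fun χ _ => mul_self_nonneg _) hχ
    have hb : -2 ≤ v χ ∧ v χ ≤ 2 := by constructor <;> nlinarith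
    have hm := hvm χ
    rw [heq] at hm
    by_cases h5 : f χ % 5 = 0
    · have h0 : v χ = 0 := Int.cast_injective (α := ℂ) ((hv χ).symm.trans ((zero_five hG (χ := χ)
        (by rw [heq]; omega) (g := y) (hy ▸ dvd_rfl)).trans Int.cast_zero.symm))
      rw [h0, fiveOf, h5]; rfl
    · have hr : f χ % 5 = 1 ∨ f χ % 5 = 2 ∨ f χ % 5 = 3 ∨ f χ % 5 = 4 := by omega
      rcases hr with h | h | h | h <;> rw [fiveOf, h] <;> push_cast at hm <;>
        simp only [List.getD_cons_succ, List.getD_cons_zero] <;>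
        rcases (show v χ = -2 ∨ v χ = -1 ∨ v χ = 0 ∨ v χ = 1 ∨ v χ = 2 by omega) with e | e | e | e | e <;>
        omega
  have hcost : ∀ χ ∈ R, (costOf (f χ) : ℤ) ≤ a χ * a χ := by
    intro χ hχ
    have heq := (hd χ hχ).1
    have h36 := class_value_dvd hG (ha χ)
    rw [hCu, heq] at h36
    have h4 := G2TwoRecog.dvd_degree_sub (not_comm hG) huu χ (ha χ)
    rw [heq] at h4
    by_cases h5 : f χ = 5
    · rw [h5] at h36 h4 ⊢
      norm_num at h36 h4
      obtain ⟨b, hb⟩ : (5 : ℤ) ∣ a χ := by omega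
      rw [hb] at h4 ⊢
      have hb0 : b ≠ 0 := by omega
      have := mul_self_pos.2 hb0
      show (25 : ℤ) ≤ _
      nlinarith
    by_cases h10 : f χ = 10
    · rw [h10] at h36 h4 ⊢
      norm_num at h36 h4
      obtain ⟨b, hb⟩ : (10 : ℤ) ∣ a χ := by omega
      rw [hb] at h4 ⊢
      have hb0 : b ≠ 0 := by omega
      have := mul_self_pos.2 hb0
      show (100 : ℤ) ≤ _
      nlinarith
    · have h0 : costOf (f χ) = 0 := by
        have := (hd χ hχ).2.1
        generalize f χ = k at this h5 h10 ⊢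
        interval_cases k <;> first | rfl | exact absurd rfl h5 | exact absurd rfl h10
      rw [h0, Nat.cast_zero]
      exact mul_self_nonneg _
  have s1 : ∑ χ ∈ R, f χ * f χ = 450 := by
    have h : ∑ χ ∈ R, (Char.degree χ : ℤ) * Char.degree χ =
        121 * ((∑ χ ∈ R, f χ * f χ : ℕ) : ℤ) := by
      push_cast
      rw [Finset.mul_sum]
      exact Finset.sum_congr rfl fun χ hχ => by rw [(hd χ hχ).1]; push_cast; ring
    omega
  have s2 : ∑ χ ∈ R, (fiveOf (f χ)).natAbs ^ 2 = 5 := by
    have h : ∑ χ ∈ R, v χ * v χ = ((∑ χ ∈ R, (fiveOf (f χ)).natAbs ^ 2 : ℕ) : ℤ) := by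
      push_cast
      exact Finset.sum_congr rfl fun χ hχ => by rw [hvf χ hχ, sq_abs, pow_two]
    omega
  have s3 : ∑ χ ∈ R, (f χ : ℤ) * fiveOf (f χ) = 15 := by
    have h : ∑ χ ∈ R, (Char.degree χ : ℤ) * v χ = 11 * ∑ χ ∈ R, (f χ : ℤ) * fiveOf (f χ) := by
      rw [Finset.mul_sum]
      exact Finset.sum_congr rfl fun χ hχ => by
        rw [(hd χ hχ).1, hvf χ hχ]; push_cast; ring
    omega
  have s4 : ∑ χ ∈ R, costOf (f χ) ≤ 130 := by
    have h := Finset.sum_le_sum hcost
    rw [← Nat.cast_sum] at h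
    omega
  constructor <;> by_contra hno <;> push Not at hno
  · have h := canSum_of_finset f [1, 2, 3, 4, 6, 8, 9, 12, 16, 18] R 130 (fun χ hχ => ?_) (by decide) s4
    · rw [s1, s2, s3, scan_no_five] at h; exact Bool.false_ne_true h
    · obtain ⟨heq, hlt, hpos, hdiv⟩ := hd χ hχ
      exact (mem_outer _ (List.mem_range.2 hlt) hpos hdiv).1 fun h5 => hno χ (by rw [heq]; omega)
  · have h := canSum_of_finset f [1, 2, 4, 5, 8, 10, 16, 20] R 130 (fun χ hχ => ?_) (by decide) s4
    · rw [s1, s2, s3, scan_no_three] at h; exact Bool.false_ne_true h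
    · obtain ⟨heq, hlt, hpos, hdiv⟩ := hd χ hχ
      exact (mem_outer _ (List.mem_range.2 hlt) hpos hdiv).2 fun h3 => hno χ (by rw [heq]; omega)

end Cfsg.Agent.Order95040
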