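import Cfsg.Agent.Lib.Order95040.Facts
import Cfsg.Agent.Lib.Order7920.Elem
import Cfsg.Agent.Lib.SmallSimple.Below3640.DegreeTest

/-!
# Elements of order 11 in a simple group of order 95040

They are self-centralising, with normaliser of order 55.
-/

namespace Cfsg.Agent.Order95040

open Subgroup MulAction

set_option linter.style.haveILetI false

/-- The possible numbers of Sylow 11-subgroups. -/
theorem index_cases : ∀ i < 8641, i % 11 = 1 → i ∣ 8640 → i ≠ 1 →
    i = 12 ∨ i = 45 ∨ i = 144 ∨ i = 320 ∨ i = 540 ∨ i = 1728 := by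
  intro i _ hm hd hne
  have key : ∀ j ∈ Nat.divisors 8640, j % 11 = 1 → j ≠ 1 →
      j = 12 ∨ j = 45 ∨ j = 144 ∨ j = 320 ∨ j = 540 ∨ j = 1728 := by decide +kernel
  exact key i (Nat.mem_divisors.2 ⟨hd, by norm_num⟩) hm hne

/-- A group of order 12 has a normal Sylow subgroup. -/
theorem sylow_twelve {K : Type*} [Group K] (hK : Nat.card K = 12) :
    Nat.card (Sylow 3 K) = 1 ∨ Nat.card (Sylow 2 K) = 1 := by
  classical
  haveI : Finite K := Nat.finite_of_card_ne_zero (by omega)
  haveI := Fintype.ofFinite K
  haveI : Fact (Nat.Prime 2) := ⟨Nat.prime_two⟩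
  haveI : Fact (Nat.Prime 3) := ⟨Nat.prime_three⟩
  haveI := Fintype.ofFinite (Sylow 3 K)
  have h2 : ∀ P : Sylow 2 K, Nat.card P = 4 := fun P => by
    rw [P.card_eq_multiplicity, hK, show (12 : ℕ) = 2 ^ 2 * 3 by rfl,
      Nat.factorization_mul (by norm_num) (by norm_num), Finsupp.add_apply,
      Nat.prime_two.factorization_pow, Finsupp.single_eq_same,
      Nat.factorization_eq_zero_of_not_dvd (by norm_num)]
    norm_num
  have h3 : ∀ P : Sylow 3 K, Nat.card P = 3 := fun P => by
    rw [P.card_eq_multiplicity, hK, show (12 : ℕ) = 3 * 4 by rfl,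
      Nat.factorization_mul (by norm_num) (by norm_num), Finsupp.add_apply,
      Nat.prime_three.factorization_self, Nat.factorization_eq_zero_of_not_dvd (by norm_num)]
    norm_num
  refine or_iff_not_imp_left.2 fun h1 => ?_
  have hn : 4 ≤ Fintype.card (Sylow 3 K) := by
    rw [← Nat.card_eq_fintype_card]
    have := card_sylow_modEq_one 3 K
    rw [Nat.ModEq] at this
    omega
  refine Nat.card_eq_one_iff_unique.2 ⟨⟨fun P Q => ?_⟩, inferInstance⟩
  by_contra hPQ
  set A : Finset K := Finset.univ.filter fun g => orderOf g = 3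
  have hA : 8 ≤ A.card := by
    have hdisj : ((Finset.univ : Finset (Sylow 3 K)) : Set (Sylow 3 K)).PairwiseDisjoint
        fun R => A.filter (· ∈ R) := by
      intro R _ S _ hRS
      refine Finset.disjoint_left.2 fun g hg hg' => hRS (Sylow.ext ?_)
      simp only [A, Finset.mem_filter, Finset.mem_univ, true_and] at hg hg'
      have hR : zpowers g = R := eq_of_le_of_card_ge (zpowers_le.2 hg.2)
        (by rw [Nat.card_zpowers, hg.1, h3 R])
      have hS : zpowers g = S := eq_of_le_of_card_ge (zpowers_le.2 hg'.2)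
        (by rw [Nat.card_zpowers, hg.1, h3 S])
      exact hR.symm.trans hS
    have hsub : ∀ R : Sylow 3 K, 2 ≤ (A.filter (· ∈ R)).card := by
      intro R
      obtain ⟨g, hg⟩ := exists_prime_orderOf_dvd_card' (G := R) 3 (by rw [h3 R])
      have hg' : orderOf (g : K) = 3 := (orderOf_coe g).trans hg
      have hinv : ((g : K))⁻¹ ≠ g := fun h => by
        have : orderOf (g : K) ∣ 2 :=
          orderOf_dvd_of_pow_eq_one (by rw [pow_two]; nth_rewrite 1 [← h]; exact inv_mul_cancel _)
        rw [hg'] at this
        norm_num at this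
      refine Finset.one_lt_card.2 ⟨g, ?_, (g : K)⁻¹, ?_, hinv.symm⟩
      · simp [A, hg']
      · simp [A, hg']
    have := Finset.card_biUnion hdisj
    calc 8 ≤ ∑ R : Sylow 3 K, (A.filter (· ∈ R)).card :=
          le_trans (by rw [Finset.card_univ, smul_eq_mul]; omega)
            (Finset.card_nsmul_le_sum Finset.univ _ 2 fun R _ => hsub R)
      _ = ((Finset.univ : Finset (Sylow 3 K)).biUnion fun R => A.filter (· ∈ R)).card := this.symm
      _ ≤ A.card := Finset.card_le_card (Finset.biUnion_subset.2 fun R _ => Finset.filter_subset _ _)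
  set B : Finset K := Finset.univ.filter fun g => g ∈ P ∨ g ∈ Q
  have hB : 5 ≤ B.card := by
    obtain ⟨q, hq, hqP⟩ : ∃ q ∈ Q, q ∉ P := by
      by_contra h
      push Not at h
      exact hPQ (Sylow.ext (eq_of_le_of_card_ge (show (Q : Subgroup K) ≤ P from h)
        (by rw [h2 P, h2 Q])).symm)
    have hPc : (Finset.univ.filter fun g => g ∈ P).card = 4 := by
      rw [← Fintype.card_subtype, ← Nat.card_eq_fintype_card]
      exact h2 P
    calc 5 = (insert q (Finset.univ.filter fun g => g ∈ P)).card := by
          rw [Finset.card_insert_of_notMem (by simp [hqP]), hPc]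
      _ ≤ B.card := Finset.card_le_card fun g hg => by
          simp only [Finset.mem_insert, Finset.mem_filter, Finset.mem_univ, true_and] at hg
          simp only [B, Finset.mem_filter, Finset.mem_univ, true_and]
          rcases hg with rfl | hg
          · exact Or.inr hq
          · exact Or.inl hg
  have hAB : Disjoint A B := by
    refine Finset.disjoint_left.2 fun g hg hg' => ?_
    simp only [A, B, Finset.mem_filter, Finset.mem_univ, true_and] at hg hg'
    have : orderOf g ∣ 4 := by
      rcases hg' with h | h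
      · exact h2 P ▸ orderOf_dvd_natCard _ h
      · exact h2 Q ▸ orderOf_dvd_natCard _ h
    rw [hg] at this
    norm_num at this
  have := Finset.card_le_univ (A ∪ B)
  rw [Finset.card_union_of_disjoint hAB, ← Nat.card_eq_fintype_card, hK] at this
  omega

variable {G : Type*} [Group G] [Finite G] [IsSimpleGroup G] (hG : Nat.card G = 95040)
include hG

omit [Finite G] in
theorem noncomm : ∃ a b : G, a * b ≠ b * a := by
  by_contra h
  push Not at h
  have : Finite G := Nat.finite_of_card_ne_zero (by omega)
  have := CharInt.card_prime_of_simple_comm h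
  rw [hG] at this
  norm_num at this

omit [Finite G] in
theorem not_comm : ¬ IsMulCommutative G := fun h => by
  obtain ⟨a, b, hab⟩ := noncomm hG
  exact hab (h.is_comm.comm a b)

theorem center_bot : center G = ⊥ := Blocks.center_eq_bot (noncomm hG)

theorem eq_one_of_central {z : G} (h : z ∈ center G) : z = 1 :=
  mem_bot.1 (center_bot hG ▸ h)

omit [Group G] [Finite G] [IsSimpleGroup G] in
theorem factorization_five : (Nat.card G).factorization 5 = 1 := by
  have h5 : Nat.Prime 5 := by norm_num
  rw [hG, show (95040 : ℕ) = 5 * 19008 by rfl, Nat.factorization_mul (by norm_num) (by norm_num),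
    Finsupp.add_apply, h5.factorization_self, Nat.factorization_eq_zero_of_not_dvd (by norm_num)]

omit [Group G] [Finite G] [IsSimpleGroup G] in
theorem factorization_eleven : (Nat.card G).factorization 11 = 1 := by
  have h5 : Nat.Prime 11 := by norm_num
  rw [hG, show (95040 : ℕ) = 11 * 8640 by rfl, Nat.factorization_mul (by norm_num) (by norm_num),
    Finsupp.add_apply, h5.factorization_self, Nat.factorization_eq_zero_of_not_dvd (by norm_num)]

omit [IsSimpleGroup G] hG in
theorem exists_sylow {p : ℕ} [Fact p.Prime] (hf : (Nat.card G).factorization p = 1) {z : G}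
    (hz : orderOf z = p) :
    ∃ P : Sylow p G, (P : Subgroup G) = zpowers z ∧ (P : Set G) = (zpowers z : Set G) := by
  obtain ⟨P, hP⟩ := (IsPGroup.of_card (n := 1)
    (show Nat.card (zpowers z) = p ^ 1 by rw [Nat.card_zpowers, hz, pow_one])).exists_le_sylow
  suffices h : (P : Subgroup G) = zpowers z from ⟨P, h, by rw [← h]; rfl⟩
  refine (eq_of_le_of_card_ge hP ?_).symm
  rw [P.card_eq_multiplicity, hf, pow_one, Nat.card_zpowers, hz]

/-- The numerical data of a Sylow subgroup of prime order. -/
theorem local_data {p : ℕ} [hp : Fact p.Prime] (hf : (Nat.card G).factorization p = 1) {z : G}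
    (hz : orderOf z = p) : ∃ e, Nat.card (normalizer (zpowers z : Set G)) = Nat.card (cent z) * e ∧
      (cent z).relIndex (normalizer (zpowers z : Set G)) = e ∧ e ∣ p - 1 ∧ e ≠ 1 ∧
      p ∣ Nat.card (cent z) ∧ Nat.card (normalizer (zpowers z : Set G)) ∣ 95040 ∧
      95040 / Nat.card (normalizer (zpowers z : Set G)) ≠ 1 ∧
      95040 / Nat.card (normalizer (zpowers z : Set G)) % p = 1 := by
  obtain ⟨P, hP, hPs⟩ := exists_sylow hf hz
  have hcyc : Nat.card (zpowers z) = p := by rw [Nat.card_zpowers, hz]
  have hnp : ¬ IsPGroup p G := by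
    intro h
    obtain ⟨k, hk⟩ := h.exists_card_eq
    rw [hk, hp.out.factorization_pow, Finsupp.single_eq_same] at hf
    rw [hf, pow_one, hG] at hk
    exact absurd (hk ▸ hp.out) (by norm_num)
  have hne : ¬ normalizer (zpowers z : Set G) ≤ cent z := by
    have := TwentyTwo.normalizer_not_le_centralizer P
      (by rw [hP, hcyc]; exact hp.out.ne_one) hnp
    rwa [hP, Order7920.centralizer_zpowers] at this
  refine ⟨_, ?_, rfl, ?_, ?_, ?_, ?_, ?_, ?_⟩
  · have e := relIndex_mul_relIndex (H := ⊥) (K := cent z) (L := normalizer (zpowers z : Set G)) bot_le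
      (Order7920.C_le_N z)
    rw [relIndex_bot_left, relIndex_bot_left] at e
    exact e.symm
  · have := TwentyTwo.relIndex_centralizer_dvd (zpowers z)
    rwa [Order7920.centralizer_zpowers, hcyc, Nat.totient_prime hp.out] at this
  · rwa [Ne, relIndex_eq_one]
  · have h := _root_.orderOf_dvd_natCard (⟨z, Order7920.mem_C.2 rfl⟩ : cent z)
    rwa [← Subgroup.orderOf_coe, hz] at h
  · exact hG ▸ card_subgroup_dvd_card _
  all_goals
    have hidx : 95040 / Nat.card (normalizer (zpowers z : Set G)) = Nat.card (Sylow p G) := by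
      rw [P.card_eq_index_normalizer, hPs, ← hG, ← (normalizer (zpowers z : Set G)).index_mul_card,
        Nat.mul_div_cancel _ Nat.card_pos]
    rw [hidx]
  · intro h1
    haveI := (Nat.card_eq_one_iff_unique.mp h1).1
    have hn : (P : Subgroup G).Normal := Sylow.normal_of_subsingleton P
    rcases hn.eq_bot_or_eq_top with h | h
    · rw [hP] at h
      exact hp.out.ne_one (by rw [← hcyc, h, card_bot])
    · exact hnp fun g => (P.2 ⟨g, h ▸ mem_top g⟩).imp fun k hk => congrArg Subtype.val hk
  · have := card_sylow_modEq_one p G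
    rwa [Nat.ModEq, Nat.mod_eq_of_lt hp.out.one_lt] at this

omit [Finite G] hG in
/-- In an action on twelve points, what fixes the fixed point of an element `x` of order 11 and
commutes with `x` is a power of `x`. -/
theorem mem_zpowers_of_twelve {α : Type*} [MulAction G α] (hα : Nat.card α = 12) {x : G}
    (hx : orderOf x = 11) {P : α} (hxP : x • P = P) {Q : α} (hfix : x • Q ≠ Q) {c : G}
    (hcx : Commute c x) (hcP : c • P = P) : c ∈ zpowers x := by
  classical
  haveI : Finite α := Nat.finite_of_card_ne_zero (by omega)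
  haveI := Fintype.ofFinite α
  rw [Nat.card_eq_fintype_card] at hα
  have hper : period x Q = 11 := by
    refine ((Nat.dvd_prime (by norm_num : Nat.Prime 11)).1 ?_).resolve_left
      (fun h1 => hfix (by simpa [h1] using pow_period_smul x Q))
    have := MulAction.period_dvd_orderOf x Q
    rwa [hx] at this
  have hinj : ∀ i j : Fin 11, x ^ (i : ℕ) • Q = x ^ (j : ℕ) • Q → i = j := by
    intro i j hij
    rw [← inv_smul_eq_iff, smul_smul] at hij
    have h2 : (x ^ (((i : ℕ) + (10 * (j : ℕ))) % 11)) • Q = Q := by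
      have hj : (x ^ (j : ℕ))⁻¹ = x ^ (10 * (j : ℕ)) := by
        rw [inv_eq_iff_mul_eq_one, ← pow_add, ← orderOf_dvd_iff_pow_eq_one, hx]
        exact ⟨(j : ℕ), by ring⟩
      rw [← pow_eq_pow_mod _ (show x ^ 11 = 1 by rw [← hx, pow_orderOf_eq_one]), pow_add, ← hj,
        (Commute.refl x).pow_pow _ _ |>.inv_right.eq]
      exact hij
    rw [pow_smul_eq_iff_period_dvd, hper] at h2
    have := Nat.eq_zero_of_dvd_of_lt h2 (Nat.mod_lt _ (by norm_num))
    exact Fin.ext (by omega)
  have hxiP : ∀ i : ℕ, x ^ i • P = P := by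
    intro i
    induction i with
    | zero => rw [pow_zero, one_smul]
    | succ i ih => rw [pow_succ, mul_smul, hxP, ih]
  have hPQ : ∀ i : ℕ, P ≠ x ^ i • Q := by
    intro i h
    have := congrArg ((x ^ i)⁻¹ • ·) h
    simp only [inv_smul_smul] at this
    rw [inv_smul_eq_iff.2 (hxiP i).symm] at this
    exact hfix (this ▸ hxP)
  let f : Option (Fin 11) → α := fun o => o.elim P fun i => x ^ (i : ℕ) • Q
  have hf : Function.Injective f := by
    rintro (_ | i) (_ | j) hij
    · rfl
    · exact absurd hij (hPQ j)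
    · exact absurd hij.symm (hPQ i)
    · exact congrArg some (hinj i j hij)
  have hsurj : Function.Surjective f :=
    ((Fintype.bijective_iff_injective_and_card f).2 ⟨hf, by simp [hα]⟩).2
  obtain ⟨o, ho⟩ := hsurj (c • Q)
  rcases o with _ | i
  · have : Q = P := smul_left_cancel c (by rw [hcP]; exact ho.symm)
    exact absurd (this ▸ hxP) hfix
  · replace ho : x ^ (i : ℕ) • Q = c • Q := ho
    have hker : (x ^ (i : ℕ))⁻¹ * c ∈ (MulAction.toPermHom G α).ker := by
      rw [MonoidHom.mem_ker]
      refine Equiv.ext fun R => ?_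
      obtain ⟨o, rfl⟩ := hsurj R
      rcases o with _ | j
      · show ((x ^ (i : ℕ))⁻¹ * c) • P = P
        rw [mul_smul, hcP, inv_smul_eq_iff, hxiP]
      · show ((x ^ (i : ℕ))⁻¹ * c) • x ^ (j : ℕ) • Q = x ^ (j : ℕ) • Q
        rw [← mul_smul, mul_assoc, (hcx.pow_right _).eq, ← mul_assoc,
          (Commute.pow_pow (Commute.refl x) _ _).inv_left.eq, mul_assoc, mul_smul]
        rw [mul_smul, ← ho, inv_smul_smul]
    rcases (MonoidHom.normal_ker (MulAction.toPermHom G α)).eq_bot_or_eq_top with hb | ht
    · rw [hb, mem_bot, inv_mul_eq_one] at hker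
      exact hker ▸ pow_mem (mem_zpowers x) _
    · exfalso
      have : x ∈ (MulAction.toPermHom G α).ker := ht ▸ mem_top x
      exact hfix (by simpa using Equiv.ext_iff.1 (MonoidHom.mem_ker.1 this) Q)

theorem cent_of_twelve {x : G} (hx : orderOf x = 11) (h : Nat.card (Sylow 11 G) = 12) :
    cent x ≤ zpowers x := by
  classical
  haveI : Fact (Nat.Prime 11) := ⟨by norm_num⟩
  obtain ⟨P, hP, hPs⟩ := exists_sylow (factorization_eleven hG) hx
  obtain ⟨Q, hQ⟩ : ∃ Q : Sylow 11 G, Q ≠ P := by
    haveI := Fintype.ofFinite (Sylow 11 G)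
    rw [Nat.card_eq_fintype_card] at h
    exact Fintype.exists_ne_of_one_lt_card (by omega) P
  intro c hc
  refine mem_zpowers_of_twelve (α := Sylow 11 G) h hx (P := P)
    (Sylow.smul_eq_iff_mem_normalizer.2 (by rw [hPs]; exact le_normalizer (mem_zpowers x))) (Q := Q)
    ?_ (Order7920.mem_C.1 hc)
    (Sylow.smul_eq_iff_mem_normalizer.2 (by rw [hPs]; exact Order7920.C_le_N x hc))
  intro hxQ
  rw [Sylow.smul_eq_iff_mem_normalizer] at hxQ
  have hle : zpowers x ≤ (Q : Subgroup G) := by
    have hq : IsPGroup 11 (zpowers x) :=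
      IsPGroup.of_card (n := 1) (by rw [Nat.card_zpowers, hx, pow_one])
    have := hq.inf_normalizer_sylow Q
    rw [inf_eq_left.2 (zpowers_le.2 hxQ)] at this
    exact inf_eq_left.1 this.symm
  exact hQ (Sylow.ext (P.3 Q.2 (by rw [hP]; exact hle)))

/-- A small `r`-group normalised by `N(x)` and centralised by `x` leads to twelve points. -/
theorem false_of_small_group {x : G} (hx : orderOf x = 11)
    (hN : Nat.card (normalizer (zpowers x : Set G)) = 660) {r n : ℕ} [Fact r.Prime] {R : Subgroup G}
    (hn : n ≠ 0) (hR : Nat.card R = r ^ n) (hr : r ^ (n + 1) ∣ 95040) (hr' : ¬ r ^ (n + 1) ∣ 660)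
    (hRx : R ≤ cent x) (hRN : normalizer (zpowers x : Set G) ≤ normalizer (R : Set G)) : False := by
  classical
  haveI : Fact (Nat.Prime 11) := ⟨by norm_num⟩
  set M := normalizer (R : Set G)
  have hRne : R ≠ ⊥ := fun h => by
    rw [h, card_bot] at hR
    exact (Nat.one_lt_pow hn (Fact.out : r.Prime).one_lt).ne hR
  have hRtop : M ≠ ⊤ := by
    intro h
    rcases (normalizer_eq_top_iff.1 h).eq_bot_or_eq_top with h' | h'
    · exact hRne h'
    · exact (noncomm hG).elim fun a ⟨b, hab⟩ => hab <| by
        have hxc : x ∈ center G := mem_center_iff.2 fun g => Order7920.mem_C.1 (hRx (h' ▸ mem_top g))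
        rw [eq_one_of_central hG hxc, orderOf_one] at hx
        omega
  have hgrow : r ^ (n + 1) ∣ Nat.card M := by
    have h1 := Sylow.prime_dvd_card_quotient_normalizer (hG.symm ▸ hr) hR
    have h2 := card_mul_index (R.comap M.subtype)
    rw [show R.comap M.subtype = R.subgroupOf M from rfl] at h2
    rw [Nat.card_congr (subgroupOfEquivOfLe le_normalizer).toEquiv, hR] at h2
    rw [← h2, pow_succ]
    exact mul_dvd_mul_left _ h1
  have hxM : x ∈ M := hRN (le_normalizer (mem_zpowers x))
  obtain ⟨P, hP, hPs⟩ := exists_sylow (factorization_eleven hG) hx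
  have hle : (P : Subgroup G) ≤ M := hP ▸ zpowers_le.2 hxM
  set P' := P.subtype hle
  have hnorm : normalizer ((P' : Subgroup M) : Set M) =
      (normalizer (zpowers x : Set G)).subgroupOf M := by
    ext g
    simp only [mem_normalizer_iff, P', Sylow.coe_subtype, mem_subgroupOf, hP]
    constructor
    · intro h y
      constructor
      · intro hy
        simpa using (h ⟨y, zpowers_le.2 hxM hy⟩).1 (by simpa using hy)
      · intro hy
        have hyC : y ∈ M := by
          have := mul_mem (mul_mem (inv_mem g.2) (zpowers_le.2 hxM hy)) g.2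
          simpa [mul_assoc] using this
        exact (h ⟨y, hyC⟩).2 (by simpa using hy)
    · intro h y
      simpa using h (y : G)
  have hmod := card_sylow_modEq_one 11 M
  rw [P'.card_eq_index_normalizer, show normalizer (P' : Set M) = _ from hnorm] at hmod
  have hi := card_mul_index ((normalizer (zpowers x : Set G)).subgroupOf M)
  rw [Nat.card_congr (subgroupOfEquivOfLe hRN).toEquiv, hN] at hi
  set k := ((normalizer (zpowers x : Set G)).subgroupOf M).index
  have hdvd : 660 * k ∣ 660 * 144 := by
    rw [hi, show 660 * 144 = 95040 by rfl, ← hG]; exact card_subgroup_dvd_card M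
  have hk : k ∣ 144 := Nat.dvd_of_mul_dvd_mul_left (by norm_num) hdvd
  have key : ∀ k < 145, k ∣ 144 → k % 11 = 1 → k = 1 ∨ k = 12 ∨ k = 144 := by decide +kernel
  rcases key k (Nat.lt_succ_of_le (Nat.le_of_dvd (by norm_num) hk)) hk hmod with h | h | h
  · rw [h, mul_one] at hi
    exact hr' (hi ▸ hgrow)
  · rw [h] at hi
    have hidx : Nat.card (G ⧸ M) = 12 := by
      have := M.index_mul_card
      rw [hG, ← hi] at this
      show M.index = 12
      omega
    obtain ⟨c, hcR, hc1⟩ := (ne_bot_iff_exists_ne_one.1 hRne).elim fun c hc =>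
      (⟨c.1, c.2, fun h => hc (Subtype.ext h)⟩ : ∃ c ∈ R, c ≠ 1)
    obtain ⟨Q, hQ⟩ : ∃ Q : G ⧸ M, x • Q ≠ Q := by
      by_contra hall
      push Not at hall
      have hker : x ∈ (MulAction.toPermHom G (G ⧸ M)).ker := MonoidHom.mem_ker.2 (Equiv.ext hall)
      rcases (MonoidHom.normal_ker (MulAction.toPermHom G (G ⧸ M))).eq_bot_or_eq_top with hb | ht
      · rw [hb, mem_bot] at hker
        rw [hker, orderOf_one] at hx
        omega
      · refine hRtop (eq_top_iff.2 fun g _ => ?_)
        have : g ∈ (MulAction.toPermHom G (G ⧸ M)).ker := ht ▸ mem_top g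
        have h1 : g • ((1 : G) : G ⧸ M) = ((1 : G) : G ⧸ M) :=
          Equiv.ext_iff.1 (MonoidHom.mem_ker.1 this) ((1 : G) : G ⧸ M)
        rw [Quotient.smul_mk, smul_eq_mul, mul_one, QuotientGroup.eq, mul_one, inv_mem_iff] at h1
        exact h1
    have hstab : ∀ g ∈ M, g • ((1 : G) : G ⧸ M) = ((1 : G) : G ⧸ M) := fun g hg => by
      rw [Quotient.smul_mk, smul_eq_mul, mul_one, QuotientGroup.eq, mul_one, inv_mem_iff]
      exact hg
    have hc : c ∈ zpowers x := mem_zpowers_of_twelve (α := G ⧸ M) hidx hx (hstab x hxM) hQ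
      (Order7920.mem_C.1 (hRx hcR)) (hstab c (le_normalizer hcR))
    have h11 : orderOf c ∣ 11 := by
      rw [← hx, ← Nat.card_zpowers x]; exact Subgroup.orderOf_dvd_natCard _ hc
    have hrn : orderOf c ∣ r ^ n := hR ▸ Subgroup.orderOf_dvd_natCard _ hcR
    refine hc1 (orderOf_eq_one_iff.1 (Nat.eq_one_of_dvd_coprimes ?_ h11 hrn))
    refine Nat.Coprime.pow_right _ ((Nat.coprime_primes (by norm_num) Fact.out).2 ?_)
    rintro rfl
    have := (pow_dvd_pow 11 (show 2 ≤ n + 1 by omega)).trans hr
    norm_num at this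
  · rw [h] at hi
    exact hRtop (eq_top_of_card_eq _ (by rw [hG]; omega))

/-- Elements of order 11. -/
theorem eleven {x : G} (hx : orderOf x = 11) :
    Nat.card (cent x) = 11 ∧ Nat.card (normalizer (zpowers x : Set G)) = 55 := by
  classical
  haveI : Fact (Nat.Prime 11) := ⟨by norm_num⟩
  haveI : Fact (Nat.Prime 2) := ⟨Nat.prime_two⟩
  haveI : Fact (Nat.Prime 3) := ⟨Nat.prime_three⟩
  obtain ⟨e, hN, hrel, he, he1, hc, hd, hn1, hmod⟩ := local_data hG (factorization_eleven hG) hx
  obtain ⟨P, hP, hPs⟩ := exists_sylow (factorization_eleven hG) hx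
  set n := Nat.card (normalizer (zpowers x : Set G)) with hn
  set c := Nat.card (cent x) with hcdef
  obtain ⟨i, hi⟩ := hd
  have hn0 : 0 < n := Nat.card_pos
  rw [show 95040 / n = i by rw [hi, Nat.mul_div_cancel_left _ hn0]] at hn1 hmod
  have hi8 : i ∣ 8640 := by
    have : 11 * i ∣ 11 * 8640 := by
      rw [show 11 * 8640 = n * i from hi]
      exact Nat.mul_dvd_mul_right (hc.trans ⟨e, hN⟩) i
    exact Nat.dvd_of_mul_dvd_mul_left (by norm_num) this
  have key := @index_cases
  have key2 : ∀ e < 11, e ∣ 10 → e ≠ 1 → e = 2 ∨ e = 5 ∨ e = 10 := by decide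
  have he' := key2 e (Nat.lt_succ_of_le (Nat.le_of_dvd (by norm_num) he)) he he1
  obtain ⟨V, hV⟩ := hc
  have hne2 : e ≠ 2 := by
    intro he2
    refine SmallSimple.Below3640.false_of_degSols (not_comm hG) (p := 11) (m := 8640) (e := 2)
      (by rw [hG]) (by norm_num) le_rfl P ?_ (by decide +kernel)
    rw [hP, Order7920.centralizer_zpowers, hrel, he2]
  have hni : n * i = 95040 := hi.symm
  have hi' := key i (Nat.lt_succ_of_le (Nat.le_of_dvd (by norm_num) hi8)) hmod hi8 hn1
  rcases hi' with rfl | rfl | rfl | rfl | rfl | rfl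
  · exfalso
    have hcard : Nat.card (Sylow 11 G) = 12 := by
      rw [P.card_eq_index_normalizer, hPs]
      have h2 := (normalizer (zpowers x : Set G)).index_mul_card
      rw [hG] at h2
      change (normalizer (zpowers x : Set G)).index * n = 95040 at h2
      have : n = 7920 := by omega
      rw [this] at h2
      omega
    have h1 : c ≤ 11 := by
      have := card_le_of_le (cent_of_twelve hG hx hcard)
      rwa [Nat.card_zpowers, hx] at this
    rcases he' with rfl | rfl | rfl <;> omega
  · exfalso; rcases he' with rfl | rfl | rfl <;> omega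
  · exfalso
    have hN660 : n = 660 := by omega
    have hVc : V = 12 ∨ V = 6 := by rcases he' with rfl | rfl | rfl <;> omega
    -- the complement of `x` in its centraliser
    have hxC : x ∈ cent x := Order7920.mem_C.2 rfl
    have hle : (P : Subgroup G) ≤ cent x := hP ▸ zpowers_le.2 hxC
    obtain ⟨P', K, hK, hcomp⟩ : HasNormalPComplement 11 (cent x) :=
      Transfer.hasNormalPComplement_of_normalizer_le_centralizer (P.subtype hle) fun g _ =>
        mem_centralizer_iff.2 fun y hy => Subtype.ext (by
          have hy' : (y : G) ∈ zpowers x := by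
            have : (y : G) ∈ (P : Subgroup G) := hy
            rwa [hP] at this
          obtain ⟨k, hk⟩ := hy'
          simp only [Subgroup.coe_mul, ← hk]
          exact ((Commute.zpow_right (Order7920.mem_C.1 g.2 : Commute (g : G) x) k).eq).symm)
    have hKcard : Nat.card K = V := by
      have h1 := hcomp.card_mul_card
      have h2 : Nat.card (P' : Subgroup (cent x)) = 11 := by
        rw [P'.card_eq_multiplicity, ← hcdef, hV, Nat.factorization_mul (by norm_num)
          (by rcases hVc with h | h <;> omega), Finsupp.add_apply,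
          (by norm_num : Nat.Prime 11).factorization_self, Nat.factorization_eq_zero_of_not_dvd
          (by rcases hVc with h | h <;> subst h <;> norm_num), pow_one]
      rw [h2, ← hcdef, hV] at h1
      omega
    have hcop : ∀ g : cent x, orderOf g ∣ V → g ∈ K := by
      intro g hg
      have h1 : orderOf (QuotientGroup.mk' K g) ∣ orderOf g := orderOf_map_dvd _ g
      have h2 : orderOf (QuotientGroup.mk' K g) ∣ 11 := by
        have h3 := orderOf_dvd_natCard (QuotientGroup.mk' K g)
        have h4 : Nat.card (cent x ⧸ K) = 11 := by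
          have := K.index_mul_card
          rw [hKcard, ← hcdef, hV] at this
          show K.index = 11
          exact Nat.eq_of_mul_eq_mul_right (by rcases hVc with h | h <;> omega) this
        rwa [h4] at h3
      have h3 : orderOf (QuotientGroup.mk' K g) = 1 :=
        Nat.eq_one_of_dvd_coprimes (by rcases hVc with h | h <;> subst h <;> norm_num) h2
          (h1.trans hg)
      exact (QuotientGroup.eq_one_iff g).1 (orderOf_eq_one_iff.1 h3)
    -- a normal Sylow subgroup of the complement
    have hf : ∀ r m k : ℕ, r.Prime → V = r ^ m * k → ¬ r ∣ k → V.factorization r = m := by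
      intro r m k hr h hk
      rw [h, Nat.factorization_mul (pow_pos hr.pos m).ne' (fun h0 => hk (by rw [h0]; exact dvd_zero r)),
        Finsupp.add_apply, hr.factorization_pow, Finsupp.single_eq_same,
        Nat.factorization_eq_zero_of_not_dvd hk, add_zero]
    obtain ⟨r, m, hr, hm, hrm, hrV, hr3, hu⟩ : ∃ r m : ℕ, r.Prime ∧ m ≠ 0 ∧
        r ^ (m + 1) ∣ 95040 ∧ V.factorization r = m ∧ ¬ r ^ (m + 1) ∣ 660 ∧
        Nat.card (Sylow r K) = 1 := by
      rcases hVc with h | h
      · rcases sylow_twelve (hKcard.trans h) with h' | h'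
        · exact ⟨3, 1, Nat.prime_three, one_ne_zero, by norm_num,
            hf 3 1 4 Nat.prime_three (by omega) (by norm_num), by norm_num, h'⟩
        · exact ⟨2, 2, Nat.prime_two, two_ne_zero, by norm_num,
            hf 2 2 3 Nat.prime_two (by omega) (by norm_num), by norm_num, h'⟩
      · refine ⟨3, 1, Nat.prime_three, one_ne_zero, by norm_num,
          hf 3 1 2 Nat.prime_three (by omega) (by norm_num), by norm_num, ?_⟩
        obtain ⟨S⟩ : Nonempty (Sylow 3 K) := inferInstance
        have h1 := S.card_dvd_index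
        have h2 := (S : Subgroup K).card_mul_index
        rw [S.card_eq_multiplicity, hKcard, hf 3 1 2 Nat.prime_three (by omega) (by norm_num), h,
          pow_one] at h2
        have h3 : (S : Subgroup K).index = 2 := by omega
        rw [h3] at h1
        have h4 := card_sylow_modEq_one 3 K
        rw [Nat.ModEq] at h4
        have := Nat.le_of_dvd (by norm_num) h1
        omega
    haveI := Fact.mk hr
    obtain ⟨S⟩ : Nonempty (Sylow r K) := inferInstance
    haveI := (Nat.card_eq_one_iff_unique.mp hu).1
    set R : Subgroup G := ((S : Subgroup K).map K.subtype).map (cent x).subtype with hRdef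
    have hRcard : Nat.card R = r ^ m := by
      rw [hRdef, card_map_of_injective (cent x).subtype_injective,
        card_map_of_injective K.subtype_injective, S.card_eq_multiplicity, hKcard, hrV]
    refine false_of_small_group hG hx hN660 hm hRcard hrm hr3 (map_subtype_le _) fun g hg => ?_
    -- the normaliser of `⟨x⟩` normalises `R`
    have hmapR : ∀ g ∈ normalizer (zpowers x : Set G), ∀ y ∈ R, g * y * g⁻¹ ∈ R := by
      intro g hg y hy
      obtain ⟨k, -, hk⟩ := Order7920.exists_pow_of_mem_N hg
      have hconj : ∀ z : G, z ∈ cent x → g⁻¹ * z * g ∈ cent x := fun z hz => Order7920.mem_C.2 (by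
        have hzk : Commute z (x ^ k) := Commute.pow_right (Order7920.mem_C.1 hz) k
        rw [← hk] at hzk
        calc g⁻¹ * z * g * x = g⁻¹ * (z * (g * x * g⁻¹)) * g := by group
          _ = g⁻¹ * (g * x * g⁻¹ * z) * g := by rw [hzk.eq]
          _ = x * (g⁻¹ * z * g) := by group)
      obtain ⟨_, ⟨z, hz, rfl⟩, rfl⟩ := hy
      have hzc : g * (z : G) * g⁻¹ ∈ cent x := by
        obtain ⟨k', -, hk'⟩ := Order7920.exists_pow_of_mem_N (inv_mem hg)
        have hzk : Commute (z : G) (x ^ k') := Commute.pow_right (Order7920.mem_C.1 (z.1).2) k'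
        rw [← hk', inv_inv] at hzk
        exact Order7920.mem_C.2 (by
          calc g * (z : G) * g⁻¹ * x = g * ((z : G) * (g⁻¹ * x * g)) * g⁻¹ := by group
            _ = g * (g⁻¹ * x * g * z) * g⁻¹ := by rw [hzk.eq]
            _ = x * (g * (z : G) * g⁻¹) := by group)
      have horder : ∀ (w : cent x), (w : G) = g * (z : G) * g⁻¹ → orderOf w = orderOf z := fun w hw => by
        rw [← Subgroup.orderOf_coe, hw, show g * (z : G) * g⁻¹ = MulAut.conj g (z : G) from rfl,
          MulEquiv.orderOf_eq]
        exact (Subgroup.orderOf_coe z.1).trans (Subgroup.orderOf_coe z)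
      have hzK : (⟨_, hzc⟩ : cent x) ∈ K := hcop _ (by
        rw [horder _ rfl, ← hKcard]; exact orderOf_dvd_natCard z)
      refine ⟨_, ⟨⟨_, hzK⟩, ?_, rfl⟩, rfl⟩
      have hp : IsPGroup r (zpowers (⟨⟨_, hzc⟩, hzK⟩ : K)) := by
        obtain ⟨j, -, hj⟩ := (Nat.dvd_prime_pow hr).1
          (show orderOf z ∣ r ^ m by
            rw [← hrV, ← hKcard, ← S.card_eq_multiplicity]
            exact orderOf_dvd_natCard _ hz)
        refine IsPGroup.of_card (n := j) ?_
        rw [Nat.card_zpowers, ← Subgroup.orderOf_coe, horder _ rfl, hj]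
      obtain ⟨S', hS'⟩ := hp.exists_le_sylow
      exact Subsingleton.elim S' S ▸ hS' (mem_zpowers _)
    exact mem_normalizer_iff.2 fun y => ⟨hmapR g hg y, fun hy => by
      simpa [mul_assoc] using hmapR g⁻¹ (inv_mem hg) _ hy⟩
  · exfalso; rcases he' with rfl | rfl | rfl <;> omega
  · exfalso; rcases he' with rfl | rfl | rfl <;> omega
  · exact ⟨by rcases he' with rfl | rfl | rfl <;> omega, by omega⟩

end Cfsg.Agent.Order95040
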