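import Cfsg.Agent.Lib.Order95040.Vals

/-!
# Elements of order 5 have a normaliser acting as the full automorphism group
-/

namespace Cfsg.Agent.Order95040

open scoped ComplexConjugate
open Cfsg Subgroup

set_option linter.style.haveILetI false

universe u

/-- A possible degree for the list `l`. -/
def degOK (l : List ℤ) (n : ℕ) : Bool :=
  decide (95040 % n = 0) && (decide (n % 11 = 0) || decide (n ∈ l.map Int.natAbs) || decide (n = yOf l))

theorem scan_adjacent : ∀ l ∈ optLists, ∀ a < 309, degOK l a = true → degOK l (a + 1) = true →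
    ((a % 5 = 1 ∨ a % 5 = 4) → ((a + 1) % 5 = 2 ∨ (a + 1) % 5 = 3) → a + 1 = 12) ∧
      (((a + 1) % 5 = 1 ∨ (a + 1) % 5 = 4) → (a % 5 = 2 ∨ a % 5 = 3) → a = 12) := by
  decide +kernel

/-- What is needed of a row with equal values at two characters of degree 12. -/
def twelveRow (C : ℕ) (l v : List ℤ) (i j : ℕ) : Bool :=
  decide (v.getD i 0 ≠ v.getD j 0) ||
    (decide (v.getD i 0 = 0) && decide (v.getD j 0 = 0) && decide (2112 % C ≠ 0) &&
      decide (yOf l % 5 = 0) && decide (-10 ∈ l) &&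
      (List.range 4).all fun k => decide (k = i) || decide (k = j) || decide ((l.getD k 0).natAbs % 5 = 0))

theorem scan_twelve : ∀ l ∈ optLists, ∀ i j : Fin 4, l.getD i.1 0 = 12 → l.getD j.1 0 = 12 → i ≠ j →
    decide (yOf l = 5) = true ∨ ((centOrders 2).all fun C => (valueRows 4 0 C l).all fun v =>
      !invTest C l v || twelveRow C l v i.1 j.1) = true := by
  decide +kernel

theorem opt_twelve : ∀ l ∈ optLists, yOf l ≠ 12 ∧ ∀ z ∈ l, z.natAbs = 12 → z = 12 := by decide +kernel

theorem getD_ofFn (f : Fin 4 → ℤ) (i : Fin 4) : (List.ofFn f).getD i 0 = f i := by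
  rw [ofFn_four]; fin_cases i <;> rfl

variable {G : Type u} [Group G] [Fintype G] [IsSimpleGroup G] (hG : Nat.card G = 95040)
include hG

/-- A character of degree 10 forbids involutions centralising an element of order 5. -/
theorem odd_cent_of_degree_ten {χ : IrrCharacter G} (hχ : Char.degree χ = 10) {y : G}
    (hy : orderOf y = 5) : ¬ 2 ∣ Nat.card (cent y) := by
  classical
  haveI : Fact (Nat.Prime 2) := ⟨Nat.prime_two⟩
  intro h2
  obtain ⟨a', ha'⟩ := exists_prime_orderOf_dvd_card' (G := cent y) 2 h2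
  set a : G := (a' : G) with hadef
  have hao : orderOf a = 2 := by rw [hadef, Subgroup.orderOf_coe, ha']
  have hc : Commute y a := (Order7920.mem_C.1 a'.2).symm
  set z := y * a with hzdef
  have hz : orderOf z = 10 := by
    rw [hzdef, hc.orderOf_mul_eq_mul_orderOf_of_coprime (by rw [hy, hao]; norm_num), hy, hao]
  obtain ⟨n, μ, hn, hμ, hval⟩ := CharInt.exists_roots (Char.irr_isCharacter χ) z
  have hvan : ∀ i < 10, i ≠ 0 → i ≠ 5 → χ.1 (z ^ i) = 0 := by
    intro i hi hi0 hi5
    refine zero_five hG (by rw [hχ]; norm_num) ?_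
    rw [orderOf_pow' _ hi0, hz]
    revert hi0 hi5
    interval_cases i <;> norm_num
  have hz5 : z ^ 5 = a := by
    rw [hzdef, hc.mul_pow, show y ^ 5 = 1 by rw [← hy, pow_orderOf_eq_one], one_mul,
      show a ^ 5 = a ^ 2 * a ^ 2 * a by group, show a ^ 2 = 1 by rw [← hao, pow_orderOf_eq_one]]
    simp
  obtain ⟨m, hev, hm0, hmlt, hma⟩ :=
    Order7920.involution_value (noncomm hG) χ (fun h => by
      have := Char.apply_one_eq_degree χ
      rw [hχ, h, Char.trivialChar_apply] at this
      norm_num at this) hao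
  set k := (Finset.univ.filter fun i => μ i = 1).card
  have hsum : ∀ i, ∑ j ∈ Finset.range 10, μ i ^ j = if μ i = 1 then 10 else 0 := by
    intro i
    by_cases h : μ i = 1
    · simp [h]
    · rw [if_neg h, geom_sum_eq h, show μ i ^ 10 = 1 by rw [← hz]; exact hμ i, sub_self, zero_div]
  have h1 : ∑ j ∈ Finset.range 10, χ.1 (z ^ j) = 10 * (k : ℂ) := by
    simp only [hval]
    rw [Finset.sum_comm, Finset.sum_congr rfl fun i _ => hsum i, ← Finset.sum_filter,
      Finset.sum_const, nsmul_eq_mul, mul_comm]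
  have h2' : ∑ j ∈ Finset.range 10, χ.1 (z ^ j) = 10 + ((10 : ℂ) - 2 * m) := by
    rw [Finset.sum_range_succ, Finset.sum_range_succ, Finset.sum_range_succ, Finset.sum_range_succ,
      Finset.sum_range_succ, Finset.sum_range_succ, Finset.sum_range_succ, Finset.sum_range_succ,
      Finset.sum_range_succ, Finset.sum_range_succ, Finset.sum_range_zero,
      hvan 1 (by norm_num) (by norm_num) (by norm_num),
      hvan 2 (by norm_num) (by norm_num) (by norm_num),
      hvan 3 (by norm_num) (by norm_num) (by norm_num),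
      hvan 4 (by norm_num) (by norm_num) (by norm_num),
      hvan 6 (by norm_num) (by norm_num) (by norm_num),
      hvan 7 (by norm_num) (by norm_num) (by norm_num),
      hvan 8 (by norm_num) (by norm_num) (by norm_num),
      hvan 9 (by norm_num) (by norm_num) (by norm_num),
      pow_zero, hz5, hma, Char.apply_one_eq_degree, hχ]
    push_cast
    ring
  rw [h1] at h2'
  have h3 : ((10 * k + 2 * m : ℕ) : ℂ) = ((20 : ℕ) : ℂ) := by
    push_cast
    linear_combination h2'
  have h4 : 10 * k + 2 * m = 20 := by exact_mod_cast h3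
  rw [hχ] at hmlt
  obtain ⟨r, rfl⟩ := hev
  omega

/-- The normaliser of a subgroup of order 5 induces all its automorphisms. -/
theorem five_relIndex {y : G} (hy : orderOf y = 5) :
    (cent y).relIndex (normalizer (zpowers y : Set G)) = 4 := by
  classical
  haveI : Fact (Nat.Prime 5) := ⟨by norm_num⟩
  haveI : Fact (Nat.Prime 11) := ⟨by norm_num⟩
  haveI : Fact (Nat.Prime 2) := ⟨Nat.prime_two⟩
  obtain ⟨e, hN, hrel, he, he1, hc5, hd, -, hmod⟩ := local_data hG (factorization_five hG) hy
  rw [hrel]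
  have key : ∀ e < 5, e ∣ 4 → e ≠ 1 → e = 2 ∨ e = 4 := by decide
  rcases key e (Nat.lt_succ_of_le (Nat.le_of_dvd (by norm_num) he)) he he1 with h2 | h4
  swap
  · exact h4
  exfalso
  subst h2
  have hC5 : Nat.card (cent y) ≠ 5 := fun h => by rw [hN, h] at hmod; norm_num at hmod
  obtain ⟨x, hx⟩ := exists_prime_orderOf_dvd_card' (G := G) 11 (by rw [hG]; norm_num)
  obtain ⟨t, ht⟩ := exists_prime_orderOf_dvd_card' (G := G) 2 (by rw [hG]; norm_num)
  obtain ⟨S⟩ := exists_shape hG hx
  obtain ⟨M, hM⟩ := CharInt.exists_isPModular_of_prime (q := 5) (by norm_num)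
  haveI := hM.2.1
  obtain ⟨P, hP, -⟩ := exists_sylow (factorization_five hG) hy
  have hPc : Nat.card (P : Subgroup G) = 5 := by rw [hP, Nat.card_zpowers, hy]
  have hrel' : (centralizer ((P : Subgroup G) : Set G)).relIndex
      (normalizer ((P : Subgroup G) : Set G)) = 2 := by
    rw [hP, Order7920.centralizer_zpowers]; exact hrel
  obtain ⟨B⟩ := DefectOne.primeShape hM.2.2 hPc hrel'
  set T := Char.trivialChar G
  have hTX : T ∈ B.X := NineTwoQ.trivial_mem_X (noncomm hG) B (by norm_num)
  have hyP : y ∈ (P : Subgroup G) := hP ▸ mem_zpowers y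
  have hy1 : (⟨y, hyP⟩ : (P : Subgroup G)) ≠ 1 := fun h => by
    have h' : y = 1 := congrArg Subtype.val h
    rw [h', orderOf_one] at hy; omega
  have hεT : B.εX T = 1 := by
    have := B.X_val _ hTX ⟨y, hyP⟩ hy1
    rw [Char.trivialChar_apply] at this
    exact_mod_cast this.symm
  obtain ⟨c, hc⟩ := Finset.card_eq_one.1
    (show (B.X.erase T).card = 1 by rw [Finset.card_erase_of_mem hTX, B.cardX])
  have hcX : c ∈ B.X := Finset.mem_of_mem_erase (hc ▸ Finset.mem_singleton_self c)
  have hcT : c ≠ T := Finset.ne_of_mem_erase (hc ▸ Finset.mem_singleton_self c)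
  obtain ⟨θ, θ', hne, hY⟩ := Finset.card_eq_two.1 (show B.Y.card = 2 by rw [B.cardY])
  have hθ : θ ∈ B.Y := by rw [hY]; simp
  have hθ' : θ' ∈ B.Y := by rw [hY]; simp
  have hθT : ∀ η ∈ B.Y, η ≠ T := fun η hη e => Finset.disjoint_left.1 B.disj hTX (e ▸ hη)
  have hrelation := B.degree_relation hθ
  rw [← Finset.add_sum_erase _ _ hTX, hc, Finset.sum_singleton, hεT,
    show Char.degree T = 1 from NineTwoQ.degree_trivial] at hrelation
  have hok : ∀ χ : IrrCharacter G, χ ≠ T → degOK (List.ofFn S.z) (Char.degree χ) = true := by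
    intro χ hχ
    simp only [degOK, Bool.and_eq_true, Bool.or_eq_true, decide_eq_true_eq]
    refine ⟨Nat.mod_eq_zero_of_dvd (hG ▸ Char.degree_dvd_natCard χ), ?_⟩
    by_cases hi : ∃ i, χ = S.chi i
    · obtain ⟨i, rfl⟩ := hi
      refine Or.inl (Or.inr ?_)
      rw [List.map_ofFn, List.mem_ofFn]
      exact ⟨i, (S.deg i).symm⟩
    by_cases h1 : χ = S.th
    · exact Or.inr (h1 ▸ S.deg_th.1)
    by_cases h2 : χ = S.th'
    · exact Or.inr (h2 ▸ S.deg_th.2)
    exact Or.inl (Or.inl (Nat.mod_eq_zero_of_dvd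
      (S.dvd_degree hG hx hχ (fun i h => hi ⟨i, h⟩) h1 h2)))
  have hcmod := Int.ModEq.eq (B.X_deg' hcX)
  have hθmod := Int.ModEq.eq (B.Y_deg' hθ)
  have hb : Char.degree θ = 12 := by
    have hc0 := Char.degree_pos c
    have hθ0 := Char.degree_pos θ
    have hlt1 := (degree_le hG c).2
    have hlt2 := (degree_le hG θ).2
    have hθ1 : Char.degree θ ≠ 1 := degree_ne_one hG (hθT θ hθ)
    have k1 := hok c hcT
    have k2 := hok θ (hθT θ hθ)
    generalize Char.degree c = dc at *
    generalize Char.degree θ = dθ at *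
    rcases B.hε with e1 | e1 <;> rcases B.hεX c hcX with e2 | e2 <;>
      rw [e1, e2] at hrelation <;> rw [e1] at hθmod <;> rw [e2] at hcmod <;> push_cast at hθmod hcmod
    · have hd : dθ = dc + 1 := by omega
      subst hd
      exact (scan_adjacent _ S.opt dc hlt1 k1 k2).1 (by omega) (by omega)
    · omega
    · omega
    · have hd : dc = dθ + 1 := by omega
      subst hd
      exact (scan_adjacent _ S.opt dθ hlt2 k2 k1).2 (by omega) (by omega)
  have hb' : Char.degree θ' = 12 := (B.degree_eq hθ' hθ).trans hb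
  obtain ⟨hy12, hz12⟩ := opt_twelve _ S.opt
  have hchi : ∀ η : IrrCharacter G, η ≠ T → Char.degree η = 12 → ∃ i, η = S.chi i ∧ S.z i = 12 := by
    intro η hη hd
    by_cases hi : ∃ i, η = S.chi i
    · obtain ⟨i, rfl⟩ := hi
      exact ⟨i, rfl, hz12 _ (List.mem_ofFn.2 ⟨i, rfl⟩) (by rw [← S.deg i, hd])⟩
    exfalso
    by_cases h1 : η = S.th
    · exact hy12 (by rw [← S.deg_th.1, ← h1, hd])
    by_cases h2 : η = S.th'
    · exact hy12 (by rw [← S.deg_th.2, ← h2, hd])
    have := S.dvd_degree hG hx hη (fun i h => hi ⟨i, h⟩) h1 h2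
    rw [hd] at this
    norm_num at this
  obtain ⟨i, rfl, hzi⟩ := hchi θ (hθT θ hθ) hb
  obtain ⟨j, rfl, hzj⟩ := hchi θ' (hθT θ' hθ') hb'
  have hij : i ≠ j := fun h => hne (h ▸ rfl)
  rcases scan_twelve _ S.opt i j (by rw [getD_ofFn, hzi]) (by rw [getD_ofFn, hzj]) hij with h5 | hscan
  · rw [decide_eq_true_eq] at h5
    exact hC5 (no_degree_five hG (χ := S.th) (by rw [S.deg_th.1, h5]) hy)
  · obtain ⟨a, ha, hC, hmem, htest⟩ := S.inv_row hG hx ht
    have hv := List.all_eq_true.1 (List.all_eq_true.1 hscan _ hC) _ hmem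
    rw [htest, Bool.not_true, Bool.false_or] at hv
    have h := B.agree _ hθ' _ hθ t (by show ¬ 5 ∣ orderOf t; rw [ht]; norm_num)
    rw [ha, ha] at h
    have hij' : a i = a j := (by exact_mod_cast h : a j = a i).symm
    simp only [twelveRow, Bool.or_eq_true, Bool.and_eq_true, decide_eq_true_eq, getD_ofFn, hij',
      ne_eq, not_true_eq_false, false_or, List.all_eq_true, List.mem_range] at hv
    obtain ⟨⟨⟨⟨⟨-, hj0⟩, hC2⟩, hy5⟩, h10⟩, hk⟩ := hv
    obtain ⟨k₀, hk₀⟩ := List.mem_ofFn.1 h10
    -- the centraliser has order 45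
    have hodd := odd_cent_of_degree_ten hG (χ := S.chi k₀) (by rw [S.deg, hk₀]; rfl) hy
    obtain ⟨V, hV⟩ := hc5
    have hC45 : Nat.card (cent y) = 45 := by
      have h8 := (cent_dvd hG (g := y) (not_dvd_eleven hy (by norm_num))
        (fun e => by rw [e, orderOf_one] at hy; omega)).1
      have h27 : Nat.card (cent y) ∣ 135 := by
        have hcop : (Nat.card (cent y)).Coprime (2 ^ 6) :=
          Nat.Coprime.pow_right 6 ((Nat.prime_two.coprime_iff_not_dvd.2 hodd).symm)
        exact hcop.dvd_of_dvd_mul_right ((show (135 * 2 ^ 6 : ℕ) = 8640 by norm_num).symm ▸ h8)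
      have key : ∀ c < 136, c ∣ 135 → 5 ∣ c → 95040 / (c * 2) % 5 = 1 → c = 45 := by decide +kernel
      exact key _ (Nat.lt_succ_of_le (Nat.le_of_dvd (by norm_num) h27)) h27 ⟨V, hV⟩ (hN ▸ hmod)
    have hzero : ∀ k, a k = 0 ∨ (S.chi k).1 y = 0 := fun k => by
      rcases hk k k.2 with (h' | h') | h'
      · exact Or.inl (by rw [Fin.ext h', hij', hj0])
      · exact Or.inl (by rw [Fin.ext h', hj0])
      · rw [getD_ofFn, ← S.deg k] at h'
        exact Or.inr (zero_five hG (Nat.dvd_of_mod_eq_zero h') (hy ▸ dvd_rfl))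
    have hy5' : ∀ η : IrrCharacter G, Char.degree η = yOf (List.ofFn S.z) → η.1 y = 0 := fun η hη =>
      zero_five hG (hη ▸ Nat.dvd_of_mod_eq_zero hy5) (hy ▸ dvd_rfl)
    have hp := S.pairs_eq t y x fun χ h => by
      rw [CharInt.char_inv (Char.irr_isCharacter χ), h, map_zero]
    rw [Finset.sum_eq_zero fun k _ => by
      rcases hzero k with h' | h'
      · rw [ha, h', Int.cast_zero]; simp
      · rw [h']; simp, hy5' _ S.deg_th.1, hy5' _ S.deg_th.2, hG] at hp
    simp only [Char.trivialChar_apply, mul_zero, zero_mul, zero_div, add_zero, mul_one, div_one] at hp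
    obtain ⟨m, hm⟩ := G2TwoRecog.mul_card_centralizer_dvd t y x
    have hp' : Nat.card (G2TwoRecog.Pairs t y x) = 95040 := by exact_mod_cast hp
    rw [hp', hC45] at hm
    change 95040 = Nat.card (cent t) * 45 * m at hm
    refine hC2 (Nat.mod_eq_zero_of_dvd ⟨m, ?_⟩)
    generalize Nat.card (cent t) = C at hm ⊢
    linarith [hm]

/-- An element of order 5 is conjugate to all its non-trivial powers. -/
theorem five_conj {y : G} (hy : orderOf y = 5) :
    ∀ k, k = 1 ∨ k = 2 ∨ k = 3 ∨ k = 4 → IsConj y (y ^ k) := by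
  classical
  intro k hk
  have hcard : Nat.card (zpowers y) = 5 := by rw [Nat.card_zpowers, hy]
  have htop : (zpowers y).normalizerMonoidHom.range = ⊤ := by
    refine eq_top_of_card_eq _ ?_
    rw [IsCyclic.card_mulAut, hcard, Nat.totient_prime (by norm_num), ← Subgroup.index_ker,
      Subgroup.normalizerMonoidHom_ker, Order7920.centralizer_zpowers]
    exact five_relIndex hG hy
  have hcop : (Nat.card (zpowers y)).Coprime k := by
    rw [hcard]
    rcases hk with rfl | rfl | rfl | rfl <;> norm_num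
  let φ : MulAut (zpowers y) :=
    { powCoprime hcop with
      map_mul' := fun a b => Commute.mul_pow (Subtype.ext (by
        obtain ⟨i, hi⟩ := a.2
        obtain ⟨j, hj⟩ := b.2
        show (a : G) * b = b * a
        rw [← hi, ← hj]
        exact (Commute.refl y).zpow_zpow i j)) k }
  obtain ⟨g, hg⟩ : φ ∈ (zpowers y).normalizerMonoidHom.range := htop ▸ mem_top φ
  refine isConj_iff.2 ⟨g, ?_⟩
  exact congrArg Subtype.val (DFunLike.congr_fun hg ⟨y, mem_zpowers y⟩)

end Cfsg.Agent.Order95040
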