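import Cfsg.Agent.Lib.Order95040.Iso

/-!
# The interface between the character theory and the group theory of order 95040

`Facts G` is what the character theory proves about a simple group of order 95040; `Local` is the
structure of the centraliser of an involution of the larger kind; `Rel` (in `Pres`) is what the group
theory must reach, together with generation.
-/

set_option autoImplicit false

namespace Cfsg.Agent.Order95040

open Subgroup

/-- The centralizer of an element. -/
abbrev cent {G : Type*} [Group G] (z : G) : Subgroup G := centralizer ({z} : Set G)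

/-- Consequences of the character theory of a simple group of order 95040. -/
structure Facts (G : Type*) [Group G] : Prop where
  card : Nat.card G = 95040
  /-- Elements of order 11 are self-centralising. -/
  eleven : ∀ x : G, orderOf x = 11 →
    Nat.card (cent x) = 11 ∧ Nat.card (normalizer (zpowers x : Set G)) = 55
  /-- Elements of order 5. -/
  five : ∀ y : G, orderOf y = 5 →
    Nat.card (cent y) = 10 ∧ Nat.card (normalizer (zpowers y : Set G)) = 40
  exists_big : ∃ u : G, orderOf u = 2 ∧ Nat.card (cent u) = 240
  /-- There are two kinds of involutions. -/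
  involution : ∀ i : G, orderOf i = 2 → Nat.card (cent i) = 192 ∨ Nat.card (cent i) = 240
  big_conj : ∀ i j : G, orderOf i = 2 → orderOf j = 2 → Nat.card (cent i) = 240 →
    Nat.card (cent j) = 240 → IsConj i j
  /-- An involution of the bigger kind is not a square. -/
  not_square : ∀ f : G, orderOf f = 4 → Nat.card (cent (f * f)) ≠ 240
  three : ∀ g : G, orderOf g = 3 → 36 ∣ Nat.card (cent g) →
    Nat.card (cent g) = 36 ∨ Nat.card (cent g) = 72
  six_small : ∀ g i : G, orderOf g = 3 → orderOf i = 2 → Commute g i → Nat.card (cent g) = 36 →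
    Nat.card (cent i) = 192 → 41 ≤ Nat.card (cent (g * i))
  six_big : ∀ g i : G, orderOf g = 3 → orderOf i = 2 → Commute g i → Nat.card (cent g) = 72 →
    14 ≤ Nat.card (cent (g * i))
  index : ∀ M : Subgroup G, M ≠ ⊤ → 12 ≤ M.index

/-- The centralizer of `u` is `⟨u⟩ × S₅`, with Coxeter generators `a b c d` of the second factor. -/
structure Local {G : Type*} [Group G] (a b c d u : G) : Prop where
  ou : orderOf u = 2
  oa : orderOf a = 2
  ob : orderOf b = 2
  oc : orderOf c = 2
  od : orderOf d = 2
  cu : Nat.card (cent u) = 240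
  ab : (a * b) ^ 3 = 1
  bc : (b * c) ^ 3 = 1
  cd : (c * d) ^ 3 = 1
  ac : (a * c) ^ 2 = 1
  ad : (a * d) ^ 2 = 1
  bd : (b * d) ^ 2 = 1
  cent_eq : cent u = closure ({a, b, c, d, u} : Set G)
  iso : ∃ φ : ↥(cent u) →* Equiv.Perm (Fin 5), Function.Surjective φ ∧
    φ.ker = (zpowers u).subgroupOf (cent u) ∧
    (∀ z : ↥(cent u), (z : G) = a → φ z = Equiv.swap 0 1) ∧
    (∀ z : ↥(cent u), (z : G) = b → φ z = Equiv.swap 1 2) ∧
    (∀ z : ↥(cent u), (z : G) = c → φ z = Equiv.swap 2 3) ∧
    (∀ z : ↥(cent u), (z : G) = d → φ z = Equiv.swap 3 4)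

end Cfsg.Agent.Order95040
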