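import Cfsg.Agent.Lib.Order95040.Square

/-!
# Assembling the facts on a simple group of order 95040
-/

namespace Cfsg.Agent.Order95040

open scoped ComplexConjugate
open Cfsg Subgroup

set_option linter.style.haveILetI false

universe u

variable {G : Type u} [Group G] [Fintype G] [IsSimpleGroup G] (hG : Nat.card G = 95040)
include hG

/-- The interface from the remaining numerical facts. -/
theorem facts_of
    (hreal : ∀ {x : G}, orderOf x = 11 → ∀ S : Shape x, List.ofFn S.z = theDegs →
      ∀ f : G, ¬ 11 ∣ orderOf f →
        (∀ i, conj ((S.chi i).1 f) = (S.chi i).1 f) ∧ conj (S.th.1 f) = S.th.1 f)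
    (hthree : ∀ g : G, orderOf g = 3 → 36 ∣ Nat.card (cent g) →
      Nat.card (cent g) = 36 ∨ Nat.card (cent g) = 72)
    (hsmall : ∀ g i : G, orderOf g = 3 → orderOf i = 2 → Commute g i → Nat.card (cent g) = 36 →
      Nat.card (cent i) = 192 → 41 ≤ Nat.card (cent (g * i)))
    (hbig : ∀ g i : G, orderOf g = 3 → orderOf i = 2 → Commute g i → Nat.card (cent g) = 72 →
      14 ≤ Nat.card (cent (g * i)))
    (hindex : ∀ M : Subgroup G, M ≠ ⊤ → 12 ≤ M.index) : Facts G where
  card := hG
  eleven := fun _ h => eleven hG h
  five := fun _ h => five hG h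
  exists_big := exists_big hG
  involution := fun _ h => involution hG h
  big_conj := fun _ _ hi hj hci hcj => big_conj hG hi hj hci hcj
  not_square := fun f hf => by
    obtain ⟨x, S, hx, hl⟩ := exists_shape_degs hG
    obtain ⟨h1, h2⟩ := hreal hx S hl f (not_dvd_eleven hf (by norm_num))
    exact not_square hG hx S hl hf h1 h2
  three := hthree
  six_small := hsmall
  six_big := hbig
  index := hindex

end Cfsg.Agent.Order95040
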