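import Cfsg.Agent.Lib.Order95040.Even
import Mathlib.GroupTheory.Perm.Cycle.Type

/-!
# Elements of order 5 and involutions in a simple group of order 95040
-/

namespace Cfsg.Agent.Order95040

open scoped ComplexConjugate
open Cfsg Subgroup
open scoped Pointwise

set_option linter.style.haveILetI false

universe u

theorem centOrders_ten : ∀ C ∈ centOrders 2, 10 ∣ C → C ∈ centOrders 10 := by decide +kernel

theorem centOrders_five : ∀ C ∈ centOrders 5, 95040 / (C * 4) % 5 = 1 → 2 ∣ C →
    C = 5 ∨ C = 10 ∨ C = 20 ∨ C = 180 → C = 10 := by decide +kernel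

variable {G : Type u} [Group G] [Fintype G] [IsSimpleGroup G] (hG : Nat.card G = 95040)
include hG

theorem five_normalizer {y : G} (hy : orderOf y = 5) :
    Nat.card (normalizer (zpowers y : Set G)) = Nat.card (cent y) * 4 ∧
      95040 / (Nat.card (cent y) * 4) % 5 = 1 ∧ 5 ∣ Nat.card (cent y) := by
  haveI : Fact (Nat.Prime 5) := ⟨by norm_num⟩
  obtain ⟨e, hN, hrel, -, -, hc5, -, -, hmod⟩ := local_data hG (factorization_five hG) hy
  rw [five_relIndex hG hy] at hrel
  subst hrel
  exact ⟨hN, hN ▸ hmod, hc5⟩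

/-- An element of order 5 centralises an involution. -/
theorem two_dvd_cent_five {y : G} (hy : orderOf y = 5) : 2 ∣ Nat.card (cent y) := by
  classical
  by_contra hodd
  haveI : Fact (Nat.Prime 3) := ⟨Nat.prime_three⟩
  haveI : Fact (Nat.Prime 5) := ⟨by norm_num⟩
  haveI : Fact (Nat.Prime 11) := ⟨by norm_num⟩
  obtain ⟨hN, hmod, hc5⟩ := five_normalizer hG hy
  have hc : Nat.card (cent y) = 135 := by
    have h8 := (cent_dvd hG (g := y) (not_dvd_eleven hy (by norm_num))
      (fun e => by rw [e, orderOf_one] at hy; omega)).1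
    have h27 : Nat.card (cent y) ∣ 135 :=
      (Nat.Coprime.pow_right 6 ((Nat.prime_two.coprime_iff_not_dvd.2 hodd).symm)).dvd_of_dvd_mul_right
        ((show (135 * 2 ^ 6 : ℕ) = 8640 by norm_num).symm ▸ h8)
    have key : ∀ c < 136, c ∣ 135 → 5 ∣ c → 95040 / (c * 4) % 5 = 1 → c = 135 := by decide +kernel
    exact key _ (Nat.lt_succ_of_le (Nat.le_of_dvd (by norm_num) h27)) h27 hc5 hmod
  have hf27 : (Nat.card G).factorization 3 = 3 := by
    rw [hG, show (95040 : ℕ) = 3 ^ 3 * 3520 by norm_num, Nat.factorization_mul (by norm_num) (by norm_num),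
      Finsupp.add_apply, Nat.prime_three.factorization_pow, Finsupp.single_eq_same,
      Nat.factorization_eq_zero_of_not_dvd (by norm_num)]
  have hf135 : (Nat.card (cent y)).factorization 3 = 3 := by
    rw [hc, show (135 : ℕ) = 3 ^ 3 * 5 by norm_num, Nat.factorization_mul (by norm_num) (by norm_num),
      Finsupp.add_apply, Nat.prime_three.factorization_pow, Finsupp.single_eq_same,
      Nat.factorization_eq_zero_of_not_dvd (by norm_num)]
  obtain ⟨S⟩ : Nonempty (Sylow 3 (cent y)) := inferInstance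
  have hu : Nat.card (Sylow 3 (cent y)) = 1 := by
    have h1 := S.card_dvd_index
    have h2 := (S : Subgroup (cent y)).card_mul_index
    rw [S.card_eq_multiplicity, hf135, hc] at h2
    have h3 : (S : Subgroup (cent y)).index = 5 := by omega
    rw [h3] at h1
    have h4 := card_sylow_modEq_one 3 (cent y)
    rw [Nat.ModEq] at h4
    rcases (Nat.dvd_prime (by norm_num : Nat.Prime 5)).1 h1 with e | e
    · exact e
    · rw [e] at h4; omega
  haveI := (Nat.card_eq_one_iff_unique.mp hu).1
  set R : Subgroup G := (S : Subgroup (cent y)).map (cent y).subtype with hRdef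
  have hRc : Nat.card R = 3 ^ 3 := by
    rw [hRdef, card_map_of_injective (cent y).subtype_injective, S.card_eq_multiplicity, hf135]
  have hmemR : ∀ w : G, w ∈ cent y → w ^ 27 = 1 → w ∈ R := by
    intro w hw h27
    have hp : IsPGroup 3 (zpowers (⟨w, hw⟩ : cent y)) := by
      obtain ⟨j, -, hj⟩ := (Nat.dvd_prime_pow Nat.prime_three).1
        (show orderOf (⟨w, hw⟩ : cent y) ∣ 3 ^ 3 from orderOf_dvd_of_pow_eq_one (Subtype.ext (by simpa using h27)))
      exact IsPGroup.of_card (n := j) (by rw [Nat.card_zpowers, hj])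
    obtain ⟨S', hS'⟩ := hp.exists_le_sylow
    exact ⟨⟨w, hw⟩, Subsingleton.elim S' S ▸ hS' (mem_zpowers _), rfl⟩
  have hRpow : ∀ w ∈ R, w ∈ cent y ∧ w ^ 27 = 1 := fun w hw => by
    refine ⟨map_subtype_le _ hw, ?_⟩
    have := pow_card_eq_one' (x := (⟨w, hw⟩ : R))
    rw [hRc] at this
    simpa using congrArg Subtype.val this
  have hle : normalizer (zpowers y : Set G) ≤ normalizer (R : Set G) := by
    have hmap : ∀ g ∈ normalizer (zpowers y : Set G), ∀ w ∈ R, g * w * g⁻¹ ∈ R := by
      intro g hg w hw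
      obtain ⟨hwc, hw27⟩ := hRpow w hw
      refine hmemR _ (Order7920.mem_C.2 ?_) (by rw [conj_pow, hw27, mul_one, mul_inv_cancel])
      obtain ⟨k, -, hk⟩ := Order7920.exists_pow_of_mem_N (inv_mem hg)
      rw [inv_inv] at hk
      have hwk : Commute w (y ^ k) := Commute.pow_right (Order7920.mem_C.1 hwc) k
      rw [← hk] at hwk
      calc g * w * g⁻¹ * y = g * (w * (g⁻¹ * y * g)) * g⁻¹ := by group
        _ = g * (g⁻¹ * y * g * w) * g⁻¹ := by rw [hwk.eq]
        _ = y * (g * w * g⁻¹) := by group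
    exact fun g hg => mem_normalizer_iff.2 fun w => ⟨hmap g hg w, fun h => by
      simpa [mul_assoc] using hmap g⁻¹ (inv_mem hg) _ h⟩
  set M := normalizer (R : Set G) with hM
  have hN540 : Nat.card (normalizer (zpowers y : Set G)) = 540 := by rw [hN, hc]
  -- the number of Sylow 5-subgroups of `M`
  obtain ⟨P, hP, hPs⟩ := exists_sylow (factorization_five hG) hy
  have hle5 : (P : Subgroup G) ≤ M := hP ▸ (le_normalizer.trans hle)
  set P' := P.subtype hle5
  have hnorm : normalizer ((P' : Subgroup M) : Set M) =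
      (normalizer (zpowers y : Set G)).subgroupOf M := by
    have hyM : zpowers y ≤ M := le_normalizer.trans hle
    ext g
    simp only [mem_normalizer_iff, P', Sylow.coe_subtype, mem_subgroupOf, hP]
    constructor
    · intro h z
      constructor
      · intro hz
        simpa using (h ⟨z, hyM hz⟩).1 (by simpa using hz)
      · intro hz
        have hzC : z ∈ M := by
          have := mul_mem (mul_mem (inv_mem g.2) (hyM hz)) g.2
          simpa [mul_assoc] using this
        exact (h ⟨z, hzC⟩).2 (by simpa using hz)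
    · intro h z
      simpa using h (z : G)
  have hmod5 := card_sylow_modEq_one 5 M
  rw [P'.card_eq_index_normalizer, show normalizer (P' : Set M) = _ from hnorm] at hmod5
  have hi := card_mul_index ((normalizer (zpowers y : Set G)).subgroupOf M)
  rw [Nat.card_congr (subgroupOfEquivOfLe hle).toEquiv, hN540] at hi
  set k := ((normalizer (zpowers y : Set G)).subgroupOf M).index
  have hk : k ∣ 176 := by
    have hdvd : 540 * k ∣ 540 * 176 := by
      rw [hi, show 540 * 176 = 95040 by rfl, ← hG]; exact card_subgroup_dvd_card M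
    exact Nat.dvd_of_mul_dvd_mul_left (by norm_num) hdvd
  -- the number of Sylow 3-subgroups
  obtain ⟨Q, hQ⟩ := (IsPGroup.of_card (n := 3) hRc).exists_le_sylow
  have hQR : (Q : Subgroup G) = R := by
    refine (eq_of_le_of_card_ge hQ ?_).symm
    rw [Q.card_eq_multiplicity, hf27, hRc]
  have hidx : M.index = 176 / k := by
    have h := M.index_mul_card
    rw [hG, ← hi] at h
    have hk0 : 0 < k := Nat.pos_of_dvd_of_pos hk (by norm_num)
    exact (Nat.div_eq_of_eq_mul_left hk0 (by linarith [h])).symm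
  have hmod3 := card_sylow_modEq_one 3 G
  rw [Q.card_eq_index_normalizer, show normalizer (Q : Set G) = M by
    rw [hM, ← hQR]; rfl, hidx] at hmod3
  have key : ∀ k < 177, k ∣ 176 → k % 5 = 1 → 176 / k % 3 = 1 → k = 11 ∨ k = 176 := by decide +kernel
  rcases key k (Nat.lt_succ_of_le (Nat.le_of_dvd (by norm_num) hk)) hk hmod5 hmod3 with h | h
  · rw [h] at hi
    obtain ⟨w', hw'⟩ := exists_prime_orderOf_dvd_card' (G := M) 11 (by rw [← hi]; norm_num)
    have hw : orderOf (w' : G) = 11 := by rw [Subgroup.orderOf_coe, hw']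
    have hconj : ∀ z : G, z ∈ R ↔ (w' : G) * z * (w' : G)⁻¹ ∈ R := mem_normalizer_iff.1 w'.2
    let σ : Equiv.Perm R :=
      { toFun := fun z => ⟨(w' : G) * z * (w' : G)⁻¹, (hconj z).1 z.2⟩
        invFun := fun z => ⟨(w' : G)⁻¹ * z * (w' : G), (hconj _).2 (by group; exact z.2)⟩
        left_inv := fun z => Subtype.ext (by group)
        right_inv := fun z => Subtype.ext (by group) }
    have hσ : ∀ n : ℕ, ∀ z : R, ((σ ^ n) z : G) = (w' : G) ^ n * z * ((w' : G) ^ n)⁻¹ := by
      intro n
      induction n with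
      | zero => simp
      | succ n ih =>
        intro z
        rw [pow_succ', Equiv.Perm.mul_apply, pow_succ']
        show (w' : G) * ((σ ^ n) z : G) * (w' : G)⁻¹ = _
        rw [ih]; group
    have hσ11 : σ ^ (11 ^ 1) = 1 := Equiv.ext fun z => Subtype.ext (by
      rw [pow_one, hσ, ← hw, pow_orderOf_eq_one]; simp)
    let f : Function.End R := fun z => σ z
    have hf : ∀ (n : ℕ) (z : R), (f ^ n) z = (σ ^ n) z := by
      intro n
      induction n with
      | zero => intro z; rfl
      | succ n ih =>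
        intro z
        rw [pow_succ', pow_succ', Equiv.Perm.mul_apply, ← ih z]
        rfl
    have hf11 : f ^ (11 ^ 1) = 1 := funext fun z => by rw [hf, hσ11]; rfl
    have hfix := Equiv.Perm.card_fixedPoints_modEq hf11
    obtain ⟨z, hz, hz1⟩ : ∃ z : R, σ z = z ∧ z ≠ 1 := by
      by_contra hno
      push Not at hno
      have h1 : Fintype.card (Function.fixedPoints f) ≤ 1 :=
        Fintype.card_le_one_iff.2 fun a b => Subtype.ext ((hno a a.2).trans (hno b b.2).symm)
      have h27 : Fintype.card R = 27 := by rw [← Nat.card_eq_fintype_card, hRc]; norm_num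
      rw [h27, Nat.ModEq] at hfix
      omega
    have hzc : (z : G) ∈ cent (w' : G) := Order7920.mem_C.2 (by
      have := congrArg Subtype.val hz
      change (w' : G) * z * (w' : G)⁻¹ = z at this
      rw [mul_inv_eq_iff_eq_mul] at this
      exact this.symm)
    have h1 := Subgroup.orderOf_dvd_natCard (cent (w' : G)) hzc
    rw [(eleven hG hw).1] at h1
    have h2 : orderOf (z : G) ∣ 27 := orderOf_dvd_of_pow_eq_one (hRpow z z.2).2
    exact hz1 (Subtype.ext (orderOf_eq_one_iff.1 (Nat.eq_one_of_dvd_coprimes (by norm_num) h1 h2)))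
  · rw [h] at hi
    have htop : M = ⊤ := eq_top_of_card_eq _ (by rw [hG, ← hi])
    rcases (normalizer_eq_top_iff.1 htop).eq_bot_or_eq_top with h' | h'
    · rw [h', card_bot] at hRc; norm_num at hRc
    · rw [h', card_top, hG] at hRc; norm_num at hRc

/-- An involution centralising an element of order 5 forces the degrees. -/
theorem exists_ten {y : G} (hy : orderOf y = 5) :
    ∃ t : G, orderOf t = 2 ∧ t ∈ cent y ∧ 10 ∣ Nat.card (cent t) := by
  haveI : Fact (Nat.Prime 2) := ⟨Nat.prime_two⟩
  obtain ⟨t', ht'⟩ := exists_prime_orderOf_dvd_card' (G := cent y) 2 (two_dvd_cent_five hG hy)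
  have ht : orderOf (t' : G) = 2 := by rw [Subgroup.orderOf_coe, ht']
  refine ⟨t', ht, t'.2, ?_⟩
  have h2 := Subgroup.orderOf_dvd_natCard (cent (t' : G)) (Order7920.mem_C.2 (rfl : (t' : G) * t' = t' * t'))
  have h5 := Subgroup.orderOf_dvd_natCard (cent (t' : G))
    (Order7920.mem_C.2 (Order7920.mem_C.1 t'.2).symm : y ∈ cent (t' : G))
  rw [ht] at h2
  rw [hy] at h5
  omega

/-- The degrees in the principal 11-block. -/
theorem degrees {x : G} (hx : orderOf x = 11) (S : Shape x) : List.ofFn S.z = theDegs := by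
  haveI : Fact (Nat.Prime 5) := ⟨by norm_num⟩
  obtain ⟨y, hy⟩ := exists_prime_orderOf_dvd_card' (G := G) 5 (by rw [hG]; norm_num)
  obtain ⟨t, ht, -, h10⟩ := exists_ten hG hy
  obtain ⟨a, -, hC, hmem, htest⟩ := S.inv_row hG hx ht
  exact (scan_ten _ S.opt _ (centOrders_ten _ hC h10) _ hmem htest).1

theorem exists_shape_degs : ∃ (x : G) (S : Shape x), orderOf x = 11 ∧ List.ofFn S.z = theDegs := by
  haveI : Fact (Nat.Prime 11) := ⟨by norm_num⟩
  obtain ⟨x, hx⟩ := exists_prime_orderOf_dvd_card' (G := G) 11 (by rw [hG]; norm_num)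
  obtain ⟨S⟩ := exists_shape hG hx
  exact ⟨x, S, hx, degrees hG hx S⟩

/-- Elements of order 5. -/
theorem five {y : G} (hy : orderOf y = 5) :
    Nat.card (cent y) = 10 ∧ Nat.card (normalizer (zpowers y : Set G)) = 40 := by
  classical
  haveI : Fact (Nat.Prime 5) := ⟨by norm_num⟩
  obtain ⟨hN, hmod, hc5⟩ := five_normalizer hG hy
  obtain ⟨x, S, hx, hl⟩ := exists_shape_degs hG
  have hy1 : y ≠ 1 := fun e => by rw [e, orderOf_one] at hy; omega
  have hg : ¬ 11 ∣ orderOf y := not_dvd_eleven hy (by norm_num)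
  have hint : ∀ χ : IrrCharacter G, ∃ v : ℤ, χ.1 y = v ∧ ((Char.degree χ : ℤ) - v) % 5 = 0 := by
    intro χ
    obtain ⟨n, v, hn, hv, hmod⟩ :=
      Order7920.values_five (Char.irr_isCharacter χ) hy (five_conj hG hy)
    have : n = Char.degree χ := by
      apply Nat.cast_injective (R := ℂ)
      rw [← hn, Char.apply_one_eq_degree]
    exact ⟨v, hv, this ▸ hmod⟩
  choose v hv hvm using fun i => hint (S.chi i)
  obtain ⟨hmem, hbase⟩ := S.base_row hG hg hy1 (md := 5) (q := 5) hv
    (fun χ _ k hk => by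
      obtain ⟨v', hv', hm'⟩ := hint χ
      rw [hk] at hv'
      rw [Int.cast_inj.1 hv']; exact hm')
    (fun i _ h => by
      have h0 := zero_five hG (χ := S.chi i) (by rw [S.deg]; exact Nat.dvd_of_mod_eq_zero h)
        (g := y) (hy ▸ dvd_rfl)
      rw [hv] at h0
      exact_mod_cast h0)
  obtain ⟨hp6, hp5⟩ := S.posTest_row hG hx hg hv
  have htest : fiveTest (Nat.card (cent y)) (List.ofFn S.z) (List.ofFn v) = true := by
    simp only [fiveTest, hbase, hp6, hp5, Bool.and_self]
  rw [hl] at hmem htest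
  have hC : Nat.card (cent y) ∈ centOrders 5 := by
    obtain ⟨j, hj⟩ := hc5
    have h8 := (cent_dvd hG hg hy1).1
    have h8' := Nat.le_of_dvd (by norm_num) h8
    have hpos : 0 < Nat.card (cent y) := Nat.card_pos
    simp only [centOrders, List.mem_filter, List.mem_map, List.mem_range, decide_eq_true_eq]
    exact ⟨⟨j - 1, by omega, by omega⟩, Nat.mod_eq_zero_of_dvd h8⟩
  have h10 := centOrders_five _ hC hmod (two_dvd_cent_five hG hy) (scan_five _ hC _ hmem htest)
  exact ⟨h10, by rw [hN, h10]⟩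

/-- The involution centralising an element of order 5. -/
theorem cent_five_involution {y t : G} (hy : orderOf y = 5) (ht : orderOf t = 2) (hty : t ∈ cent y) :
    Nat.card (cent t) = 240 ∧ (∀ s ∈ cent y, orderOf s = 2 → s = t) := by
  classical
  haveI : Fact (Nat.Prime 5) := ⟨by norm_num⟩
  obtain ⟨hC, hN⟩ := five hG hy
  have hyC : y ∈ cent y := Order7920.mem_C.2 rfl
  have hidx : ((zpowers y).subgroupOf (cent y)).index = 2 := by
    have h := ((zpowers y).subgroupOf (cent y)).card_mul_index
    rw [Nat.card_congr (subgroupOfEquivOfLe (zpowers_le.2 hyC)).toEquiv, Nat.card_zpowers, hy, hC] at h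
    omega
  have hnot : ∀ s : G, orderOf s = 2 → s ∉ zpowers y := fun s hs h => by
    have := Subgroup.orderOf_dvd_natCard (zpowers y) h
    rw [Nat.card_zpowers, hy, hs] at this
    norm_num at this
  have huniq : ∀ s ∈ cent y, orderOf s = 2 → s = t := by
    intro s hs hs2
    have h1 := Subgroup.mul_mem_iff_of_index_two hidx (a := ⟨s, hs⟩) (b := ⟨t, hty⟩)
    simp only [mem_subgroupOf, Subgroup.coe_mul] at h1
    have h2 : s * t ∈ zpowers y := h1.2 (iff_of_false (hnot s hs2) (hnot t ht))
    have hc : Commute (s * t) t := by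
      obtain ⟨i, hi⟩ := h2
      rw [← hi]
      exact Commute.zpow_left (Order7920.mem_C.1 hty).symm i
    have htt : t * t = 1 := by rw [← pow_two, ← ht, pow_orderOf_eq_one]
    have hss : (s * t * t) ^ 2 = 1 := by rw [mul_assoc, htt, mul_one, ← hs2, pow_orderOf_eq_one]
    rw [hc.mul_pow, pow_two t, htt, mul_one] at hss
    have h5 : (s * t) ^ 5 = 1 := by
      have := pow_card_eq_one' (x := (⟨_, h2⟩ : zpowers y))
      rw [Nat.card_zpowers, hy] at this
      simpa using congrArg Subtype.val this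
    have h3 : s * t = 1 := by
      calc s * t = (s * t) ^ 5 * (((s * t) ^ 2) ^ 2)⁻¹ := by group
        _ = 1 := by rw [h5, hss]; simp
    rw [← mul_one s, ← htt, ← mul_assoc, h3, one_mul]
  refine ⟨?_, huniq⟩
  have hle : normalizer (zpowers y : Set G) ≤ cent t := by
    intro g hg
    have hgt : g * t * g⁻¹ ∈ cent y := by
      obtain ⟨k, -, hk⟩ := Order7920.exists_pow_of_mem_N (inv_mem hg)
      rw [inv_inv] at hk
      have hwk : Commute t (y ^ k) := Commute.pow_right (Order7920.mem_C.1 hty) k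
      rw [← hk] at hwk
      exact Order7920.mem_C.2 (by
        calc g * t * g⁻¹ * y = g * (t * (g⁻¹ * y * g)) * g⁻¹ := by group
          _ = g * (g⁻¹ * y * g * t) * g⁻¹ := by rw [hwk.eq]
          _ = y * (g * t * g⁻¹) := by group)
    have h := huniq _ hgt (by
      rw [show g * t * g⁻¹ = MulAut.conj g t from rfl, MulEquiv.orderOf_eq, ht])
    rw [mul_inv_eq_iff_eq_mul] at h
    exact Order7920.mem_C.2 h
  obtain ⟨P, hP, hPs⟩ := exists_sylow (factorization_five hG) hy
  have hyM : zpowers y ≤ cent t := le_normalizer.trans hle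
  have hle5 : (P : Subgroup G) ≤ cent t := hP ▸ hyM
  set P' := P.subtype hle5
  have hnorm : normalizer ((P' : Subgroup (cent t)) : Set (cent t)) =
      (normalizer (zpowers y : Set G)).subgroupOf (cent t) := by
    ext g
    simp only [mem_normalizer_iff, P', Sylow.coe_subtype, mem_subgroupOf, hP]
    constructor
    · intro h z
      constructor
      · intro hz
        simpa using (h ⟨z, hyM hz⟩).1 (by simpa using hz)
      · intro hz
        have hzC : z ∈ cent t := by
          have := mul_mem (mul_mem (inv_mem g.2) (hyM hz)) g.2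
          simpa [mul_assoc] using this
        exact (h ⟨z, hzC⟩).2 (by simpa using hz)
    · intro h z
      simpa using h (z : G)
  have hmod := card_sylow_modEq_one 5 (cent t)
  rw [P'.card_eq_index_normalizer, show normalizer (P' : Set (cent t)) = _ from hnorm] at hmod
  have hi := card_mul_index ((normalizer (zpowers y : Set G)).subgroupOf (cent t))
  rw [Nat.card_congr (subgroupOfEquivOfLe hle).toEquiv, hN] at hi
  obtain ⟨x, S, hx, hl⟩ := exists_shape_degs hG
  obtain ⟨a, -, hCm, hmem, htest⟩ := S.inv_row hG hx ht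
  rw [hl] at hmem htest
  rw [Nat.ModEq] at hmod
  rcases scan_inv _ hCm _ hmem htest with ⟨h, -⟩ | ⟨h | h, -⟩ <;> omega

/-- The two kinds of involutions. -/
theorem involution {t : G} (ht : orderOf t = 2) :
    Nat.card (cent t) = 192 ∨ Nat.card (cent t) = 240 := by
  haveI : Fact (Nat.Prime 5) := ⟨by norm_num⟩
  obtain ⟨x, S, hx, hl⟩ := exists_shape_degs hG
  obtain ⟨a, -, hCm, hmem, htest⟩ := S.inv_row hG hx ht
  rw [hl] at hmem htest
  rcases scan_inv _ hCm _ hmem htest with ⟨h, -⟩ | ⟨h, -⟩
  · exact Or.inl h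
  · obtain ⟨y', hy'⟩ := exists_prime_orderOf_dvd_card' (G := cent t) 5 (by omega)
    exact Or.inr (cent_five_involution hG (y := (y' : G)) (by rw [Subgroup.orderOf_coe, hy']) ht
      (Order7920.mem_C.2 (Order7920.mem_C.1 y'.2).symm)).1

/-- Existence of an involution of the larger kind. -/
theorem exists_big : ∃ u : G, orderOf u = 2 ∧ Nat.card (cent u) = 240 := by
  haveI : Fact (Nat.Prime 5) := ⟨by norm_num⟩
  obtain ⟨y, hy⟩ := exists_prime_orderOf_dvd_card' (G := G) 5 (by rw [hG]; norm_num)
  obtain ⟨t, ht, hty, -⟩ := exists_ten hG hy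
  exact ⟨t, ht, (cent_five_involution hG hy ht hty).1⟩

/-- The involutions of the larger kind are conjugate. -/
theorem big_conj {i j : G} (hi : orderOf i = 2) (hj : orderOf j = 2) (hCi : Nat.card (cent i) = 240)
    (hCj : Nat.card (cent j) = 240) : IsConj i j := by
  classical
  haveI : Fact (Nat.Prime 5) := ⟨by norm_num⟩
  obtain ⟨y', hy'⟩ := exists_prime_orderOf_dvd_card' (G := cent i) 5 (by rw [hCi]; norm_num)
  obtain ⟨z', hz'⟩ := exists_prime_orderOf_dvd_card' (G := cent j) 5 (by rw [hCj]; norm_num)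
  have hy : orderOf (y' : G) = 5 := by rw [Subgroup.orderOf_coe, hy']
  have hz : orderOf (z' : G) = 5 := by rw [Subgroup.orderOf_coe, hz']
  obtain ⟨P, hP, -⟩ := exists_sylow (factorization_five hG) hy
  obtain ⟨Q, hQ, -⟩ := exists_sylow (factorization_five hG) hz
  obtain ⟨g, hg⟩ := MulAction.exists_smul_eq G P Q
  have hyQ : g * (y' : G) * g⁻¹ ∈ zpowers (z' : G) := by
    rw [← hQ, ← hg]
    show g * (y' : G) * g⁻¹ ∈ (MulAut.conj g • (P : Subgroup G))
    exact ⟨(y' : G), hP ▸ mem_zpowers _, rfl⟩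
  have hgo : orderOf (g * (y' : G) * g⁻¹) = 5 := by
    rw [show g * (y' : G) * g⁻¹ = MulAut.conj g (y' : G) from rfl, MulEquiv.orderOf_eq, hy]
  have hzz : zpowers (g * (y' : G) * g⁻¹) = zpowers (z' : G) :=
    eq_of_le_of_card_ge (zpowers_le.2 hyQ) (by rw [Nat.card_zpowers, Nat.card_zpowers, hgo, hz])
  have hic : g * i * g⁻¹ ∈ cent (z' : G) := by
    obtain ⟨k, hk⟩ := mem_zpowers_iff.1 (hzz ▸ mem_zpowers (z' : G))
    refine Order7920.mem_C.2 ?_
    rw [← hk]
    refine (Commute.zpow_right ?_ k).eq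
    show g * i * g⁻¹ * (g * y' * g⁻¹) = g * y' * g⁻¹ * (g * i * g⁻¹)
    calc g * i * g⁻¹ * (g * y' * g⁻¹) = g * (i * y') * g⁻¹ := by group
      _ = g * (y' * i) * g⁻¹ := by rw [(Order7920.mem_C.1 y'.2).symm]
      _ = _ := by group
  have hio : orderOf (g * i * g⁻¹) = 2 := by
    rw [show g * i * g⁻¹ = MulAut.conj g i from rfl, MulEquiv.orderOf_eq, hi]
  exact isConj_iff.2 ⟨g, (cent_five_involution hG hz hj
    (Order7920.mem_C.2 (Order7920.mem_C.1 z'.2).symm)).2 _ hic hio⟩

end Cfsg.Agent.Order95040
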