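import Cfsg.Agent.Lib.Order95040.Facts
import Mathlib.GroupTheory.Sylow

/-!
# Generation: the seven involutions generate a group of order 95040

`M = ⟨a, b, c, d, u, b^h, b^{h⁻¹}⟩` contains the centralisers of `u` and `a`, so has index at most 39;
Sylow counts for the primes 5 and 11 leave only `M = ⊤`.
-/

set_option autoImplicit false
set_option linter.style.haveILetI false

namespace Cfsg.Agent.Order95040

open Subgroup

variable {G : Type*} [Group G] {a b c d u h : G}

/-- The subgroup generated by the seven involutions. -/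
abbrev gen7 (a b c d u h : G) : Subgroup G :=
  closure ({a, b, c, d, u, h⁻¹ * b * h, h * b * h⁻¹} : Set G)

theorem cent_u_le (loc : Local a b c d u) (h : G) : cent u ≤ gen7 a b c d u h := by
  rw [loc.cent_eq]
  refine closure_mono ?_
  intro x hx
  simp only [Set.mem_insert_iff, Set.mem_singleton_iff] at hx ⊢
  tauto

theorem cent_a_eq (r : Rel a b c d u h) :
    cent a = (cent u).map (MulAut.conj h⁻¹).toMonoidHom := by
  ext x
  rw [Subgroup.mem_map_equiv, mem_centralizer_singleton_iff, mem_centralizer_singleton_iff,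
    MulAut.conj_symm_apply, inv_inv, ← r.hu]
  constructor
  · intro e
    calc h * x * h⁻¹ * u = h * (x * (h⁻¹ * u * h)) * h⁻¹ := by group
      _ = h * (h⁻¹ * u * h * x) * h⁻¹ := by rw [e]
      _ = u * (h * x * h⁻¹) := by group
  · intro e
    calc x * (h⁻¹ * u * h) = h⁻¹ * (h * x * h⁻¹ * u) * h := by group
      _ = h⁻¹ * (u * (h * x * h⁻¹)) * h := by rw [e]
      _ = h⁻¹ * u * h * x := by group

theorem cent_a_le (loc : Local a b c d u) (r : Rel a b c d u h) : cent a ≤ gen7 a b c d u h := by
  obtain ⟨e1, e2, -⟩ := conj_images r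
  have ha : ∀ {x : G}, x ∈ ({a, b, c, d, u, h⁻¹ * b * h, h * b * h⁻¹} : Set G) →
      x ∈ gen7 a b c d u h := fun hx => subset_closure hx
  rw [cent_a_eq r, loc.cent_eq, MonoidHom.map_closure, closure_le]
  rintro _ ⟨x, hx, rfl⟩
  simp only [Set.mem_insert_iff, Set.mem_singleton_iff] at hx
  simp only [MulEquiv.coe_toMonoidHom, MulAut.conj_apply, inv_inv, SetLike.mem_coe]
  rcases hx with rfl | rfl | rfl | rfl | rfl
  · rw [r.ha]; exact mul_mem (ha (by simp)) (ha (by simp))
  · exact ha (by simp)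
  · rw [e1]; exact mul_mem (ha (by simp)) (ha (by simp))
  · rw [e2]; exact mul_mem (ha (by simp)) (ha (by simp))
  · rw [r.hu]; exact ha (by simp)

theorem card_cent_inter [Finite G] (loc : Local a b c d u) :
    Nat.card ((cent a).subgroupOf (cent u)) ≤ 24 := by
  obtain ⟨φ, hφ, hker, hφa, -⟩ := loc.iso
  have haC : a ∈ cent u := loc.cent_eq ▸ subset_closure (by simp)
  set s : Equiv.Perm (Fin 5) := Equiv.swap 0 1
  set K := (centralizer ({s} : Set (Equiv.Perm (Fin 5)))).comap φ
  have hle : (cent a).subgroupOf (cent u) ≤ K := by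
    intro z hz
    rw [mem_subgroupOf, mem_centralizer_singleton_iff] at hz
    have e : z * ⟨a, haC⟩ = ⟨a, haC⟩ * z := Subtype.ext hz
    have e' := congrArg φ e
    rw [map_mul, map_mul, hφa ⟨a, haC⟩ rfl] at e'
    exact mem_comap.2 (mem_centralizer_singleton_iff.2 e')
  have h10 : (centralizer ({s} : Set (Equiv.Perm (Fin 5)))).index = 10 := by
    have h12 : Nat.card (centralizer ({s} : Set (Equiv.Perm (Fin 5)))) = 12 := by
      rw [Nat.card_congr (Equiv.subtypeEquivRight (q := fun g : Equiv.Perm (Fin 5) => g * s = s * g)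
        fun g => mem_centralizer_singleton_iff), Nat.card_eq_fintype_card]
      decide +kernel
    have := (centralizer ({s} : Set (Equiv.Perm (Fin 5)))).card_mul_index
    rw [h12, Nat.card_eq_fintype_card, Fintype.card_perm, Fintype.card_fin,
      show Nat.factorial 5 = 120 from rfl] at this
    omega
  have hK : Nat.card K * 10 = 240 := by
    rw [← h10, ← index_comap_of_surjective _ hφ, card_mul_index, loc.cu]
  have := card_le_of_le hle
  omega

theorem card_gen7_ge [Finite G] (loc : Local a b c d u) (r : Rel a b c d u h) :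
    2400 ≤ Nat.card (gen7 a b c d u h) := by
  have hca : Nat.card (cent a) = 240 := by
    rw [cent_a_eq r, card_map_of_injective (MulAut.conj h⁻¹).injective, loc.cu]
  have h1 := ((cent a).subgroupOf (cent u)).card_mul_index
  rw [loc.cu] at h1
  have h2 := card_cent_inter loc
  have h3 : (cent a).relIndex (cent u) ≤ (cent a).relIndex (gen7 a b c d u h) :=
    relIndex_le_of_le_right (cent_u_le loc h) index_ne_zero_of_finite
  have h4 := ((cent a).subgroupOf (gen7 a b c d u h)).card_mul_index
  rw [Nat.card_congr (subgroupOfEquivOfLe (cent_a_le loc r)).toEquiv, hca] at h4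
  change _ * (cent a).relIndex (gen7 a b c d u h) = _ at h4
  change _ * (cent a).relIndex (cent u) = _ at h1
  nlinarith [Nat.mul_le_mul h2 h3]

/-- An element of order 5 whose normaliser lies in `cent u`. -/
theorem exists_five [Finite G] (F : Facts G) (loc : Local a b c d u) :
    ∃ y : G, orderOf y = 5 ∧ normalizer (zpowers y : Set G) ≤ cent u := by
  haveI : Fact (Nat.Prime 5) := ⟨by norm_num⟩
  obtain ⟨y', hy'⟩ := exists_prime_orderOf_dvd_card' (G := cent u) 5 (by rw [loc.cu]; norm_num)
  set y : G := (y' : G) with hy_def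
  have hy : orderOf y = 5 := by rw [hy_def, Subgroup.orderOf_coe, hy']
  have hyu : Commute y u := mem_centralizer_singleton_iff.1 y'.2
  refine ⟨y, hy, fun n hn => ?_⟩
  have hcard := (F.five y hy).1
  have hyu10 : orderOf (y * u) = 10 := by
    rw [hyu.orderOf_mul_eq_mul_orderOf_of_coprime (by rw [hy, loc.ou]; norm_num), hy, loc.ou]
  have hgen : zpowers (y * u) = cent y := by
    refine eq_of_le_of_card_ge (zpowers_le.2 ?_) (by rw [hcard, Nat.card_zpowers, hyu10])
    exact mem_centralizer_singleton_iff.2 ((Commute.refl y).mul_left hyu.symm).eq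
  -- the conjugate of `u` lies in `cent y` and is an involution
  have hny : n * y * n⁻¹ ∈ zpowers y :=
    (mem_normalizer_iff.1 hn y).1 (mem_zpowers y)
  have hnn : n⁻¹ * y * n ∈ zpowers y := by
    simpa using (mem_normalizer_iff.1 (inv_mem hn) y).1 (mem_zpowers y)
  have hc : n * u * n⁻¹ ∈ zpowers (y * u) := by
    rw [hgen, mem_centralizer_singleton_iff]
    obtain ⟨j, hj⟩ := mem_zpowers_iff.1 hnn
    have : Commute u (n⁻¹ * y * n) := hj ▸ hyu.symm.zpow_right j
    calc n * u * n⁻¹ * y = n * (u * (n⁻¹ * y * n)) * n⁻¹ := by group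
      _ = n * (n⁻¹ * y * n * u) * n⁻¹ := by rw [this.eq]
      _ = y * (n * u * n⁻¹) := by group
  obtain ⟨j, hj⟩ := mem_zpowers_iff.1 hc
  have ho : orderOf (n * u * n⁻¹) = 2 := (MulEquiv.orderOf_eq (MulAut.conj n) u).trans loc.ou
  have h2j : (10 : ℤ) ∣ j * 2 := by
    have : (y * u) ^ (j * 2) = 1 := by
      rw [zpow_mul, hj]
      exact_mod_cast (ho ▸ pow_orderOf_eq_one (n * u * n⁻¹) : (n * u * n⁻¹) ^ 2 = 1)
    have := orderOf_dvd_iff_zpow_eq_one.2 this
    rwa [hyu10] at this
  obtain ⟨l, rfl⟩ : (5 : ℤ) ∣ j := by omega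
  have h5 : (y * u) ^ (5 : ℤ) = u := by
    have hy5 : y ^ 5 = 1 := hy ▸ pow_orderOf_eq_one y
    have hu2 : u ^ 2 = 1 := loc.ou ▸ pow_orderOf_eq_one u
    rw [show (5 : ℤ) = ((5 : ℕ) : ℤ) from rfl, zpow_natCast, hyu.mul_pow, hy5, one_mul,
      show u ^ 5 = u * (u ^ 2) ^ 2 by rw [← pow_mul, ← pow_succ'], hu2, one_pow, mul_one]
  rw [zpow_mul, h5] at hj
  rcases Int.even_or_odd' l with ⟨m, rfl | rfl⟩
  · rw [zpow_mul, show (2 : ℤ) = ((2 : ℕ) : ℤ) from rfl, zpow_natCast,
      (loc.ou ▸ pow_orderOf_eq_one u : u ^ 2 = 1), one_zpow] at hj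
    rw [← hj, orderOf_one] at ho
    omega
  · rw [zpow_add, zpow_mul, show (2 : ℤ) = ((2 : ℕ) : ℤ) from rfl, zpow_natCast,
      (loc.ou ▸ pow_orderOf_eq_one u : u ^ 2 = 1), one_zpow, one_mul, zpow_one] at hj
    rw [mem_centralizer_singleton_iff]
    exact (mul_inv_eq_iff_eq_mul.1 hj.symm)

/-- For a Sylow subgroup of prime order `p` generated by `y` in `M`: `|M|` is the number of Sylow
subgroups times the order of the normaliser. -/
theorem card_eq_sylow [Finite G] {M : Subgroup G} {p : ℕ} [Fact p.Prime] {y : G} (hyM : y ∈ M)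
    (hy : orderOf y = p) (hp2 : ¬ p * p ∣ Nat.card M) :
    ∃ n, Nat.card M = n * Nat.card ((normalizer (zpowers y : Set G)).subgroupOf M) ∧
      n ≡ 1 [MOD p] := by
  have hp := Fact.out (p := p.Prime)
  have hcard : Nat.card ((zpowers y).subgroupOf M) = p := by
    rw [Nat.card_congr (subgroupOfEquivOfLe (zpowers_le.2 hyM)).toEquiv, Nat.card_zpowers, hy]
  have hf : (Nat.card M).factorization p = 1 := by
    have h0 : Nat.card M ≠ 0 := Nat.card_pos.ne'
    have h1 : 1 ≤ (Nat.card M).factorization p :=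
      (hp.dvd_iff_one_le_factorization h0).1 (hcard ▸ card_subgroup_dvd_card _)
    by_contra hne
    refine hp2 ?_
    have := (Nat.Prime.pow_dvd_iff_le_factorization hp h0).2
      (show 2 ≤ (Nat.card M).factorization p by omega)
    rwa [pow_two] at this
  let P : Sylow p M := Sylow.ofCard ((zpowers y).subgroupOf M) (by rw [hcard, hf, pow_one])
  refine ⟨Nat.card (Sylow p M), ?_, card_sylow_modEq_one p M⟩
  rw [P.card_eq_index_normalizer]
  have e : (normalizer (zpowers y : Set G)).subgroupOf M = normalizer ((P : Subgroup M) : Set M) := by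
    rw [Sylow.coe_ofCard]
    exact subgroupOf_normalizer_eq (zpowers_le.2 hyM)
  rw [e]
  exact (index_mul_card _).symm

/-- **Generation.** -/
theorem gen7_eq_top [Finite G] (F : Facts G) (loc : Local a b c d u) (r : Rel a b c d u h) :
    closure ({a, b, c, d, u, h⁻¹ * b * h, h * b * h⁻¹} : Set G) = ⊤ := by
  by_contra hne
  have hidx := F.index _ hne
  have hge := card_gen7_ge loc r
  obtain ⟨y, hy, hyN⟩ := exists_five F loc
  have hNM := hyN.trans (cent_u_le loc h)
  have h240 : 240 ∣ Nat.card (gen7 a b c d u h) := loc.cu ▸ card_dvd_of_le (cent_u_le loc h)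
  have hmul := (gen7 a b c d u h).card_mul_index
  rw [F.card] at hmul
  set M := gen7 a b c d u h with hM
  have hdvd : Nat.card M ∣ 95040 := ⟨_, hmul.symm⟩
  have h25 : ¬ 5 * 5 ∣ Nat.card M := fun hd => absurd (hd.trans hdvd) (by norm_num)
  haveI : Fact (Nat.Prime 5) := ⟨by norm_num⟩
  obtain ⟨n, hn, hn5⟩ := card_eq_sylow (hNM (le_normalizer (mem_zpowers y))) hy h25
  rw [Nat.card_congr (subgroupOfEquivOfLe hNM).toEquiv, (F.five y hy).2] at hn
  obtain ⟨q, hq⟩ := h240
  have hq1 : 10 ≤ q := by omega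
  have hk396 : q * M.index = 396 := by nlinarith
  have hk39 : M.index ≤ 39 := by nlinarith
  have hk12 : 12 ≤ M.index := hidx
  have h36 : M.index = 36 := by
    have hnq : n = 6 * q := by omega
    have hmod : n % 5 = 1 := hn5
    interval_cases hi : M.index <;> omega
  have hMcard : Nat.card M = 2640 := by rw [h36] at hk396; omega
  haveI : Fact (Nat.Prime 11) := ⟨by norm_num⟩
  obtain ⟨x', hx'⟩ := exists_prime_orderOf_dvd_card' (G := M) 11 (by rw [hMcard]; norm_num)
  have hx : orderOf (x' : G) = 11 := by rw [Subgroup.orderOf_coe, hx']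
  obtain ⟨m, hm, hm11⟩ := card_eq_sylow x'.2 hx (by rw [hMcard]; norm_num)
  have hle : Nat.card ((normalizer (zpowers (x' : G) : Set G)).subgroupOf M) ≤ 55 := by
    rw [← (F.eleven _ hx).2, ← card_map_of_injective M.subtype_injective, subgroupOf_map_subtype]
    exact card_le_of_le inf_le_left
  rw [hMcard] at hm
  have hmod : m % 11 = 1 := hm11
  have hdiv : Nat.card ((zpowers (x' : G)).subgroupOf M) ∣
      Nat.card ((normalizer (zpowers (x' : G) : Set G)).subgroupOf M) :=
    card_dvd_of_le fun z hz => le_normalizer (mem_subgroupOf.1 hz)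
  rw [Nat.card_congr (subgroupOfEquivOfLe (zpowers_le.2 x'.2)).toEquiv, Nat.card_zpowers, hx] at hdiv
  generalize Nat.card ((normalizer (zpowers (x' : G) : Set G)).subgroupOf M) = N at hm hle hdiv
  obtain ⟨e, rfl⟩ := hdiv
  have : e ≤ 5 := by omega
  interval_cases e <;> omega

end Cfsg.Agent.Order95040
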