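import Cfsg.Agent.Lib.Order95040.ClassCount
import Cfsg.Agent.Lib.BrauerPSL.Main
import Cfsg.Agent.Lib.Order7920.Values

/-!
# Simple groups whose order divides 95040 and is divisible by 11

Their orders are 660, 7920 and 95040. The number of Sylow 11-subgroups and the order `11 c` of
the centraliser of one leave a few orders, which the principal 11-block rules out.
-/

set_option autoImplicit false
set_option linter.style.haveILetI false
set_option linter.unusedSectionVars false

namespace Cfsg.Agent.Order95040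

open Cfsg Cfsg.Agent Cfsg.Agent.DefectOne

universe u

/-! ### Numerical facts -/

/-- The possible Sylow counts. -/
theorem count_cases : ∀ n < 8641, n ∣ 8640 → n % 11 = 1 →
    n = 1 ∨ n = 12 ∨ n = 45 ∨ n = 144 ∨ n = 320 ∨ n = 540 ∨ n = 1728 := by
  intro n hn hd h
  have : n ∈ (Nat.divisors 8640).filter fun m => m % 11 = 1 :=
    Finset.mem_filter.2 ⟨Nat.mem_divisors.2 ⟨hd, by norm_num⟩, h⟩
  have hl : (Nat.divisors 8640).filter (fun m => m % 11 = 1) = {1, 12, 45, 144, 320, 540, 1728} := by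
    decide +kernel
  rw [hl] at this
  simpa using this

/-- The degree in the block of a Sylow normaliser of index two over the centraliser. -/
theorem two_cases : ∀ x < 309, x ∣ 95040 → x ≠ 1 → (x % 11 = 1 ∧ x + 1 ∣ 95040) ∨
    (x % 11 = 10 ∧ x - 1 ∣ 95040) → x = 10 := by decide +kernel

/-- Admissible degrees for index five. -/
def okFive (c x : ℕ) : Bool :=
  decide (x ∣ 7920 * c) && decide (x * x ≤ 7920 * c) && decide (22 < x) &&
    !(decide (2 ∣ c) && decide ((if c = 4 then 64 else 32) ∣ x)) && !(decide (3 ∣ c) && decide (27 ∣ x))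

/-- Signed admissible degrees. -/
def degFive (c : ℕ) : List ℤ :=
  List.map (fun x : ℕ => if x % 11 = 1 then (x : ℤ) else -(x : ℤ))
    (List.filter (fun x : ℕ => okFive c x && (decide (x % 11 = 1) || decide (x % 11 = 10)))
      (List.range 309))

theorem five_cases : ∀ c ∈ [2, 3, 4, 6], ∀ a ∈ degFive c, ∀ b ∈ degFive c, ∀ d ∈ degFive c,
    ∀ e ∈ degFive c, okFive c (1 + a + b + d + e).natAbs = true →
      (1 + a + b + d + e).natAbs % 11 ≠ 5 ∧ (1 + a + b + d + e).natAbs % 11 ≠ 6 := by decide +kernel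

set_option synthInstance.maxSize 4096 in
theorem ten_degrees : ∀ c ∈ [1, 2, 3], ∀ x < 309, x ∣ 15840 * c → x * x ≤ 15840 * c →
    (x % 11 = 1 ∨ x % 11 = 10) → x ≠ 1 → x ≠ 10 → (c = 1 ∨ 22 < x) → (c ≠ 3 ∨ ¬ 27 ∣ x) →
    x = 12 ∨ x = 32 ∨ x = 45 ∨ x = 120 ∨ x = 144 := by decide +kernel

set_option synthInstance.maxSize 4096 in
theorem ten_counts : ∀ c ∈ [1, 2, 3], ∀ a < 11, ∀ b < 11 - a, ∀ d < 11 - a - b,
    ∀ f < 11 - a - b - d, (c = 1 ∨ a = 0) →
    1 + 12 * a + 45 * d + 144 * (10 - a - b - d - f) = 32 * b + 120 * f →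
    1 + 144 * a + 1024 * b + 2025 * d + 14400 * f + 20736 * (10 - a - b - d - f) ≤ 15840 * c →
    c ≠ 2 ∧ d = 3 ∧ f ≤ 1 ∧ 10 - a - b - d - f ≤ 1 := by decide +kernel

theorem ten_square : ∀ a₁ ∈ [(-3 : ℤ), 1, 5], ∀ a₂ ∈ [(-3 : ℤ), 1, 5], ∀ a₃ ∈ [(-3 : ℤ), 1, 5],
    ∀ b ∈ [(-8 : ℤ), -4, 0, 4, 8], ∀ e ∈ [(-12 : ℤ), -8, -4, 0, 4, 8, 12],
    1 + a₁ + a₂ + a₃ - b + e = 0 →
    1440 + 32 * (a₁ * a₁ + a₂ * a₂ + a₃ * a₃) + 10 * (e * e) - 12 * (b * b) < 6400 ∧
    ∀ n ∈ List.range 80,
      (n : ℤ) * n ≠ 1440 + 32 * (a₁ * a₁ + a₂ * a₂ + a₃ * a₃) + 10 * (e * e) - 12 * (b * b) := by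
  decide +kernel

theorem factorization_eq {x n r k : ℕ} (hr : r.Prime) (hx : x ∣ n) (hn : n ≠ 0) (hk : r ^ k ∣ x)
    (hk1 : ¬ r ^ (k + 1) ∣ n) : x.factorization r = n.factorization r := by
  have hx0 : x ≠ 0 := fun h => hn (Nat.eq_zero_of_zero_dvd (h ▸ hx))
  have h1 := (Nat.factorization_le_iff_dvd hx0 hn).2 hx r
  have h2 := (hr.pow_dvd_iff_le_factorization hx0).1 hk
  have h3 : ¬ k + 1 ≤ n.factorization r := fun h => hk1 ((hr.pow_dvd_iff_le_factorization hn).2 h)
  omega

/-! ### The principal block -/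

open scoped ComplexConjugate Classical

section Block

variable {G : Type u} [Group G] [Fintype G] {p : ℕ} [hp : Fact p.Prime] {P : Sylow p G}
  {M : Ideal AlgInt} [M.IsMaximal]

/-- The principal block when `N(P)` is transitive on `P - 1`. -/
theorem block_transitive (hpM : (p : AlgInt) ∈ M) (hP : Nat.card P = p)
    (hm : (Subgroup.centralizer ((P : Subgroup G) : Set G)).relIndex
      (Subgroup.normalizer ((P : Subgroup G) : Set G)) = p - 1) :
    ∃ (B : Finset (IrrCharacter G)) (e : IrrCharacter G → ℤ),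
      Char.trivialChar G ∉ B ∧
      insert (Char.trivialChar G) B = Finset.univ.filter (· ∈ principalBlock M G) ∧
      B.card = p - 1 ∧ (∀ χ ∈ B, e χ = 1 ∨ e χ = -1) ∧
      (∀ χ ∈ B, ∀ y : (P : Subgroup G), y ≠ 1 → χ.1 y = e χ) ∧
      (∀ χ ∈ B, (Char.degree χ : ℤ) ≡ e χ [ZMOD p]) ∧
      ∀ g, IsPRegular p g → 1 + ∑ χ ∈ B, (e χ : ℂ) * χ.1 g = 0 := by
  have hd := freeData_of_card_eq hP
  set L := Finset.univ.erase (Char.trivialChar (P : Subgroup G)) with hL
  have hcardL : L.card = p - 1 := by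
    rw [hL, Finset.card_erase_of_mem (Finset.mem_univ _), Finset.card_univ, hd.card_irr, hP]
  obtain ⟨l₀, hl₀⟩ : L.Nonempty := Finset.card_pos.1 (by have := hp.out.one_lt; omega)
  have hl₀' : l₀ ≠ Char.trivialChar _ := Finset.ne_of_mem_erase hl₀
  set O := Finset.univ.filter fun l => NConj P l l₀ with hO
  have hOL : O ⊆ L := fun l hl => by
    refine Finset.mem_erase.2 ⟨fun he => hl₀' ?_, Finset.mem_univ _⟩
    obtain ⟨n, hn⟩ := nConj_iff.1 (Finset.mem_filter.1 hl).2
    exact nChar_eq_trivial_iff.1 (hn.trans he)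
  have hOeq : O = L := Finset.eq_of_subset_of_card_le hOL (by rw [hd.card_orbit hm hl₀', hcardL])
  set c : IrrCharacter G → ℤ := fun χ => cI P χ l₀ with hc
  have hall : ∀ χ l, l ∈ L → cI P χ l = c χ := fun χ l hl =>
    cI_eq_of_nConj χ (Finset.mem_filter.1 (hOeq ▸ hl : l ∈ O)).2
  have hval : ∀ χ : IrrCharacter G, ∀ y : (P : Subgroup G), y ≠ 1 → χ.1 y = c χ := fun χ y hy => by
    rw [hd.apply_eq_neg_sum χ hy,
      ← Finset.add_sum_erase _ _ (Finset.mem_univ (Char.trivialChar (P : Subgroup G))), cI_trivial,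
      Int.cast_zero, zero_mul, zero_add, Finset.sum_congr rfl fun l hl => by rw [hall χ l hl],
      ← Finset.mul_sum]
    have := hd.sum_nontrivial hy
    rw [Finset.filter_ne'] at this
    rw [this]
    ring
  set B := Finset.univ.filter (· ∈ principalBlock M G) with hB
  have hmemB : ∀ χ, χ ∈ B ↔ χ ∈ principalBlock M G := fun χ => by simp [hB]
  have hunit : ∀ χ ∈ B, c χ = 1 ∨ c χ = -1 := fun χ hχ => by
    refine abs_value_eq_one hpM hP ((hmemB χ).1 hχ) (fun h0 => ?_) (hval χ)
    obtain ⟨l, hl⟩ := hd.exists_cI_ne_zero hpM (hP.trans_ne hp.out.ne_one) ((hmemB χ).1 hχ)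
    by_cases hl1 : l = Char.trivialChar _
    · exact hl (hl1 ▸ cI_trivial χ)
    · exact hl ((hall χ l (Finset.mem_erase.2 ⟨hl1, Finset.mem_univ _⟩)).trans h0)
  have hcardB : B.card = p - 1 + 1 := by
    have := hd.gram hpM hm hl₀' hl₀'
    rw [if_pos (nConj_equivalence.refl _), ← hB, Finset.sum_congr rfl fun χ hχ =>
      show cI P χ l₀ * cI P χ l₀ = 1 by
        rcases hunit χ hχ with h | h <;> simp only [hc] at h <;> rw [h] <;> norm_num] at this
    simp at this
    omega
  have htrivB : Char.trivialChar G ∈ B := (hmemB _).2 Blocks.trivial_mem_principalBlock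
  refine ⟨B.erase (Char.trivialChar G), c, Finset.notMem_erase _ _, Finset.insert_erase htrivB, ?_,
    fun χ hχ => hunit χ (Finset.mem_of_mem_erase hχ), fun χ _ => hval χ, fun χ _ => ?_, ?_⟩
  · rw [Finset.card_erase_of_mem htrivB, hcardB]; omega
  · rw [← Char.charDegree_eq_degree]
    exact degree_modEq_value hP (hval χ)
  · intro g hg
    have hctriv : c (Char.trivialChar G) = 1 := by
      haveI : Nontrivial (P : Subgroup G) := Finite.one_lt_card_iff_nontrivial.1
        (hp.out.one_lt.trans_le hP.ge)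
      obtain ⟨y, hy⟩ := exists_ne (1 : (P : Subgroup G))
      have := hval (Char.trivialChar G) y hy
      exact_mod_cast this.symm.trans (show (Char.trivialChar G).1 y = 1 from rfl)
    have := hd.sum_cI_mul hpM l₀ hg
    rw [← hB, ← Finset.add_sum_erase _ _ htrivB] at this
    simp only [hc] at hctriv ⊢
    rw [hctriv, show (Char.trivialChar G).1 g = 1 from rfl, Int.cast_one, one_mul] at this
    exact this

end Block

/-! ### The orders -/

section Simple

variable {G : Type u} [Group G] [Fintype G] [IsSimpleGroup G]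

theorem isPRegular_one {p : ℕ} [hp : Fact p.Prime] : IsPRegular p (1 : G) := by
  simp [IsPRegular, hp.out.ne_one]

theorem isPRegular_involution {t : G} (ht : orderOf t = 2) : IsPRegular 11 t := by
  simp [IsPRegular, ht]

theorem degree_eq_one {χ : IrrCharacter G} (hna : ¬ IsMulCommutative G)
    (h : Char.degree χ = 1) : χ = Char.trivialChar G :=
  Blocks.eq_trivial_of_degree_one (SmallCofactor.exists_noncomm hna) χ
    (by rw [Char.apply_one_eq_degree, h, Nat.cast_one])

theorem degree_sq_le (χ : IrrCharacter G) : Char.degree χ * Char.degree χ ≤ Nat.card G := by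
  rw [← Char.sum_degree_sq (G := G), ← sq]
  exact Finset.single_le_sum (f := fun χ : IrrCharacter G => Char.degree χ ^ 2)
    (fun _ _ => Nat.zero_le _) (Finset.mem_univ χ)

theorem degree_lt (hd : Nat.card G ∣ 95040) (χ : IrrCharacter G) : Char.degree χ < 309 := by
  have h1 := (degree_sq_le χ).trans (Nat.le_of_dvd (by norm_num) hd)
  nlinarith

theorem degree_trivial : Char.degree (Char.trivialChar G) = 1 := by
  have := Char.apply_one_eq_degree (Char.trivialChar G)
  rw [Char.trivialChar_apply] at this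
  exact_mod_cast this.symm

variable [Fact (Nat.Prime 11)] {P : Sylow 11 G} {M : Ideal AlgInt} [M.IsMaximal]

/-- The value at an involution inverting `P` of a character with value `e` on `P - 1`. -/
theorem value_inverting (hna : ¬ IsMulCommutative G) (hP : Nat.card P = 11) {χ : IrrCharacter G}
    (hne : χ ≠ Char.trivialChar G) {e : ℤ} (hval : ∀ y : (P : Subgroup G), y ≠ 1 → χ.1 y = e)
    {t : G} (ht : orderOf t = 2) (hinv : ∀ y ∈ (P : Subgroup G), t * y * t⁻¹ = y⁻¹) :
    ∃ z : ℤ, χ.1 t = z ∧ ((Char.degree χ : ℤ) - z) % 4 = 0 ∧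
      11 * z ≤ Char.degree χ + 10 * e ∧ -(11 * z) ≤ Char.degree χ + 10 * e := by
  have ht2 : t * t = 1 := by rw [← sq, ← ht, pow_orderOf_eq_one]
  obtain ⟨m, k, hm, hk, hval_t⟩ := trace_inverting hP (by norm_num) ht2 hinv χ
  have hsum : (Char.degree χ : ℤ) + 10 * e = 11 * m := by
    have h := hm
    rw [← Finset.add_sum_erase _ _ (Finset.mem_univ (1 : (P : Subgroup G))), OneMemClass.coe_one,
      Char.apply_one_eq_degree, Finset.sum_congr rfl fun y hy => hval y (Finset.ne_of_mem_erase hy),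
      Finset.sum_const, Finset.card_erase_of_mem (Finset.mem_univ _), Finset.card_univ,
      ← Nat.card_eq_fintype_card, show Nat.card (P : Subgroup G) = 11 from hP, nsmul_eq_mul] at h
    apply Int.cast_injective (α := ℂ)
    push_cast at h ⊢
    linear_combination h
  obtain ⟨m', hm'ev, -, -, hm'⟩ :=
    Order7920.involution_value (SmallCofactor.exists_noncomm hna) χ hne ht
  have hz : (2 * (k : ℤ) - m) = (Char.degree χ : ℤ) - 2 * m' := by
    apply Int.cast_injective (α := ℂ)
    push_cast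
    rw [← hval_t, hm']
  obtain ⟨l, rfl⟩ := hm'ev
  refine ⟨2 * (k : ℤ) - m, by push_cast; exact hval_t, ?_, ?_, ?_⟩
  · rw [hz]; push_cast; omega
  · omega
  · omega

/-- An involution inverting `P` when `|C(P)|` is odd and `|N(P) : C(P)|` even. -/
theorem exists_inverting (hP : Nat.card P = 11)
    (hodd : ¬ 2 ∣ Nat.card (Subgroup.centralizer ((P : Subgroup G) : Set G)))
    (heven : 2 ∣ Nat.card (Subgroup.normalizer ((P : Subgroup G) : Set G))) :
    ∃ t : G, orderOf t = 2 ∧ ∀ y ∈ (P : Subgroup G), t * y * t⁻¹ = y⁻¹ := by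
  haveI : Fact (Nat.Prime 2) := ⟨Nat.prime_two⟩
  obtain ⟨⟨t, htN⟩, hto⟩ := exists_prime_orderOf_dvd_card' 2 heven
  rw [Subgroup.orderOf_mk] at hto
  refine ⟨t, hto, fun y hy => ?_⟩
  have ht2 : t * t = 1 := by rw [← sq, ← hto, pow_orderOf_eq_one]
  have hti : t⁻¹ = t := inv_eq_of_mul_eq_one_left ht2
  have hy' : t * y * t⁻¹ ∈ (P : Subgroup G) := (Subgroup.mem_normalizer_iff.1 htN y).1 hy
  have hcomm : ∀ a ∈ (P : Subgroup G), ∀ b ∈ (P : Subgroup G), a * b = b * a := fun a ha b hb =>
    (freeData_of_card_eq hP).mul_comm ha hb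
  set w := y * (t * y * t⁻¹) with hw
  by_contra hne
  have hw1 : w ≠ 1 := fun h => hne (eq_inv_of_mul_eq_one_right h)
  have hwt : Commute w t := by
    refine (mul_inv_eq_iff_eq_mul.1 ?_).symm
    rw [hw, show t * (y * (t * y * t⁻¹)) * t⁻¹ = t * y * t⁻¹ * (t * t * y * (t * t)⁻¹) by group,
      ht2, one_mul, inv_one, mul_one]
    exact (hcomm y hy _ hy').symm
  have hzw : Subgroup.zpowers w = (P : Subgroup G) := by
    refine Subgroup.eq_of_le_of_card_ge (Subgroup.zpowers_le.2 (mul_mem hy hy')) ?_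
    rw [Nat.card_zpowers, hP]
    rcases (Nat.dvd_prime (by norm_num)).1
      (hP ▸ Subgroup.orderOf_dvd_natCard _ (mul_mem hy hy') : orderOf w ∣ 11) with h1 | h1
    · exact absurd (orderOf_eq_one_iff.1 h1) hw1
    · exact h1.ge
  have htC : t ∈ Subgroup.centralizer ((P : Subgroup G) : Set G) := by
    rw [← hzw, Blocks.centralizer_zpowers_eq]
    exact Subgroup.mem_centralizer_singleton_iff.2 hwt.symm.eq
  exact hodd (hto ▸ Subgroup.orderOf_dvd_natCard _ htC)

/-- No section of index two. -/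
theorem false_of_two (hna : ¬ IsMulCommutative G) (hd : Nat.card G ∣ 95040)
    (hpM : ((11 : ℕ) : AlgInt) ∈ M) (hP : Nat.card P = 11)
    (hm : (Subgroup.centralizer ((P : Subgroup G) : Set G)).relIndex
      (Subgroup.normalizer ((P : Subgroup G) : Set G)) = 2) : False := by
  obtain ⟨S⟩ := primeShape hpM hP hm
  have hmem : ∀ χ : IrrCharacter G, χ ∈ principalBlock M G ↔ χ ∈ S.X ∨ χ ∈ S.Y := fun χ => by
    rw [S.union]; simp
  have htriv : Char.trivialChar G ∈ S.X := by
    rcases (hmem _).1 Blocks.trivial_mem_principalBlock with h | h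
    · exact h
    · have h1 := S.Y_deg' h
      rw [degree_trivial] at h1
      rcases S.hε with h2 | h2 <;> rw [h2] at h1 <;> norm_num [Int.modEq_iff_dvd] at h1
  have htε : S.εX (Char.trivialChar G) = 1 := by
    have h1 := S.X_deg' htriv
    rw [degree_trivial] at h1
    rcases S.hεX _ htriv with h2 | h2
    · exact h2
    · rw [h2] at h1; norm_num [Int.modEq_iff_dvd] at h1
  obtain ⟨χ, hχ⟩ : ∃ χ, S.X.erase (Char.trivialChar G) = {χ} :=
    Finset.card_eq_one.1 (by rw [Finset.card_erase_of_mem htriv, S.cardX])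
  have hχX : χ ∈ S.X.erase (Char.trivialChar G) := hχ ▸ Finset.mem_singleton_self χ
  obtain ⟨hχne, hχS⟩ := Finset.mem_erase.1 hχX
  obtain ⟨θ, hθ⟩ : S.Y.Nonempty := Finset.card_pos.1 (by rw [S.cardY]; norm_num)
  have hrel := S.degree_relation hθ
  rw [← Finset.add_sum_erase _ _ htriv, hχ, Finset.sum_singleton, htε, degree_trivial] at hrel
  have hdeg := S.X_deg' hχS
  have hYdeg := S.Y_deg' hθ
  rw [Int.modEq_iff_dvd] at hdeg hYdeg
  have hx : Char.degree χ ≠ 1 := fun h => hχne (degree_eq_one hna h)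
  have hdθ : Char.degree θ ∣ 95040 := (Char.degree_dvd_natCard θ).trans hd
  have h10 : Char.degree χ = 10 := by
    refine two_cases _ (degree_lt hd χ) ((Char.degree_dvd_natCard χ).trans hd) hx ?_
    have := Char.degree_pos χ
    have := Char.degree_pos θ
    rcases S.hεX χ hχS with h2 | h2 <;> rcases S.hε with h3 | h3 <;>
      simp only [h2, h3] at hdeg hrel hYdeg <;> push_cast at hrel
    · refine Or.inl ⟨by omega, ?_⟩
      rwa [show Char.degree χ + 1 = Char.degree θ by omega]
    · omega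
    · omega
    · refine Or.inr ⟨by omega, ?_⟩
      rwa [show Char.degree χ - 1 = Char.degree θ by omega]
  have hχB : χ ∈ principalBlock M G := (hmem χ).2 (Or.inl hχS)
  have heχ : S.εX χ = -1 := by
    rcases S.hεX χ hχS with h2 | h2
    · rw [h2, h10] at hdeg; norm_num at hdeg
    · exact h2
  have hC11 : Nat.card (Subgroup.centralizer ((P : Subgroup G) : Set G)) = 11 := by
    by_contra hne
    obtain ⟨c, hc⟩ : 11 ∣ Nat.card (Subgroup.centralizer ((P : Subgroup G) : Set G)) := by
      exact (dvd_of_eq hP.symm).trans (Subgroup.card_dvd_of_le fun x hx =>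
        Subgroup.mem_centralizer_iff.2 fun y hy => (freeData_of_card_eq hP).mul_comm hy hx)
    have hc1 : c ≠ 1 := fun h => hne (by rw [hc, h, mul_one])
    obtain ⟨r, hr, hrc⟩ := Nat.exists_prime_and_dvd hc1
    have hr11 : r ≠ 11 := by
      rintro rfl
      obtain ⟨k, rfl⟩ := hrc
      have h := ((Subgroup.card_subgroup_dvd_card
        (Subgroup.centralizer ((P : Subgroup G) : Set G))).trans hd)
      rw [hc, ← mul_assoc] at h
      exact absurd ((dvd_mul_right (11 * 11) k).trans h) (by norm_num)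
    have := two_mul_le_degree hna hpM hP hχB hχne hr hr11 (hc ▸ hrc.mul_left 11)
    omega
  obtain ⟨t, ht, hinv⟩ := exists_inverting hP (by rw [hC11]; norm_num) (by
    rw [← hm, Subgroup.relIndex]
    exact Subgroup.index_dvd_card _)
  obtain ⟨z, -, hz4, hz1, hz2⟩ := value_inverting hna hP hχne (S.X_val χ hχS) ht hinv
  rw [heχ, h10] at hz1 hz2
  rw [h10] at hz4
  omega

/-- Index five. -/
theorem false_of_five (hna : ¬ IsMulCommutative G) (hpM : ((11 : ℕ) : AlgInt) ∈ M)
    (hP : Nat.card P = 11)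
    (hm : (Subgroup.centralizer ((P : Subgroup G) : Set G)).relIndex
      (Subgroup.normalizer ((P : Subgroup G) : Set G)) = 5)
    {c : ℕ} (hc : c ∈ [2, 3, 4, 6]) (hG : Nat.card G = 7920 * c)
    (hC : Nat.card (Subgroup.centralizer ((P : Subgroup G) : Set G)) = 11 * c) : False := by
  have hd : Nat.card G ∣ 95040 := by
    rw [hG]
    simp only [List.mem_cons, List.not_mem_nil, or_false] at hc
    rcases hc with rfl | rfl | rfl | rfl <;> norm_num
  have hok : ∀ χ : IrrCharacter G, χ ∈ principalBlock M G → χ ≠ Char.trivialChar G →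
      ¬ 11 ∣ Char.degree χ → okFive c (Char.degree χ) = true := by
    intro χ hχ hne h11
    have hdv : Char.degree χ ∣ 7920 * c := hG ▸ Char.degree_dvd_natCard χ
    have hr : ∀ r : ℕ, r.Prime → r ≠ 11 → r ∣ c → ∀ k, ¬ r ^ (k + 1) ∣ 7920 * c →
        ¬ r ^ k ∣ Char.degree χ := fun r hr hr11 hrc k hk hdvd =>
      not_defect_zero hpM hP hχ h11 hr hr11 (hC ▸ hrc.mul_left 11)
        (hG ▸ factorization_eq hr hdv (hG ▸ Nat.card_pos.ne') hdvd hk)
    have h22 : 22 < Char.degree χ := by
      have hc1 : c ≠ 1 := by rintro rfl; simp at hc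
      obtain ⟨r, hr', hrc⟩ := Nat.exists_prime_and_dvd hc1
      have hr11 : r ≠ 11 := by
        rintro rfl
        simp only [List.mem_cons, List.not_mem_nil, or_false] at hc
        rcases hc with rfl | rfl | rfl | rfl <;> norm_num at hrc
      have := two_mul_le_degree hna hpM hP hχ hne hr' hr11 (hC ▸ hrc.mul_left 11)
      rcases this.lt_or_eq with h | h
      · omega
      · exact absurd ⟨2, by omega⟩ h11
    simp only [okFive, Bool.and_eq_true, decide_eq_true_eq, Bool.not_eq_true',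
      Bool.and_eq_false_iff, decide_eq_false_iff_not]
    refine ⟨⟨⟨⟨hdv, hG ▸ degree_sq_le χ⟩, h22⟩, ?_⟩, ?_⟩
    · by_cases h2 : 2 ∣ c
      · right
        intro hdvd
        simp only [List.mem_cons, List.not_mem_nil, or_false] at hc
        rcases hc with rfl | rfl | rfl | rfl
        · exact hr 2 Nat.prime_two (by norm_num) h2 5 (by norm_num) (by simpa using hdvd)
        · omega
        · exact hr 2 Nat.prime_two (by norm_num) h2 6 (by norm_num) (by simpa using hdvd)
        · exact hr 2 Nat.prime_two (by norm_num) h2 5 (by norm_num) (by simpa using hdvd)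
      · exact Or.inl h2
    · by_cases h3 : 3 ∣ c
      · right
        intro hdvd
        simp only [List.mem_cons, List.not_mem_nil, or_false] at hc
        rcases hc with rfl | rfl | rfl | rfl
        · omega
        · exact hr 3 Nat.prime_three (by norm_num) h3 3 (by norm_num) (by simpa using hdvd)
        · omega
        · exact hr 3 Nat.prime_three (by norm_num) h3 3 (by norm_num) (by simpa using hdvd)
      · exact Or.inl h3
  obtain ⟨S⟩ := primeShape hpM hP hm
  have hmem : ∀ χ : IrrCharacter G, χ ∈ principalBlock M G ↔ χ ∈ S.X ∨ χ ∈ S.Y := fun χ => by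
    rw [S.union]; simp
  have htriv : Char.trivialChar G ∈ S.X := by
    rcases (hmem _).1 Blocks.trivial_mem_principalBlock with h | h
    · exact h
    · have h1 := S.Y_deg' h
      rw [degree_trivial] at h1
      rcases S.hε with h2 | h2 <;> rw [h2] at h1 <;> norm_num [Int.modEq_iff_dvd] at h1
  have htε : S.εX (Char.trivialChar G) = 1 := by
    have h1 := S.X_deg' htriv
    rw [degree_trivial] at h1
    rcases S.hεX _ htriv with h2 | h2
    · exact h2
    · rw [h2] at h1; norm_num [Int.modEq_iff_dvd] at h1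
  have hcard : (S.X.erase (Char.trivialChar G)).card = 4 := by
    rw [Finset.card_erase_of_mem htriv, S.cardX]
  let f : Fin 4 ≃ {χ // χ ∈ S.X.erase (Char.trivialChar G)} :=
    (Finset.equivFinOfCardEq hcard).symm
  have hin : ∀ i, S.εX (f i).1 * (Char.degree (f i).1 : ℤ) ∈ degFive c := by
    intro i
    obtain ⟨hne, hX⟩ := Finset.mem_erase.1 (f i).2
    have hdeg := S.X_deg' hX
    rw [Int.modEq_iff_dvd] at hdeg
    refine List.mem_map.2 ⟨Char.degree (f i).1, ?_, ?_⟩
    · refine List.mem_filter.2 ⟨List.mem_range.2 (degree_lt hd _), ?_⟩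
      rw [Bool.and_eq_true, Bool.or_eq_true, decide_eq_true_eq, decide_eq_true_eq]
      rcases S.hεX _ hX with h2 | h2 <;> rw [h2] at hdeg <;> push_cast at hdeg <;>
        exact ⟨hok _ ((hmem _).2 (Or.inl hX)) hne (by omega), by omega⟩
    · rcases S.hεX _ hX with h2 | h2 <;> rw [h2] at hdeg ⊢ <;> push_cast at hdeg
      · rw [if_pos (by omega)]; ring
      · rw [if_neg (by omega)]; ring
  obtain ⟨θ, hθ⟩ : S.Y.Nonempty := Finset.card_pos.1 (by rw [S.cardY]; norm_num)
  have hrel := S.degree_relation hθ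
  rw [← Finset.add_sum_erase _ _ htriv, htε, degree_trivial,
    ← Finset.sum_coe_sort, ← Equiv.sum_comp f, Fin.sum_univ_four, Nat.cast_one, one_mul] at hrel
  have hθdeg := S.Y_deg' hθ
  rw [Int.modEq_iff_dvd] at hθdeg
  have habs : (1 + S.εX (f 0).1 * (Char.degree (f 0).1 : ℤ) +
      S.εX (f 1).1 * (Char.degree (f 1).1 : ℤ) + S.εX (f 2).1 * (Char.degree (f 2).1 : ℤ) +
      S.εX (f 3).1 * (Char.degree (f 3).1 : ℤ)).natAbs = Char.degree θ := by
    rcases S.hε with h | h <;> rw [h] at hrel <;> omega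
  have hθ11 : Char.degree θ % 11 = 5 ∨ Char.degree θ % 11 = 6 := by
    rcases S.hε with h | h <;> rw [h] at hθdeg <;> push_cast at hθdeg <;> omega
  have hθok := hok θ ((hmem θ).2 (Or.inr hθ))
    (fun h => by rw [h, degree_trivial] at hθ11; omega) (by omega)
  have h5 := five_cases c hc _ (hin 0) _ (hin 1) _ (hin 2) _ (hin 3) (habs.symm ▸ hθok)
  rw [habs] at h5
  omega

set_option maxHeartbeats 1600000 in
/-- Index ten. -/
theorem false_of_ten (hna : ¬ IsMulCommutative G) (hpM : ((11 : ℕ) : AlgInt) ∈ M)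
    (hP : Nat.card P = 11)
    (hm : (Subgroup.centralizer ((P : Subgroup G) : Set G)).relIndex
      (Subgroup.normalizer ((P : Subgroup G) : Set G)) = 10)
    {c : ℕ} (hc : c ∈ [1, 2, 3]) (hG : Nat.card G = 15840 * c)
    (hC : Nat.card (Subgroup.centralizer ((P : Subgroup G) : Set G)) = 11 * c) : False := by
  have hc' : c = 1 ∨ c = 2 ∨ c = 3 := by simpa using hc
  have hd : Nat.card G ∣ 95040 := by
    rw [hG]; rcases hc' with rfl | rfl | rfl <;> norm_num
  obtain ⟨B, e, h1B, hins, hBcard, he, hval, hdeg, hrel⟩ := block_transitive hpM hP hm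
  have hBmem : ∀ χ ∈ B, χ ∈ principalBlock M G ∧ χ ≠ Char.trivialChar G := fun χ hχ =>
    ⟨(Finset.mem_filter.1 (hins ▸ Finset.mem_insert_of_mem hχ)).2, fun h => h1B (h ▸ hχ)⟩
  have h22 : c ≠ 1 → ∀ χ ∈ B, 22 ≤ Char.degree χ := by
    intro hc1 χ hχ
    obtain ⟨r, hr, hrc⟩ := Nat.exists_prime_and_dvd hc1
    have hr11 : r ≠ 11 := by
      rintro rfl
      rcases hc' with rfl | rfl | rfl <;> norm_num at hrc
    exact two_mul_le_degree hna hpM hP (hBmem χ hχ).1 (hBmem χ hχ).2 hr hr11 (hC ▸ hrc.mul_left 11)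
  have heven : 2 ∣ Nat.card (Subgroup.normalizer ((P : Subgroup G) : Set G)) := by
    refine dvd_trans (show 2 ∣ 10 by norm_num) ?_
    rw [← hm, Subgroup.relIndex]
    exact Subgroup.index_dvd_card _
  -- the degrees
  have hdegs : ∀ χ ∈ B, Char.degree χ = 12 ∧ e χ = 1 ∧ c = 1 ∨
      Char.degree χ = 32 ∧ e χ = -1 ∨ Char.degree χ = 45 ∧ e χ = 1 ∨
      Char.degree χ = 120 ∧ e χ = -1 ∨ Char.degree χ = 144 ∧ e χ = 1 := by
    intro χ hχ
    obtain ⟨hχB, hχ1⟩ := hBmem χ hχ
    have hmod := hdeg χ hχ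
    rw [Int.modEq_iff_dvd] at hmod
    push_cast at hmod
    have h11 : ¬ 11 ∣ Char.degree χ := by rcases he χ hχ with h | h <;> rw [h] at hmod <;> omega
    have h10 : Char.degree χ ≠ 10 := by
      intro h10
      by_cases hc1 : c = 1
      · obtain ⟨t, ht, hinv⟩ := exists_inverting hP (by rw [hC, hc1]; norm_num) heven
        have hee : e χ = -1 := by
          rw [h10] at hmod
          rcases he χ hχ with h | h
          · rw [h] at hmod; norm_num at hmod
          · exact h
        obtain ⟨z, -, hz4, hz1, hz2⟩ := value_inverting hna hP hχ1 (hval χ hχ) ht hinv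
        rw [hee, h10] at hz1 hz2
        rw [h10] at hz4
        omega
      · have := h22 hc1 χ hχ; omega
    have hx : Char.degree χ ≠ 1 := fun h => hχ1 (degree_eq_one hna h)
    have hlist := ten_degrees c hc _ (degree_lt hd χ) (hG ▸ Char.degree_dvd_natCard χ)
      (hG ▸ degree_sq_le χ) (by rcases he χ hχ with h | h <;> rw [h] at hmod <;> omega) hx h10
      ((em (c = 1)).imp_right fun hc1 => by
        rcases (h22 hc1 χ hχ).lt_or_eq with h | h
        · exact h
        · exact absurd ⟨2, by omega⟩ h11)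
      ((em (c = 3)).symm.imp_right fun hc3 hdvd => not_defect_zero hpM hP hχB h11 Nat.prime_three (by norm_num)
        (hC ▸ (dvd_of_eq hc3.symm : 3 ∣ c).mul_left 11)
        (factorization_eq Nat.prime_three (Char.degree_dvd_natCard χ) Nat.card_pos.ne'
          (k := 3) (by simpa using hdvd) (by rw [hG, hc3]; norm_num)))
    rcases he χ hχ with h | h <;> rw [h] at hmod ⊢ <;> rcases hlist with h' | h' | h' | h' | h' <;>
      rw [h'] at hmod ⊢ <;> first | (norm_num at hmod; done) | norm_num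
    by_contra hc1
    have := h22 hc1 χ hχ
    omega
  -- the multiplicities
  set N : ℕ → Finset (IrrCharacter G) := fun d => B.filter fun χ => Char.degree χ = d with hN
  have hsplit : ∀ F : IrrCharacter G → ℤ, ∑ χ ∈ B, F χ = ∑ χ ∈ N 12, F χ + ∑ χ ∈ N 32, F χ +
      ∑ χ ∈ N 45, F χ + ∑ χ ∈ N 120, F χ + ∑ χ ∈ N 144, F χ := by
    intro F
    have h := Finset.sum_fiberwise_of_maps_to (s := B) (t := ({12, 32, 45, 120, 144} : Finset ℕ))
      (g := Char.degree) (fun χ hχ => by
        rcases hdegs χ hχ with h | h | h | h | h <;> simp [h.1]) F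
    rw [← h, Finset.sum_insert (by norm_num), Finset.sum_insert (by norm_num),
      Finset.sum_insert (by norm_num), Finset.sum_insert (by norm_num), Finset.sum_singleton]
    simp only [hN]
    ring
  have hNmem : ∀ {d χ}, χ ∈ N d → χ ∈ B ∧ Char.degree χ = d := fun h => Finset.mem_filter.1 h
  have hNconst : ∀ (d : ℕ) (a : ℤ) (F : IrrCharacter G → ℤ), (∀ χ ∈ N d, F χ = a) →
      ∑ χ ∈ N d, F χ = (N d).card * a := fun d a F h => by
    rw [Finset.sum_congr rfl h, Finset.sum_const, nsmul_eq_mul]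
  have hNe : ∀ {d : ℕ} {χ}, χ ∈ N d → e χ = (if d = 32 ∨ d = 120 then -1 else 1) := by
    intro d χ h
    obtain ⟨hB, rfl⟩ := hNmem h
    rcases hdegs χ hB with h | h | h | h | h <;> simp [h.1, h.2]
  have hcnt := hsplit fun _ => 1
  simp only [Finset.sum_const, hBcard, nsmul_eq_mul, mul_one] at hcnt
  have hreg : 1 + ∑ χ ∈ B, e χ * (Char.degree χ : ℤ) = 0 := by
    have := hrel 1 isPRegular_one
    apply Int.cast_injective (α := ℂ)
    push_cast
    rw [← this]
    congr 1
    exact Finset.sum_congr rfl fun χ _ => by rw [Char.apply_one_eq_degree]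
  have hsq : 1 + ∑ χ ∈ B, (Char.degree χ : ℤ) ^ 2 ≤ ((15840 * c : ℕ) : ℤ) := by
    rw [← hG, ← Char.sum_degree_sq (G := G), Nat.cast_sum]
    simp only [Nat.cast_pow]
    calc 1 + ∑ χ ∈ B, (Char.degree χ : ℤ) ^ 2
        = ∑ χ ∈ insert (Char.trivialChar G) B, (Char.degree χ : ℤ) ^ 2 := by
          rw [Finset.sum_insert h1B, degree_trivial]; norm_num
      _ ≤ _ := Finset.sum_le_univ_sum_of_nonneg fun χ => sq_nonneg _
  rw [hsplit, hNconst 12 12 _ (fun χ h => by rw [hNe h, (hNmem h).2]; norm_num),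
    hNconst 32 (-32) _ (fun χ h => by rw [hNe h, (hNmem h).2]; norm_num),
    hNconst 45 45 _ (fun χ h => by rw [hNe h, (hNmem h).2]; norm_num),
    hNconst 120 (-120) _ (fun χ h => by rw [hNe h, (hNmem h).2]; norm_num),
    hNconst 144 144 _ (fun χ h => by rw [hNe h, (hNmem h).2]; norm_num)] at hreg
  rw [hsplit, hNconst 12 144 _ (fun χ h => by rw [(hNmem h).2]; norm_num),
    hNconst 32 1024 _ (fun χ h => by rw [(hNmem h).2]; norm_num),
    hNconst 45 2025 _ (fun χ h => by rw [(hNmem h).2]; norm_num),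
    hNconst 120 14400 _ (fun χ h => by rw [(hNmem h).2]; norm_num),
    hNconst 144 20736 _ (fun χ h => by rw [(hNmem h).2]; norm_num)] at hsq
  push_cast at hsq
  have h12 : c ≠ 1 → (N 12).card = 0 := fun hc1 => Finset.card_eq_zero.2
    (Finset.eq_empty_of_forall_notMem fun χ hχ => by
      obtain ⟨hB, hd12⟩ := hNmem hχ
      have := h22 hc1 χ hB
      omega)
  obtain ⟨hc2, h45, h120, h144⟩ := ten_counts c hc (N 12).card (by omega) (N 32).card (by omega)
    (N 45).card (by omega) (N 120).card (by omega) ((em (c = 1)).imp_right h12) (by omega) (by omega)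
  have h144' : (N 144).card ≤ 1 := by omega
  -- the involution
  have hodd : ¬ 2 ∣ Nat.card (Subgroup.centralizer ((P : Subgroup G) : Set G)) := by
    rw [hC]; rcases hc' with rfl | rfl | rfl <;> first | exact absurd rfl hc2 | norm_num
  obtain ⟨t, ht, hinv⟩ := exists_inverting hP hodd heven
  have hvz : ∀ χ, ∃ z : ℤ, χ ∈ B → χ.1 t = z ∧ ((Char.degree χ : ℤ) - z) % 4 = 0 ∧
      11 * z ≤ Char.degree χ + 10 * e χ ∧ -(11 * z) ≤ Char.degree χ + 10 * e χ := fun χ => by
    by_cases hχ : χ ∈ B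
    · obtain ⟨z, hz⟩ := value_inverting hna hP (hBmem χ hχ).2 (hval χ hχ) ht hinv
      exact ⟨z, fun _ => hz⟩
    · exact ⟨0, fun h => absurd h hχ⟩
  choose z hz using hvz
  have hbd : ∀ {d : ℕ} {χ}, χ ∈ N d → ((d : ℤ) - z χ) % 4 = 0 ∧
      11 * z χ ≤ d + 10 * (if d = 32 ∨ d = 120 then -1 else 1) ∧
      -(11 * z χ) ≤ d + 10 * (if d = 32 ∨ d = 120 then -1 else 1) := by
    intro d χ h
    obtain ⟨-, h4, hu, hl⟩ := hz χ (hNmem h).1
    rw [hNe h] at hu hl
    rw [(hNmem h).2] at h4 hu hl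
    exact ⟨h4, hu, hl⟩
  have hrelz : 1 + ∑ χ ∈ B, e χ * z χ = 0 := by
    have := hrel t (isPRegular_involution ht)
    apply Int.cast_injective (α := ℂ)
    push_cast
    rw [← this]
    congr 1
    exact Finset.sum_congr rfl fun χ hχ => by rw [(hz χ hχ).1]
  obtain ⟨x₁, x₂, x₃, hx12, hx13, hx23, hN45⟩ := Finset.card_eq_three.1 h45
  have h45mem : ∀ χ ∈ ({x₁, x₂, x₃} : Finset (IrrCharacter G)), χ ∈ N 45 := fun χ h => hN45 ▸ h
  have hv45 : ∀ χ ∈ ({x₁, x₂, x₃} : Finset (IrrCharacter G)),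
      z χ ∈ [(-3 : ℤ), 1, 5] := by
    intro χ h
    obtain ⟨h4, hu, hl⟩ := hbd (h45mem χ h)
    norm_num at hu hl h4
    simp only [List.mem_cons, List.not_mem_nil, or_false]
    omega
  have hsmall : ∀ s : Finset (IrrCharacter G), s.card ≤ 1 → ∀ f : IrrCharacter G → ℤ,
      (s = ∅ ∨ ∃ χ, s = {χ}) ∧ ∑ χ ∈ s, f χ * f χ = (∑ χ ∈ s, f χ) * ∑ χ ∈ s, f χ := by
    intro s hs f
    rcases Nat.le_one_iff_eq_zero_or_eq_one.1 hs with h | h
    · rw [Finset.card_eq_zero] at h; subst h; simp
    · obtain ⟨χ, rfl⟩ := Finset.card_eq_one.1 h; simp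
  have hb : (∑ χ ∈ N 120, z χ) ∈ [(-8 : ℤ), -4, 0, 4, 8] := by
    rcases (hsmall _ h120 z).1 with h | ⟨χ, h⟩
    · rw [h]; simp
    · rw [h, Finset.sum_singleton]
      obtain ⟨h4, hu, hl⟩ := hbd (h.symm ▸ Finset.mem_singleton_self χ : χ ∈ N 120)
      norm_num at hu hl h4
      simp only [List.mem_cons, List.not_mem_nil, or_false]
      omega
  have hg : (∑ χ ∈ N 144, z χ) ∈ [(-12 : ℤ), -8, -4, 0, 4, 8, 12] := by
    rcases (hsmall _ h144' z).1 with h | ⟨χ, h⟩
    · rw [h]; simp
    · rw [h, Finset.sum_singleton]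
      obtain ⟨h4, hu, hl⟩ := hbd (h.symm ▸ Finset.mem_singleton_self χ : χ ∈ N 144)
      norm_num at hu hl h4
      simp only [List.mem_cons, List.not_mem_nil, or_false]
      omega
  have hzero : ∀ d, d = 12 ∨ d = 32 → ∀ χ ∈ N d, z χ = 0 := by
    rintro d (rfl | rfl) χ h <;> obtain ⟨h4, hu, hl⟩ := hbd h <;> norm_num at hu hl h4 <;> omega
  have hsum45 : ∀ f : IrrCharacter G → ℤ, ∑ χ ∈ N 45, f χ = f x₁ + f x₂ + f x₃ := fun f => by
    rw [hN45, Finset.sum_insert (by simp [hx12, hx13]), Finset.sum_insert (by simp [hx23]),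
      Finset.sum_singleton]
    ring
  rw [hsplit, hNconst 12 0 _ (fun χ h => by rw [hzero 12 (Or.inl rfl) χ h, mul_zero]),
    hNconst 32 0 _ (fun χ h => by rw [hzero 32 (Or.inr rfl) χ h, mul_zero]),
    Finset.sum_congr (g := z) rfl (fun χ h => by rw [hNe h]; norm_num : ∀ χ ∈ N 45, _),
    Finset.sum_congr (g := fun χ => -z χ) rfl (fun χ h => by rw [hNe h]; norm_num : ∀ χ ∈ N 120, _),
    Finset.sum_congr (g := z) rfl (fun χ h => by rw [hNe h]; norm_num : ∀ χ ∈ N 144, _),
    hsum45, Finset.sum_neg_distrib] at hrelz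
  obtain ⟨hlt, hnsq⟩ := ten_square _ (hv45 x₁ (by simp)) _ (hv45 x₂ (by simp))
    _ (hv45 x₃ (by simp)) _ hb _ hg (by linarith)
  -- the class count
  obtain ⟨⟨y, hy⟩, hyo⟩ := exists_prime_orderOf_dvd_card' (G := (P : Subgroup G)) 11
    (dvd_of_eq hP.symm)
  rw [Subgroup.orderOf_mk] at hyo
  have hy1 : y ≠ 1 := fun h => by rw [h, orderOf_one] at hyo; norm_num at hyo
  have hzy : Subgroup.zpowers y = (P : Subgroup G) :=
    Subgroup.eq_of_le_of_card_ge (Subgroup.zpowers_le.2 hy) (by rw [Nat.card_zpowers, hyo, hP])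
  obtain ⟨Nn, hNn⟩ := exists_sq_class_sum hpM hP (by norm_num)
    (by rw [← sq, ← ht, pow_orderOf_eq_one] : t * t = 1) hy hy1
  rw [show Subgroup.centralizer ({y} : Set G) = Subgroup.centralizer ((P : Subgroup G) : Set G) by
    rw [← hzy, Blocks.centralizer_zpowers_eq], hC, hG, ← hins, Finset.sum_insert h1B,
    show (Char.trivialChar G).1 t = 1 from rfl, show (Char.trivialChar G).1 y = 1 from rfl,
    show (Char.trivialChar G).1 1 = 1 from rfl, map_one, mul_one, mul_one, div_one] at hNn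
  have hterm : ∀ χ ∈ B, χ.1 t * χ.1 t * conj (χ.1 y) / χ.1 1 =
      ((e χ * (z χ * z χ) * (1440 / Char.degree χ : ℕ) : ℤ) : ℂ) / 1440 := by
    intro χ hχ
    rw [(hz χ hχ).1, hval χ hχ ⟨y, hy⟩ (fun h => hy1 (congrArg Subtype.val h)), map_intCast,
      Char.apply_one_eq_degree]
    rcases hdegs χ hχ with h | h | h | h | h <;> rw [h.1] <;> push_cast <;> norm_num <;> ring
  rw [Finset.sum_congr rfl hterm, ← Finset.sum_div, ← Int.cast_sum, hsplit] at hNn
  rw [hNconst 12 0 _ (fun χ h => by simp [hzero 12 (Or.inl rfl) χ h]),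
    hNconst 32 0 _ (fun χ h => by simp [hzero 32 (Or.inr rfl) χ h]),
    Finset.sum_congr (g := fun χ => 32 * (z χ * z χ)) rfl
      (fun χ h => by rw [hNe h, (hNmem h).2]; norm_num; ring : ∀ χ ∈ N 45, _),
    Finset.sum_congr (g := fun χ => (-12 : ℤ) * (z χ * z χ)) rfl
      (fun χ h => by rw [hNe h, (hNmem h).2]; norm_num; ring : ∀ χ ∈ N 120, _),
    Finset.sum_congr (g := fun χ => 10 * (z χ * z χ)) rfl
      (fun χ h => by rw [hNe h, (hNmem h).2]; norm_num; ring : ∀ χ ∈ N 144, _),
    hsum45, ← Finset.mul_sum, ← Finset.mul_sum, (hsmall _ h120 z).2, (hsmall _ h144' z).2] at hNn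
  set T : ℤ := 1440 + 32 * (z x₁ * z x₁ + z x₂ * z x₂ + z x₃ * z x₃) +
    10 * ((∑ χ ∈ N 144, z χ) * ∑ χ ∈ N 144, z χ) -
    12 * ((∑ χ ∈ N 120, z χ) * ∑ χ ∈ N 120, z χ) with hT
  have hkey : (121 * (c : ℤ) ^ 2) * T = (Nn : ℤ) ^ 2 := by
    apply Int.cast_injective (α := ℂ)
    push_cast at hNn ⊢
    rw [← hNn, hT]
    push_cast
    ring
  have hdvd : (11 * (c : ℤ)) ^ 2 ∣ (Nn : ℤ) ^ 2 := ⟨T, by rw [← hkey]; ring⟩
  obtain ⟨s, hs⟩ := (Int.pow_dvd_pow_iff two_ne_zero).1 hdvd
  have hT' : T = s * s := by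
    refine mul_left_cancel₀ (show (121 * (c : ℤ) ^ 2) ≠ 0 by
      rcases hc' with rfl | rfl | rfl <;> norm_num) ?_
    rw [hkey, hs]; ring
  have hs2 : ((s.natAbs : ℤ)) * (s.natAbs : ℤ) = T := by rw [hT', Int.natAbs_mul_self']
  have hs80 : s.natAbs < 80 := by
    by_contra hge
    have : (80 : ℤ) ≤ (s.natAbs : ℤ) := by exact_mod_cast not_lt.1 hge
    have := mul_le_mul this this (by norm_num) (by positivity)
    omega
  exact hnsq s.natAbs (List.mem_range.2 hs80) hs2

omit [Fact (Nat.Prime 11)] in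
/-- The order of a simple group with order dividing 95040 and divisible by 11. -/
theorem card_of_simple_dvd (hna : ¬ IsMulCommutative G) (hd : Nat.card G ∣ 95040)
    (h11 : 11 ∣ Nat.card G) :
    Nat.card G = 660 ∨ Nat.card G = 7920 ∨ Nat.card G = 95040 := by
  haveI : Fact (Nat.Prime 11) := ⟨by norm_num⟩
  obtain ⟨P⟩ : Nonempty (Sylow 11 G) := inferInstance
  obtain ⟨g₀, hg₀⟩ := h11
  have hg11 : ¬ 11 ∣ g₀ := by
    intro h
    obtain ⟨k, rfl⟩ := h
    rw [hg₀, ← mul_assoc] at hd
    exact absurd ((dvd_mul_right (11 * 11) k).trans hd) (by norm_num)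
  have hP : Nat.card P = 11 := by
    have := SmallSimple.card_sylow_eq_pow P 1 g₀ (by rw [hg₀, pow_one]) hg11
    rwa [pow_one] at this
  have hperf : commutator G = ⊤ := by
    rcases (inferInstance : (commutator G).Normal).eq_bot_or_eq_top with h | h
    · exfalso
      obtain ⟨a, b, hab⟩ := SmallCofactor.exists_noncomm hna
      have := Subgroup.commutator_mem_commutator (Subgroup.mem_top a) (Subgroup.mem_top b)
      rw [← commutator_def, h, Subgroup.mem_bot, commutatorElement_eq_one_iff_mul_comm] at this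
      exact hab this
    · exact h
  set C := Subgroup.centralizer ((P : Subgroup G) : Set G) with hC
  set Nm := Subgroup.normalizer ((P : Subgroup G) : Set G) with hNm
  set q := C.relIndex Nm with hq
  obtain ⟨c, hc⟩ : 11 ∣ Nat.card C := (dvd_of_eq hP.symm).trans <| Subgroup.card_dvd_of_le (fun x hx =>
    Subgroup.mem_centralizer_iff.2 fun y hy => (freeData_of_card_eq hP).mul_comm hy hx)
  have hNcard : Nat.card Nm = 11 * c * q := by
    have h := Subgroup.relIndex_mul_relIndex ⊥ C Nm bot_le (Subgroup.centralizer_le_normalizer _)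
    rw [Subgroup.relIndex_bot_left, Subgroup.relIndex_bot_left, hc] at h
    exact h.symm
  set n := Nat.card (Sylow 11 G) with hn
  have hGn : Nat.card G = n * (11 * c * q) := by
    rw [← hNcard, hn, P.card_eq_index_normalizer]
    exact (Subgroup.index_mul_card _).symm
  have hncq : n * c * q ∣ 8640 := by
    have h : 11 * (n * c * q) ∣ 11 * 8640 := by
      rw [show 11 * (n * c * q) = Nat.card G by rw [hGn]; ring]; exact hd
    exact Nat.dvd_of_mul_dvd_mul_left (by norm_num) h
  have hn1 : n % 11 = 1 := by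
    have := card_sylow_modEq_one 11 G
    rwa [Nat.ModEq] at this
  obtain ⟨M, hM⟩ := CharInt.exists_isPModular_of_prime (q := 11) (by norm_num)
  haveI := hM.2.1
  have hpM : ((11 : ℕ) : AlgInt) ∈ M := hM.2.2
  have hq10 : q ∣ 10 := by
    obtain ⟨S⟩ := primeShape hpM hP hq.symm
    exact S.m_dvd
  have hq2 : 2 ≤ q := BrauerPSL.two_le_relIndex hperf hP
  have hq' : q = 2 ∨ q = 5 ∨ q = 10 := by
    have := Nat.le_of_dvd (by norm_num) hq10
    interval_cases q <;> first | omega | norm_num at hq10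
  rcases hq' with hq' | hq' | hq'
  · exact (false_of_two hna hd hpM hP hq').elim
  all_goals
    rw [hq'] at hncq hGn
    have hnd : n ∣ 8640 := (dvd_mul_right n c).trans ((dvd_mul_right _ _).trans hncq)
    rcases count_cases n (Nat.lt_succ_of_le (Nat.le_of_dvd (by norm_num) hnd)) hnd hn1 with
      h | h | h | h | h | h | h
    · exfalso
      have hone : P.toSubgroup.Normal := by
        haveI : Subsingleton (Sylow 11 G) := (Nat.card_eq_one_iff_unique.1 h).1
        exact P.normal_of_subsingleton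
      rcases hone.eq_bot_or_eq_top with hb | ht
      · have := hP
        rw [show Nat.card P = Nat.card (P : Subgroup G) from rfl, hb, Subgroup.card_bot] at this
        norm_num at this
      · exact hna (isMulCommutative_iff.2 fun a b => (freeData_of_card_eq hP).mul_comm
          (ht ▸ Subgroup.mem_top a) (ht ▸ Subgroup.mem_top b))
    · left
      have hcore : pPrimeCore 11 G = ⊥ := by
        rcases (PCore.pPrimeCore_normal (p := 11) (G := G)).eq_bot_or_eq_top with hb | ht
        · exact hb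
        · exfalso
          have h2 := PCore.coprime_card_pPrimeCore (p := 11) (G := G)
          rw [ht, Subgroup.card_top, hg₀] at h2
          have := Nat.Coprime.coprime_dvd_left (dvd_mul_right 11 g₀) h2
          norm_num at this
      obtain ⟨-, -, -, -, h1 | h2⟩ := BrauerPSL.brauer P hperf hP hcore (n₀ := 1)
        (show Nat.card (Sylow 11 G) ∣ 1 + 1 * 11 by rw [← hn, h])
        (BrauerPSL.nonF_of_lt (by norm_num))
      · obtain ⟨F, _, _, -, h660, -⟩ := h1
        omega
      · obtain ⟨m, F, _, _, -, hp', -⟩ := h2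
        exfalso
        have : m < 4 := by
          by_contra h'
          have := Nat.pow_le_pow_right (show 2 > 0 by norm_num) (show 4 ≤ m by omega)
          omega
        interval_cases m <;> omega
    · exfalso
      rw [h] at hncq
      have hh : 45 * 5 ∣ 8640 :=
        (show 45 * 5 ∣ 45 * c * _ from mul_dvd_mul (dvd_mul_right 45 c) (by norm_num)).trans hncq
      norm_num at hh
    · rw [h] at hncq hGn
      have hcd : c ∣ 12 := by
        refine Nat.dvd_of_mul_dvd_mul_left (show 0 < 720 by norm_num) ?_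
        rw [show 720 * c = 144 * c * 5 by ring]
        exact (mul_dvd_mul_left _ (by norm_num)).trans hncq
      have := Nat.le_of_dvd (by norm_num) hcd
      have hG' := hd
      rw [hGn] at hG'
      interval_cases c <;>
        first
          | (norm_num at hcd; done)
          | (norm_num at hG'; done)
          | (right; left; omega)
          | (right; right; omega)
          | exact (false_of_five hna hpM hP hq' (by decide) (by omega) hc).elim
          | exact (false_of_ten hna hpM hP hq' (by decide) (by omega) hc).elim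
    · exfalso
      rw [h] at hncq
      have hh : 320 * 5 ∣ 8640 :=
        (show 320 * 5 ∣ 320 * c * _ from mul_dvd_mul (dvd_mul_right 320 c) (by norm_num)).trans hncq
      norm_num at hh
    · exfalso
      rw [h] at hncq
      have hh : 540 * 5 ∣ 8640 :=
        (show 540 * 5 ∣ 540 * c * _ from mul_dvd_mul (dvd_mul_right 540 c) (by norm_num)).trans hncq
      norm_num at hh
    · rw [h] at hncq hGn
      have hcd : c ∣ 1 := by
        refine Nat.dvd_of_mul_dvd_mul_left (show 0 < 8640 by norm_num) ?_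
        rw [show 8640 * c = 1728 * c * 5 by ring]
        exact (mul_dvd_mul_left _ (by norm_num)).trans hncq
      rw [Nat.dvd_one] at hcd
      subst hcd
      first
        | (right; right; omega)
        | (norm_num at hncq)

end Simple

end Cfsg.Agent.Order95040
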