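import Cfsg.Prelude.Def_DegreeGraph
import Cfsg.Agent.Lib.Order95040.SimpleDivisors
import Cfsg.Agent.Lib.Order7920.Unique
import Cfsg.Agent.Lib.Char.Product
import Cfsg.Agent.Lib.Char.Ito
import Cfsg.Agent.Lib.OddOrder.CoherenceInduced
import Cfsg.Agent.Lib.PCore.Basic
import Cfsg.Agent.S0887
import Cfsg.Agent.S2034
import Cfsg.Agent.S2060
import Cfsg.Agent.S2490
import Cfsg.Agent.S4429

/-!
# Groups of order 95040 with character degrees divisible by 55 and by 33

Such a group is simple or is `A₄ × M₁₁`. The elements of order 11 centralise `O_{11'}(G)` and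
generate a perfect central extension `H` of a simple group of order 660, 7920 or 95040. The order
660 leaves no room for a degree divisible by 55; for 7920 the subgroup `H` is `M₁₁`, a direct
factor whose complement has order 12 and a degree divisible by 3.
-/

set_option autoImplicit false
set_option linter.style.haveILetI false
set_option linter.unusedSectionVars false

namespace Cfsg.Agent.Order95040

open Cfsg Cfsg.Agent Subgroup
open scoped Classical

universe u

variable {G : Type u} [Group G]

/-- The subgroup generated by the elements of order 11. -/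
def elevenGen (G : Type u) [Group G] : Subgroup G := closure {x : G | orderOf x = 11}

instance elevenGen_normal : (elevenGen G).Normal := by
  refine ⟨fun n hn g => ?_⟩
  have h : elevenGen G ≤ (elevenGen G).comap (MulAut.conj g).toMonoidHom := by
    refine (closure_le _).2 fun x hx => subset_closure ?_
    show orderOf (g * x * g⁻¹) = 11
    rw [show g * x * g⁻¹ = MulAut.conj g x from rfl, MulEquiv.orderOf_eq]
    exact hx
  exact h hn

variable [Finite G] [Fact (Nat.Prime 11)]

/-- An element of order 11 lies in a normal subgroup of index prime to 11. -/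
theorem mem_of_index {A : Subgroup G} [A.Normal] (h11 : ¬ 11 ∣ A.index) {x : G}
    (hx : orderOf x = 11) : x ∈ A := by
  by_contra hxA
  refine h11 ?_
  rw [index_eq_card]
  have h : orderOf (x : G ⧸ A) = 11 := by
    have hd : orderOf (x : G ⧸ A) ∣ 11 := hx ▸ orderOf_map_dvd (QuotientGroup.mk' A) x
    rcases (Nat.dvd_prime (Fact.out : Nat.Prime 11)).1 hd with h | h
    · exact absurd ((QuotientGroup.eq_one_iff x).1 (orderOf_eq_one_iff.1 h)) hxA
    · exact h
  rw [← h]
  exact orderOf_dvd_natCard _

/-- Elements of order 11 centralise `O_{11'}(G)`. -/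
theorem elevenGen_le_centralizer (hG : Nat.card G = 95040) :
    elevenGen G ≤ centralizer ((pPrimeCore 11 G : Subgroup G) : Set G) := by
  set K := pPrimeCore 11 G with hK
  have hKcop : (Nat.card K).Coprime 11 := PCore.coprime_card_pPrimeCore
  have hK11 : ¬ 11 ∣ Nat.card K := fun h => by
    have := Nat.eq_one_of_dvd_coprimes hKcop h dvd_rfl
    omega
  have hidx : 11 ∣ K.index := by
    have h := K.card_mul_index
    rw [hG] at h
    exact ((Nat.Prime.dvd_mul (by norm_num)).1 (h ▸ (by norm_num : 11 ∣ 95040))).resolve_left hK11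
  refine (closure_le _).2 fun x hx => ?_
  set D := centralizer ({x} : Set G) ⊓ K with hD
  suffices h : Nat.card K ∣ Nat.card D by
    have hDK : D = K := eq_of_le_of_card_ge inf_le_right (Nat.le_of_dvd Nat.card_pos h)
    exact mem_centralizer_iff.2 fun k hk =>
      mem_centralizer_singleton_iff.1 ((hDK.ge.trans inf_le_left) hk)
  refine (Nat.factorization_le_iff_dvd Nat.card_pos.ne' Nat.card_pos.ne').1 fun r => ?_
  by_cases hr : r.Prime
  swap
  · simp [Nat.factorization_eq_zero_of_not_prime _ hr]
  haveI := Fact.mk hr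
  obtain ⟨R, hRK, hRc, y, hy, hyR⟩ := S2490.exists_normalizing K r 11 hidx
  have hrd : r ^ (Nat.card K).factorization r ∣ 8640 := by
    have hdd : Nat.card K ∣ 8640 * 11 := by
      rw [show 8640 * 11 = Nat.card G by rw [hG]]
      exact K.card_subgroup_dvd_card
    exact (Nat.ordProj_dvd _ _).trans (hKcop.dvd_of_dvd_mul_right hdd)
  -- `y` centralises `R`
  have hyC : ∀ w ∈ R, y * w = w * y := fun w hw => by
    refine M11Order.commute_of_normalizes R (s := 11) hyR (by rw [← hy, pow_orderOf_eq_one]) ?_ hw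
    intro c hc hmod
    rw [hRc] at hc hmod ⊢
    obtain ⟨i, hi, rfl⟩ := (Nat.dvd_prime_pow hr).1 hc
    generalize (Nat.card K).factorization r = v at hrd hi hmod
    rcases Nat.eq_zero_or_pos v with rfl | hv
    · rw [Nat.le_zero.1 hi]
    have h8640 : r ∈ ({2, 3, 5} : Finset ℕ) :=
      (by decide +kernel : (8640 : ℕ).primeFactors ⊆ {2, 3, 5})
        (Nat.mem_primeFactors.2 ⟨hr, (dvd_pow_self r hv.ne').trans hrd, by norm_num⟩)
    simp only [Finset.mem_insert, Finset.mem_singleton] at h8640
    rcases h8640 with rfl | rfl | rfl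
    · have : v ≤ 6 := by
        by_contra hh
        exact absurd ((pow_dvd_pow 2 (show 7 ≤ v by omega)).trans hrd) (by norm_num)
      interval_cases v <;> interval_cases i <;> first | rfl | exact absurd hmod (by decide)
    · have : v ≤ 3 := by
        by_contra hh
        exact absurd ((pow_dvd_pow 3 (show 4 ≤ v by omega)).trans hrd) (by norm_num)
      interval_cases v <;> interval_cases i <;> first | rfl | exact absurd hmod (by decide)
    · have : v ≤ 1 := by
        by_contra hh
        exact absurd ((pow_dvd_pow 5 (show 2 ≤ v by omega)).trans hrd) (by norm_num)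
      interval_cases v <;> interval_cases i <;> first | rfl | exact absurd hmod (by decide)
  -- move `y` into `⟨x⟩`
  obtain ⟨g₀, hg₀⟩ : 11 ∣ Nat.card G := by rw [hG]; norm_num
  have hsyl : ∀ z : G, orderOf z = 11 → ∃ P : Sylow 11 G, (P : Subgroup G) = zpowers z := by
    intro z hz
    have hc : Nat.card (zpowers z) = 11 ^ 1 := by rw [Nat.card_zpowers, hz, pow_one]
    have hi : ¬ 11 ∣ (zpowers z).index := by
      intro hd
      have h := (zpowers z).card_mul_index
      rw [Nat.card_zpowers, hz, hG] at h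
      omega
    exact ⟨(IsPGroup.of_card hc).toSylow hi, rfl⟩
  obtain ⟨P, hP⟩ := hsyl x hx
  obtain ⟨Q, hQ⟩ := hsyl y hy
  obtain ⟨g, hg⟩ := MulAction.exists_smul_eq G Q P
  have hgy : g * y * g⁻¹ ∈ zpowers x := by
    rw [← hP, ← hg]
    exact smul_mem_pointwise_smul y (MulAut.conj g) _ (hQ ▸ mem_zpowers y)
  have hgy11 : orderOf (g * y * g⁻¹) = 11 :=
    (MulEquiv.orderOf_eq (MulAut.conj g) y).trans hy
  have hxgy : x ∈ zpowers (g * y * g⁻¹) := by
    rw [eq_of_le_of_card_ge (zpowers_le.2 hgy) (by rw [Nat.card_zpowers, Nat.card_zpowers, hx, hgy11])]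
    exact mem_zpowers x
  have hle : R.map (MulAut.conj g).toMonoidHom ≤ D := by
    rintro _ ⟨w, hw, rfl⟩
    refine ⟨mem_centralizer_singleton_iff.2 ?_,
      (inferInstance : K.Normal).conj_mem w (hRK hw) g⟩
    obtain ⟨k, hk⟩ := hxgy
    have hc : Commute (g * y * g⁻¹) (g * w * g⁻¹) := by
      show g * y * g⁻¹ * (g * w * g⁻¹) = g * w * g⁻¹ * (g * y * g⁻¹)
      calc g * y * g⁻¹ * (g * w * g⁻¹) = g * (y * w) * g⁻¹ := by group
        _ = g * (w * y) * g⁻¹ := by rw [hyC w hw]
        _ = _ := by group
    exact hk ▸ (hc.zpow_left k).symm.eq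
  have hd := card_dvd_of_le hle
  rw [card_map_of_injective (MulAut.conj g).injective, hRc] at hd
  exact (hr.pow_dvd_iff_le_factorization Nat.card_pos.ne').1 hd

/-- A group of order 12 with an irreducible character of degree divisible by 3 is `A₄`. -/
theorem nonempty_alternating_four {C : Type u} [Group C] [Finite C] (hC : Nat.card C = 12)
    (h3 : ∃ d ∈ charDegrees C, 3 ∣ d) : Nonempty (C ≃* alternatingGroup (Fin 4)) := by
  haveI : Fact (Nat.Prime 3) := ⟨Nat.prime_three⟩
  haveI := Fintype.ofFinite C
  obtain ⟨P⟩ : Nonempty (Sylow 3 C) := inferInstance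
  have hPc : ∀ Q : Sylow 3 C, Nat.card (Q : Subgroup C) = 3 := fun Q => by
    have := SmallSimple.card_sylow_eq_pow Q 1 4 (by rw [hC]; norm_num) (by norm_num)
    simpa using this
  have hn : Nat.card (Sylow 3 C) ∣ 4 := by
    have h1 : Nat.card (Sylow 3 C) ∣ (P : Subgroup C).index := Sylow.card_dvd_index P
    have h2 := (P : Subgroup C).card_mul_index
    rw [hPc P, hC] at h2
    rwa [show (P : Subgroup C).index = 4 by omega] at h1
  have hn4 : Nat.card (Sylow 3 C) = 4 := by
    have hmod := card_sylow_modEq_one 3 C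
    rw [Nat.ModEq] at hmod
    have := Nat.le_of_dvd (by norm_num) hn
    have : Nat.card (Sylow 3 C) ≠ 1 := by
      intro h1
      haveI : Subsingleton (Sylow 3 C) := (Nat.card_eq_one_iff_unique.1 h1).1
      haveI : (P : Subgroup C).Normal := P.normal_of_subsingleton
      obtain ⟨d, ⟨χ, rfl⟩, hd⟩ := h3
      have hab : ∀ a ∈ (P : Subgroup C), ∀ b ∈ (P : Subgroup C), a * b = b * a := fun a ha b hb =>
        (DefectOne.freeData_of_card_eq (hPc P)).mul_comm ha hb
      rw [Char.charDegree_eq_degree] at hd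
      have := hd.trans (Char.degree_dvd_index_of_comm (P : Subgroup C) hab χ)
      have h2 := (P : Subgroup C).card_mul_index
      rw [hPc P, hC] at h2
      omega
    have : Nat.card (Sylow 3 C) ≠ 0 := Nat.card_pos.ne'
    omega
  have hN : ∀ Q : Sylow 3 C, normalizer ((Q : Subgroup C) : Set C) = (Q : Subgroup C) := by
    intro Q
    refine (eq_of_le_of_card_ge le_normalizer ?_).symm
    have h := (normalizer ((Q : Subgroup C) : Set C)).card_mul_index
    rw [show (normalizer ((Q : Subgroup C) : Set C)).index = 4 from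
      Q.card_eq_index_normalizer.symm.trans hn4, hC] at h
    rw [hPc Q]
    omega
  let φ := MulAction.toPermHom C (Sylow 3 C)
  have hφ : Function.Injective φ := by
    rw [injective_iff_map_eq_one]
    intro g hg
    by_contra hg1
    have hfix : ∀ Q : Sylow 3 C, g ∈ (Q : Subgroup C) := fun Q => by
      rw [← hN Q]
      exact Sylow.smul_eq_iff_mem_normalizer.1 (Equiv.ext_iff.1 hg Q)
    have hsub : ∀ Q : Sylow 3 C, (Q : Subgroup C) = zpowers g := fun Q => by
      refine (eq_of_le_of_card_ge (zpowers_le.2 (hfix Q)) ?_).symm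
      rw [hPc Q, Nat.card_zpowers]
      rcases (Nat.dvd_prime Nat.prime_three).1
        ((orderOf_dvd_natCard _ (hfix Q)).trans (dvd_of_eq (hPc Q))) with h | h
      · exact absurd (orderOf_eq_one_iff.1 h) hg1
      · exact h.ge
    haveI : Subsingleton (Sylow 3 C) := ⟨fun Q Q' => Sylow.ext ((hsub Q).trans (hsub Q').symm)⟩
    rw [Nat.card_eq_one_iff_unique.2 ⟨inferInstance, inferInstance⟩] at hn4
    omega
  haveI := Fintype.ofFinite (Sylow 3 C)
  let e : Sylow 3 C ≃ Fin 4 := Fintype.equivFinOfCardEq (by rw [← Nat.card_eq_fintype_card, hn4])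
  let ψ : C →* Equiv.Perm (Fin 4) := e.permCongrHom.toMonoidHom.comp φ
  have hψ : Function.Injective ψ := e.permCongrHom.injective.comp hφ
  have hidx : ψ.range.index = 2 := by
    have h := ψ.range.card_mul_index
    rw [← Nat.card_congr (MonoidHom.ofInjective hψ).toEquiv, hC, Nat.card_perm, Nat.card_fin] at h
    norm_num [Nat.factorial] at h
    omega
  exact ⟨(MonoidHom.ofInjective hψ).trans
    (MulEquiv.subgroupCongr (Equiv.Perm.eq_alternatingGroup_of_index_eq_two hidx))⟩

/-- The degrees of a simple group of order 7920. -/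
theorem degree_mem_7920 {S : Type u} [Group S] [Finite S] [IsSimpleGroup S]
    (hS : Nat.card S = 7920) {φ : S → ℂ} (hφ : IsIrrCharacter S φ) :
    charDegree φ ∈ ([1, 10, 11, 16, 44, 45, 55] : List ℕ) := by
  haveI := Fintype.ofFinite S
  have h := (S4429.result hS).2 (charDegree φ)
  have hpos : 0 < Nat.card {χ : IrrCharacter S // charDegree (χ : S → ℂ) = charDegree φ} :=
    Nat.card_pos_iff.2 ⟨⟨⟨⟨φ, hφ⟩, rfl⟩⟩, inferInstance⟩
  simp only [List.mem_cons, List.not_mem_nil, or_false]
  by_contra hc
  rw [if_neg (by omega), if_neg (by omega), if_neg (by omega)] at h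
  omega

/-- The kernel of a perfect central extension of a simple group of order 7920 is trivial. -/
theorem ker_eq_bot_of_7920 {H : Type u} [Group H] [Finite H] {S : Type u} [Group S] [Finite S]
    [IsSimpleGroup S] (hS : Nat.card S = 7920) (σ : H →* S) (hσ : Function.Surjective σ)
    (hz : σ.ker ≤ center H) (hperf : _root_.commutator H = ⊤) : σ.ker = ⊥ := by
  obtain ⟨e⟩ := Order7920.nonempty_mulEquiv_M11 hS
  let H' := Shrink.{0} H
  let τ : H' ≃* H := Shrink.mulEquiv.{0}
  let σ' : H' →* Spor.M11 := (e.toMonoidHom.comp σ).comp τ.toMonoidHom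
  have hker : ∀ w, w ∈ σ'.ker ↔ τ w ∈ σ.ker := fun w => by
    rw [MonoidHom.mem_ker, MonoidHom.mem_ker]
    exact map_eq_one_iff e e.injective
  have hst : IsStemExtension σ' := by
    refine ⟨(e.surjective.comp hσ).comp τ.surjective, fun w hw => ?_, ?_⟩
    · refine mem_center_iff.2 fun v => τ.injective ?_
      rw [map_mul, map_mul]
      exact mem_center_iff.1 (hz ((hker w).1 hw)) (τ v)
    · have htop : _root_.commutator H' = ⊤ := by
        refine map_injective (f := τ.toMonoidHom) τ.injective ?_
        rw [_root_.commutator_def, map_commutator, map_top_of_surjective _ τ.surjective,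
          ← _root_.commutator_def, hperf]
      rw [htop]; exact le_top
  obtain ⟨π, hπ⟩ := (S2034.result).2 H' σ' hst
  refine eq_bot_iff.2 fun z hz' => ?_
  have h1 : (⟨τ.symm z, (hker _).2 (by simpa using hz')⟩ : σ'.ker) = 1 := by
    obtain ⟨a, ha⟩ := hπ ⟨τ.symm z, (hker _).2 (by simpa using hz')⟩
    rw [← ha, Subsingleton.elim a 1, map_one]
  have h2 : τ.symm z = 1 := congrArg Subtype.val h1
  simpa using h2

/-- Every automorphism of a simple group of order 7920 is inner. -/
theorem exists_conj_eq_7920 {S : Type u} [Group S] [Finite S] [IsSimpleGroup S]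
    (hS : Nat.card S = 7920) (α : MulAut S) : ∃ h : S, ∀ x, α x = h * x * h⁻¹ := by
  obtain ⟨e⟩ := Order7920.nonempty_mulEquiv_M11 hS
  have hInn : Inn Spor.M11 = ⊤ := index_eq_one.1 (by rw [index_eq_card]; exact S2060.result)
  obtain ⟨h, hh⟩ : (e.symm.trans (α.trans e) : MulAut Spor.M11) ∈ Inn Spor.M11 :=
    hInn ▸ mem_top _
  refine ⟨e.symm h, fun x => e.injective ?_⟩
  have := congrArg (fun f : MulAut Spor.M11 => f (e x)) hh
  simp only [MulAut.conj_apply] at this
  simp only [map_mul, map_inv, MulEquiv.apply_symm_apply]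
  rw [this]
  simp

/-- The group is simple or `A₄ × M₁₁`. -/
theorem isSimpleGroup_or_prod (hG : Nat.card G = 95040) (h55 : ∃ d ∈ charDegrees G, 55 ∣ d)
    (h33 : ∃ d ∈ charDegrees G, 33 ∣ d) :
    IsSimpleGroup G ∨ Nonempty (G ≃* alternatingGroup (Fin 4) × Spor.M11) := by
  haveI := Fintype.ofFinite G
  obtain ⟨d, ⟨χ, rfl⟩, hd⟩ := h55
  rw [Char.charDegree_eq_degree] at hd
  have hab : ∀ A : Subgroup G, A.Normal → (∀ a ∈ A, ∀ b ∈ A, a * b = b * a) →
      ¬ 11 ∣ Nat.card A := by
    intro A hA hcomm h11
    haveI := hA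
    have h := Nat.mul_dvd_mul h11
      (((show 11 ∣ 55 by norm_num).trans hd).trans (Char.degree_dvd_index_of_comm A hcomm χ))
    rw [A.card_mul_index, hG] at h
    norm_num at h
  set K := pPrimeCore 11 G with hKdef
  have hHC := elevenGen_le_centralizer hG
  set H := elevenGen G with hH
  set Z := pPrimeCore 11 H with hZdef
  have hZeq : Z = K.subgroupOf H := PCore.pPrimeCore_normal_subgroup_eq H
  have hZc : Z ≤ center H := by
    intro z hz
    rw [hZeq, mem_subgroupOf] at hz
    exact mem_center_iff.2 fun v => Subtype.ext (mem_centralizer_iff.1 (hHC v.2) z hz).symm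
  obtain ⟨x₀, hx₀⟩ := exists_prime_orderOf_dvd_card' (G := G) 11 (by rw [hG]; norm_num)
  have hx₀H : x₀ ∈ H := subset_closure hx₀
  have h11H : 11 ∣ Nat.card H := by
    rw [← hx₀]; exact H.orderOf_dvd_natCard hx₀H
  have hHd : Nat.card H ∣ 95040 := hG ▸ H.card_subgroup_dvd_card
  -- a normal subgroup of `H` of order divisible by 11 is `H`
  have hfull : ∀ A : Subgroup H, A.Normal → 11 ∣ Nat.card A → A = ⊤ := by
    intro A hA hdA
    haveI := hA
    have hidx : ¬ 11 ∣ A.index := fun hi => by
      have h := Nat.mul_dvd_mul hdA hi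
      rw [A.card_mul_index] at h
      exact absurd (h.trans hHd) (by norm_num)
    have hle : H ≤ A.map H.subtype := by
      refine (closure_le _).2 fun z hz => ?_
      exact ⟨⟨z, subset_closure hz⟩, mem_of_index hidx ((Subgroup.orderOf_coe _).symm.trans hz), rfl⟩
    refine eq_top_iff.2 fun w _ => ?_
    obtain ⟨a, ha, hae⟩ := hle w.2
    exact (Subtype.ext hae : a = w) ▸ ha
  have hZ11 : ¬ 11 ∣ Nat.card Z := fun h => by
    have := Nat.eq_one_of_dvd_coprimes (PCore.coprime_card_pPrimeCore (p := 11) (G := H)) h dvd_rfl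
    omega
  have hS11 : 11 ∣ Nat.card (H ⧸ Z) := by
    rw [Z.card_eq_card_quotient_mul_card_subgroup] at h11H
    exact ((Nat.Prime.dvd_mul (by norm_num)).1 h11H).resolve_right hZ11
  have hSd : Nat.card (H ⧸ Z) ∣ 95040 := (Z.card_quotient_dvd_card).trans hHd
  haveI : Nontrivial (H ⧸ Z) := Finite.one_lt_card_iff_nontrivial.1
    (lt_of_lt_of_le (by norm_num) (Nat.le_of_dvd Nat.card_pos hS11))
  haveI hsimp : IsSimpleGroup (H ⧸ Z) := by
    refine ⟨fun A hA => ?_⟩
    haveI := hA
    by_cases hd11 : 11 ∣ Nat.card (A.comap (QuotientGroup.mk' Z))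
    · refine Or.inr (comap_injective (QuotientGroup.mk'_surjective Z) ?_)
      rw [hfull _ inferInstance hd11, comap_top]
    · refine Or.inl (comap_injective (QuotientGroup.mk'_surjective Z) ?_)
      rw [MonoidHom.comap_bot, QuotientGroup.ker_mk']
      refine le_antisymm (PCore.le_pPrimeCore
        (((Nat.Prime.coprime_iff_not_dvd (by norm_num)).2 hd11).symm)) fun z hz => ?_
      rw [mem_comap, QuotientGroup.mk'_apply, (QuotientGroup.eq_one_iff z).2 hz]
      exact one_mem A
  have hna : ¬ IsMulCommutative (H ⧸ Z) := by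
    intro hc
    haveI := hc
    letI : CommGroup (H ⧸ Z) :=
      { (inferInstance : Group (H ⧸ Z)) with mul_comm := hc.is_comm.comm }
    haveI : IsCyclic (H ⧸ Z) := IsSimpleGroup.isCyclic
    refine hab H inferInstance (fun a ha b hb => ?_) h11H
    exact congrArg Subtype.val (commutative_of_cyclic_center_quotient (QuotientGroup.mk' Z)
      (by rw [QuotientGroup.ker_mk']; exact hZc) (⟨a, ha⟩ : H) ⟨b, hb⟩)
  have hperf : _root_.commutator H = ⊤ := by
    refine hfull _ inferInstance ?_
    by_contra h11
    have hle : _root_.commutator H ≤ Z :=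
      PCore.le_pPrimeCore ((Nat.Prime.coprime_iff_not_dvd (by norm_num)).2 h11).symm
    refine hna (isMulCommutative_iff.2 fun a b => ?_)
    obtain ⟨a, rfl⟩ := QuotientGroup.mk'_surjective Z a
    obtain ⟨b, rfl⟩ := QuotientGroup.mk'_surjective Z b
    rw [← commutatorElement_eq_one_iff_mul_comm, ← map_commutatorElement, QuotientGroup.mk'_apply,
      QuotientGroup.eq_one_iff]
    exact hle (commutator_mem_commutator (mem_top a) (mem_top b))
  haveI := Fintype.ofFinite (H ⧸ Z)
  have hcardH := Z.card_eq_card_quotient_mul_card_subgroup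
  rcases card_of_simple_dvd hna hSd hS11 with h | h | h
  · -- 660
    exfalso
    haveI := Fintype.ofFinite H
    obtain ⟨θ, hθ⟩ := Char.exists_constituent H χ
    obtain ⟨hdv, hq⟩ := S0887.result H χ.1 χ.2 θ.1 θ.2 hθ _ _ (Char.apply_one_eq_degree χ)
      (Char.apply_one_eq_degree θ)
    obtain ⟨k, hk⟩ := hdv
    rw [hk, Nat.mul_div_cancel_left _ (Char.degree_pos θ)] at hq
    have hidx : H.index ∣ 144 := by
      have hi := H.card_mul_index
      rw [hG, hcardH, h, show (95040 : ℕ) = 660 * 144 by norm_num, mul_assoc] at hi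
      exact Dvd.intro_left _ (Nat.eq_of_mul_eq_mul_left (by norm_num) hi)
    have h55θ : 55 ∣ Char.degree θ := by
      have hco : Nat.Coprime 55 k :=
        (show Nat.Coprime 55 144 by norm_num).coprime_dvd_right (hq.trans hidx)
      exact hco.dvd_of_dvd_mul_right (hk ▸ hd)
    have hsq := OddOrder.degree_sq_le_index θ (center H) fun a ha b => by
      rw [show a * b * a⁻¹ * b⁻¹ = 1 by
        rw [← mem_center_iff.1 ha b, mul_inv_cancel_right, mul_inv_cancel]]
    have hci : (center H).index ≤ 660 := by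
      rw [← h, ← index_eq_card]
      exact index_antitone hZc
    rw [Char.charDegree_eq_degree] at hsq
    have h55le : 55 ≤ Char.degree θ := Nat.le_of_dvd (Char.degree_pos θ) h55θ
    nlinarith
  · -- 7920
    right
    have hZbot : Z = ⊥ := by
      rw [← QuotientGroup.ker_mk' Z]
      exact ker_eq_bot_of_7920 h _ (QuotientGroup.mk'_surjective Z)
        (by rw [QuotientGroup.ker_mk']; exact hZc) hperf
    have hH7920 : Nat.card H = 7920 := by
      rw [hcardH, hZbot, Subgroup.card_bot, mul_one, ← h, hZbot]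
    haveI : IsSimpleGroup H := by
      haveI : Nontrivial H := Finite.one_lt_card_iff_nontrivial.1 (by rw [hH7920]; norm_num)
      exact IsSimpleGroup.isSimpleGroup_of_surjective
        ((QuotientGroup.quotientMulEquivOfEq hZbot).trans QuotientGroup.quotientBot).toMonoidHom
        ((QuotientGroup.quotientMulEquivOfEq hZbot).trans QuotientGroup.quotientBot).surjective
    set C := centralizer (H : Set G) with hCdef
    haveI : C.Normal := by rw [hCdef]; infer_instance
    have hcenter : center H = ⊥ := by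
      rcases (inferInstance : (center H).Normal).eq_bot_or_eq_top with hb | ht
      · exact hb
      · exfalso
        refine hna (isMulCommutative_iff.2 fun a b => ?_)
        obtain ⟨a, rfl⟩ := QuotientGroup.mk'_surjective Z a
        obtain ⟨b, rfl⟩ := QuotientGroup.mk'_surjective Z b
        rw [← map_mul, ← map_mul, mem_center_iff.1 (ht ▸ mem_top b) a]
    have hdisj : Disjoint H C := by
      rw [disjoint_def]
      intro z hzH hzC
      have : (⟨z, hzH⟩ : H) ∈ center H := mem_center_iff.2 fun v =>
        Subtype.ext (mem_centralizer_iff.1 hzC v v.2)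
      rw [hcenter, mem_bot] at this
      exact congrArg Subtype.val this
    have hcomm : ∀ (c : C) (v : H), Commute (C.subtype c) (H.subtype v) := fun c v =>
      (mem_centralizer_iff.1 c.2 v v.2).symm
    let f : C × H →* G := MonoidHom.noncommCoprod C.subtype H.subtype hcomm
    have hfi : Function.Injective f := by
      rw [injective_iff_map_eq_one]
      rintro ⟨c, v⟩ hcv
      have hcv' : (c : G) * v = 1 := hcv
      have hv : (v : G) ∈ C := by
        rw [eq_inv_of_mul_eq_one_right hcv']
        exact inv_mem c.2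
      have hv1 : (v : G) = 1 := disjoint_def.1 hdisj v.2 hv
      rw [hv1, mul_one] at hcv'
      exact Prod.ext (Subtype.ext hcv') (Subtype.ext hv1)
    have hfs : Function.Surjective f := by
      intro g
      obtain ⟨v, hv⟩ := exists_conj_eq_7920 hH7920 (MulAut.conjNormal g)
      have hc : g * (v : G)⁻¹ ∈ C := mem_centralizer_iff.2 fun w hw => by
        have := congrArg Subtype.val (hv ⟨(v : G)⁻¹ * w * v,
          mul_mem (mul_mem (inv_mem v.2) hw) v.2⟩)
        simp only [MulAut.conjNormal_apply, Subgroup.coe_mul, InvMemClass.coe_inv] at this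
        calc w * (g * (v : G)⁻¹)
            = (v : G) * ((v : G)⁻¹ * w * v) * (v : G)⁻¹ * (g * (v : G)⁻¹) := by group
          _ = g * ((v : G)⁻¹ * w * v) * g⁻¹ * (g * (v : G)⁻¹) := by rw [this]
          _ = g * (v : G)⁻¹ * w := by group
      exact ⟨(⟨_, hc⟩, v), inv_mul_cancel_right g v⟩
    let e : C × H ≃* G := MulEquiv.ofBijective f ⟨hfi, hfs⟩
    have hC12 : Nat.card C = 12 := by
      have hc := Nat.card_congr e.toEquiv
      rw [Nat.card_prod, hH7920, hG] at hc
      omega
    haveI := Fintype.ofFinite C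
    haveI := Fintype.ofFinite H
    obtain ⟨dd, ⟨χ', rfl⟩, hdd⟩ := h33
    obtain ⟨φ, ψ, hφ, hψ, hprod⟩ :=
      Char.exists_eq_prod_mul (Char.IsIrrCharacter.comp_mulEquiv χ'.2 e)
    have hval := congrFun hprod 1
    simp only [map_one, Prod.fst_one, Prod.snd_one] at hval
    have hχ'1 : (χ' : G → ℂ) 1 = (charDegree (χ' : G → ℂ) : ℂ) := (Char.charDegree_cast χ').symm
    have hφ1 : φ 1 = (charDegree φ : ℂ) := (Char.charDegree_cast (⟨φ, hφ⟩ : IrrCharacter C)).symm
    have hψ1 : ψ 1 = (charDegree ψ : ℂ) := (Char.charDegree_cast (⟨ψ, hψ⟩ : IrrCharacter H)).symm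
    rw [hχ'1, hφ1, hψ1, ← Nat.cast_mul, Nat.cast_inj] at hval
    have h3 : 3 ∣ charDegree φ := by
      have h3' : 3 ∣ charDegree φ * charDegree ψ := hval ▸ (show 3 ∣ 33 by norm_num).trans hdd
      rcases (Nat.Prime.dvd_mul Nat.prime_three).1 h3' with h3φ | h3ψ
      · exact h3φ
      · exfalso
        have h11 : 11 ∣ charDegree φ * charDegree ψ := hval ▸ (show 11 ∣ 33 by norm_num).trans hdd
        have hφd : charDegree φ ∣ 12 := hC12 ▸ Char.charDegree_dvd_card (⟨φ, hφ⟩ : IrrCharacter C)
        have h11ψ : 11 ∣ charDegree ψ :=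
          ((show Nat.Coprime 11 12 by norm_num).coprime_dvd_right hφd).dvd_of_dvd_mul_left h11
        have hl := degree_mem_7920 hH7920 hψ
        simp only [List.mem_cons, List.not_mem_nil, or_false] at hl
        omega
    obtain ⟨eC⟩ := nonempty_alternating_four hC12 ⟨_, ⟨⟨φ, hφ⟩, rfl⟩, h3⟩
    obtain ⟨eH⟩ := Order7920.nonempty_mulEquiv_M11 hH7920
    exact ⟨e.symm.trans (eC.prodCongr eH)⟩
  · -- 95040
    left
    have hHcard : Nat.card H = 95040 := by
      refine Nat.dvd_antisymm hHd ?_
      rw [← h]; exact Z.card_quotient_dvd_card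
    have hHtop : H = ⊤ := eq_top_of_card_eq H (by rw [hHcard, hG])
    have hZbot : Z = ⊥ := by
      rw [hHcard, h] at hcardH
      exact Subgroup.card_eq_one.1 (by omega)
    haveI : Nontrivial G :=
      Finite.one_lt_card_iff_nontrivial.1 (by rw [hG]; norm_num)
    let π : H ⧸ Z ≃* G :=
      ((QuotientGroup.quotientMulEquivOfEq hZbot).trans QuotientGroup.quotientBot).trans
        ((MulEquiv.subgroupCongr hHtop).trans topEquiv)
    exact IsSimpleGroup.isSimpleGroup_of_surjective π.toMonoidHom π.surjective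

/-- The edges `5 — 11` and `3 — 11` of the degree graph. -/
theorem graph_recognition_aux {G : Type u} [Group G] [Finite G] {M : Type*} [Group M] (h55 : ∃ d ∈ charDegrees M, 55 ∣ d)
    (h33 : ∃ d ∈ charDegrees M, 33 ∣ d) (hΔ : degreeGraph G = degreeGraph M)
    (hG : Nat.card G = 95040) :
    IsSimpleGroup G ∨ Nonempty (G ≃* alternatingGroup (Fin 4) × Spor.M11) := by
  have h5 : (degreeGraph M).Adj 5 11 := ⟨by norm_num, by norm_num, by norm_num, h55⟩
  have h3 : (degreeGraph M).Adj 3 11 := ⟨by norm_num, by norm_num, by norm_num, h33⟩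
  rw [← hΔ] at h5 h3
  exact isSimpleGroup_or_prod hG h5.2.2.2 h3.2.2.2

end Cfsg.Agent.Order95040

namespace Cfsg.Agent.Order95040

/-- A group of order 95040 whose degree graph is that of a group with degrees divisible by 55 and
by 33 is simple or is `A₄ × M₁₁`. -/
theorem graph_recognition {G : Type*} [Group G] [Finite G] {M : Type*} [Group M]
    (h55 : ∃ d ∈ charDegrees M, 55 ∣ d) (h33 : ∃ d ∈ charDegrees M, 33 ∣ d)
    (hΔ : degreeGraph G = degreeGraph M) (hG : Nat.card G = 95040) :
    IsSimpleGroup G ∨ Nonempty (G ≃* alternatingGroup (Fin 4) × Spor.M11) :=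
  @graph_recognition_aux ⟨by norm_num⟩ G _ _ M _ h55 h33 hΔ hG

end Cfsg.Agent.Order95040
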