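import Cfsg.Agent.Lib.Order95040.Pres

/-!
# Two simple groups of order 95040 with such generators are isomorphic
-/

set_option autoImplicit false

namespace Cfsg.Agent.Order95040

variable {G H : Type*} [Group G] [Group H]

theorem Rel.prod {a b c d u h : G} (r : Rel a b c d u h) {a' b' c' d' u' h' : H}
    (r' : Rel a' b' c' d' u' h') : Rel (a, a') (b, b') (c, c') (d, d') (u, u') (h, h') where
  aa := Prod.ext r.aa r'.aa
  bb := Prod.ext r.bb r'.bb
  cc := Prod.ext r.cc r'.cc
  dd := Prod.ext r.dd r'.dd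
  uu := Prod.ext r.uu r'.uu
  ab := Prod.ext r.ab r'.ab
  bc := Prod.ext r.bc r'.bc
  cd := Prod.ext r.cd r'.cd
  ac := Prod.ext r.ac r'.ac
  ad := Prod.ext r.ad r'.ad
  bd := Prod.ext r.bd r'.bd
  ua := Prod.ext r.ua r'.ua
  ub := Prod.ext r.ub r'.ub
  uc := Prod.ext r.uc r'.uc
  ud := Prod.ext r.ud r'.ud
  hh := Prod.ext r.hh r'.hh
  hg := Prod.ext r.hg.eq r'.hg.eq
  hd := Prod.ext r.hd.eq r'.hd.eq
  hu := Prod.ext r.hu r'.hu
  ha := Prod.ext r.ha r'.ha
  hr := Prod.ext r.hr r'.hr

/-- A group too small to map onto both factors jointly has equal kernels. -/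
theorem ker_le {M X Y : Type*} [Group M] [Group X] [Group Y] [Finite M] [IsSimpleGroup Y]
    (hM : Nat.card M ≤ 1584 * 240) (f : M →* X) (g : M →* Y) (hf : Function.Surjective f)
    (hg : Function.Surjective g) (hX : Nat.card X = 95040) (hY : Nat.card Y = 95040) :
    f.ker ≤ g.ker := by
  by_contra hle
  have htop : f.ker.map g = ⊤ := ((MonoidHom.normal_ker f).map g hg).eq_bot_or_eq_top.resolve_left
    fun h => hle ((Subgroup.map_eq_bot_iff _).1 h)
  have h1 : Nat.card Y ≤ Nat.card f.ker := by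
    rw [← Subgroup.card_top (G := Y), ← htop]
    exact Nat.le_of_dvd Nat.card_pos (Subgroup.card_map_dvd _ g)
  have h2 := f.ker.index_mul_card
  rw [Subgroup.index_ker, MonoidHom.range_eq_top.2 hf, Subgroup.card_top, hX] at h2
  rw [hY] at h1
  have := Nat.mul_le_mul_left 95040 h1
  omega

theorem nonempty_mulEquiv_of_rel [Finite G] [Finite H] [IsSimpleGroup G] [IsSimpleGroup H]
    (hG : Nat.card G = 95040) (hH : Nat.card H = 95040) {a b c d u h : G} (r : Rel a b c d u h)
    (hgen : Subgroup.closure ({a, b, c, d, u, h⁻¹ * b * h, h * b * h⁻¹} : Set G) = ⊤)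
    {a' b' c' d' u' h' : H} (r' : Rel a' b' c' d' u' h')
    (hgen' : Subgroup.closure
      ({a', b', c', d', u', h'⁻¹ * b' * h', h' * b' * h'⁻¹} : Set H) = ⊤) :
    Nonempty (G ≃* H) := by
  set S : Set (G × H) := {(a, a'), (b, b'), (c, c'), (d, d'), (u, u'),
    (h, h')⁻¹ * (b, b') * (h, h'), (h, h') * (b, b') * (h, h')⁻¹} with hS
  set M := Subgroup.closure S
  have hM : Nat.card M ≤ 1584 * 240 := (r.prod r').card_closure_le
  have hfst : M.map (MonoidHom.fst G H) = ⊤ := by
    rw [MonoidHom.map_closure, ← hgen]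
    congr 1
    simp [hS, Set.image_insert_eq]
  have hsnd : M.map (MonoidHom.snd G H) = ⊤ := by
    rw [MonoidHom.map_closure, ← hgen']
    congr 1
    simp [hS, Set.image_insert_eq]
  let p : M →* G := (MonoidHom.fst G H).comp M.subtype
  let q : M →* H := (MonoidHom.snd G H).comp M.subtype
  have hp : Function.Surjective p := fun x => by
    obtain ⟨m, hm, e⟩ := (hfst ▸ Subgroup.mem_top x : x ∈ M.map (MonoidHom.fst G H))
    exact ⟨⟨m, hm⟩, e⟩
  have hq : Function.Surjective q := fun x => by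
    obtain ⟨m, hm, e⟩ := (hsnd ▸ Subgroup.mem_top x : x ∈ M.map (MonoidHom.snd G H))
    exact ⟨⟨m, hm⟩, e⟩
  have key : p.ker = q.ker := by
    by_contra hne
    rcases not_and_or.1 (fun e => hne (le_antisymm e.1 e.2) :
      ¬ (p.ker ≤ q.ker ∧ q.ker ≤ p.ker)) with h | h
    · exact h (ker_le hM p q hp hq hG hH)
    · exact h (ker_le hM q p hq hp hH hG)
  exact ⟨((QuotientGroup.quotientKerEquivOfSurjective p hp).symm.trans
    (QuotientGroup.quotientMulEquivOfEq key)).trans
    (QuotientGroup.quotientKerEquivOfSurjective q hq)⟩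

end Cfsg.Agent.Order95040
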