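import Cfsg.Agent.Lib.Order95040.Facts

/-!
# The centralizer of a big involution is `⟨u⟩ × S₅`
-/

set_option autoImplicit false
set_option linter.style.haveILetI false

namespace Cfsg.Agent.Order95040

open Subgroup Equiv

/-- A subgroup of order 120 of `S₆` is isomorphic to `S₅`. -/
theorem nonempty_equiv_perm_five {R : Subgroup (Perm (Fin 6))} (hR : Nat.card R = 120) :
    Nonempty (↥R ≃* Perm (Fin 5)) := by
  classical
  have h720 : Nat.card (Perm (Fin 6)) = 720 := by
    rw [Nat.card_perm, Nat.card_fin]; rfl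
  have hidx : R.index = 6 := by
    have := R.index_mul_card
    rw [hR, h720] at this
    omega
  set Q := Perm (Fin 6) ⧸ R
  set b : Q := ((1 : Perm (Fin 6)) : Q)
  let Φ : Perm (Fin 6) →* Perm Q := MulAction.toPermHom _ _
  have hcore : R.normalCore = ⊥ := by
    by_contra hne
    have hA : alternatingGroup (Fin 6) ≤ R :=
      (Equiv.Perm.alternatingGroup_le_of_normal (by simp)
        ((Subgroup.nontrivial_iff_ne_bot _).2 hne)).trans (Subgroup.normalCore_le _)
    have h := Subgroup.card_dvd_of_le hA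
    rw [hR, nat_card_alternatingGroup, Nat.card_fin] at h
    norm_num [Nat.factorial] at h
  have hinj : Function.Injective Φ := by
    rw [← MonoidHom.ker_eq_bot_iff, ← Subgroup.normalCore_eq_ker]
    exact hcore
  have hfix : ∀ r : ↥R, Φ r b = b := fun r => by
    show (r : Perm (Fin 6)) • b = b
    rw [MulAction.Quotient.smul_coe, smul_eq_mul, mul_one]
    exact QuotientGroup.eq.2 (by simp)
  have hiff : ∀ (r : ↥R) (x : Q), Φ r x ≠ b ↔ x ≠ b := fun r x =>
    not_congr ⟨fun h => (Φ r).injective (h.trans (hfix r).symm), fun h => h ▸ hfix r⟩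
  let ρ : ↥R →* Perm {x : Q // x ≠ b} :=
    { toFun := fun r => (Φ r).subtypePerm (hiff r)
      map_one' := by
        ext x
        simp [map_one]
      map_mul' := fun r r' => Equiv.ext fun x => Subtype.ext (by
        show Φ ((r * r' : ↥R) : Perm (Fin 6)) x = Φ r (Φ r' x)
        rw [Subgroup.coe_mul, map_mul]
        rfl) }
  have hρ : Function.Injective ρ := fun r r' h => by
    refine Subtype.ext (hinj (Equiv.ext fun x => ?_))
    by_cases hx : x = b
    · rw [hx, hfix, hfix]
    · exact congrArg Subtype.val (Equiv.congr_fun h ⟨x, hx⟩)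
  have hQ : Nat.card {x : Q // x ≠ b} = 5 := by
    haveI : Fintype Q := Fintype.ofFinite _
    have h6 : Fintype.card Q = 6 := by rw [← Nat.card_eq_fintype_card]; exact hidx
    rw [Nat.card_eq_fintype_card, Fintype.card_subtype_compl, h6, Fintype.card_subtype_eq]
  let e : {x : Q // x ≠ b} ≃ Fin 5 := Finite.equivFinOfCardEq hQ
  have hbij : Function.Bijective ρ := by
    haveI : Finite (Perm {x : Q // x ≠ b}) := inferInstance
    refine (Nat.bijective_iff_injective_and_card _).2 ⟨hρ, ?_⟩
    rw [hR, Nat.card_perm, hQ]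
    rfl
  exact ⟨(MulEquiv.ofBijective ρ hbij).trans e.permCongrHom⟩

theorem closure_swaps_five : Subgroup.closure ({swap 0 1, swap 1 2, swap 2 3, swap 3 4} : Set (Perm (Fin 5))) = ⊤ := by
  refine top_le_iff.1 fun σ _ => ?_
  have h : σ ∈ Submonoid.closure (Set.range fun i : Fin 4 => swap i.castSucc i.succ) := by
    rw [Equiv.Perm.mclosure_swap_castSucc_succ]; trivial
  refine (Submonoid.closure_le (S := (Subgroup.closure _).toSubmonoid)).2 ?_ h
  rintro _ ⟨i, rfl⟩
  refine Subgroup.subset_closure ?_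
  fin_cases i <;> simp

variable {G : Type*} [Group G]

theorem mem_cent_comm {z g : G} (h : g ∈ cent z) : Commute g z :=
  Subgroup.mem_centralizer_singleton_iff.1 h

variable [Finite G] (F : Facts G)
include F

/-- The only involution centralizing an element of order five of `C(u)` is `u`. -/
theorem eq_or_eq_of_mem_cent_five {u y k : G} (hu : orderOf u = 2) (hy : orderOf y = 5)
    (hyu : Commute y u) (hk : k ∈ cent y) (hk2 : k * k = 1) : k = 1 ∨ k = u := by
  have hg : orderOf (y * u) = 10 := by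
    rw [hyu.orderOf_mul_eq_mul_orderOf_of_coprime (by rw [hu, hy]; decide), hy, hu]
  have hmem : y * u ∈ cent y :=
    Subgroup.mem_centralizer_singleton_iff.2 ((Commute.refl y).mul_left hyu.symm)
  have heq : zpowers (y * u) = cent y :=
    eq_of_le_of_card_ge (zpowers_le.2 hmem) (by rw [Nat.card_zpowers, hg, (F.five y hy).1])
  rw [← heq, ← mem_powers_iff_mem_zpowers, Submonoid.mem_powers_iff] at hk
  obtain ⟨n, rfl⟩ := hk
  rw [← pow_add] at hk2
  have h10 := orderOf_dvd_of_pow_eq_one hk2
  rw [hg] at h10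
  obtain ⟨m, rfl⟩ : 5 ∣ n := by omega
  have h5 : (y * u) ^ 5 = u := by
    have hu2 : u * u = 1 := by
      rw [← pow_two, ← hu, pow_orderOf_eq_one]
    rw [hyu.mul_pow, ← hy, pow_orderOf_eq_one, one_mul, hy]
    simp [pow_succ, hu2]
  rw [pow_mul, h5]
  rcases Nat.even_or_odd m with ⟨l, rfl⟩ | ⟨l, rfl⟩
  · left
    rw [← two_mul, pow_mul, ← hu, pow_orderOf_eq_one, one_pow]
  · right
    rw [pow_succ, pow_mul, ← hu, pow_orderOf_eq_one, one_pow, one_mul]

/-- The normalizer of a subgroup of order five of `C(u)` centralizes `u`. -/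
theorem normalizer_five_le {u y : G} (hu : orderOf u = 2) (hy : orderOf y = 5) (hyu : Commute y u) :
    normalizer (zpowers y : Set G) ≤ cent u := by
  intro n hn
  have hmem : n⁻¹ * u * n ∈ cent y := by
    refine Subgroup.mem_centralizer_singleton_iff.2 ?_
    obtain ⟨i, hi⟩ := mem_zpowers_iff.1 ((mem_normalizer_iff.1 hn y).1 (mem_zpowers y))
    have h1 : Commute (n * y * n⁻¹) u := hi ▸ hyu.zpow_left i
    have h2 := h1.map (MulAut.conj n⁻¹).toMonoidHom
    simp [mul_assoc] at h2
    show n⁻¹ * u * n * y = y * (n⁻¹ * u * n)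
    simpa [mul_assoc] using h2.eq.symm
  have hu2 : u * u = 1 := by rw [← pow_two, ← hu, pow_orderOf_eq_one]
  rcases eq_or_eq_of_mem_cent_five F hu hy hyu hmem (by
    rw [show n⁻¹ * u * n * (n⁻¹ * u * n) = n⁻¹ * (u * u) * n by group, hu2]; group) with h | h
  · exfalso
    have hu1 : u = 1 := by
      calc u = n * (n⁻¹ * u * n) * n⁻¹ := by group
        _ = 1 := by rw [h]; group
    rw [hu1, orderOf_one] at hu
    omega
  · refine Subgroup.mem_centralizer_singleton_iff.2 ?_
    calc n * u = n * (n⁻¹ * u * n) := by rw [h]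
      _ = u * n := by group

/-- `C(u)` modulo `⟨u⟩` is `S₅`. -/
theorem exists_hom_five {u : G} (hu : orderOf u = 2) (hcu : Nat.card (cent u) = 240) :
    ∃ φ : ↥(cent u) →* Perm (Fin 5), Function.Surjective φ ∧
      φ.ker = (zpowers u).subgroupOf (cent u) := by
  classical
  haveI : Fact (Nat.Prime 5) := ⟨by norm_num⟩
  set X := cent u
  obtain ⟨y, hy⟩ := exists_prime_orderOf_dvd_card' (G := X) 5 (by rw [hcu]; norm_num)
  have hyG : orderOf (y : G) = 5 := by rw [Subgroup.orderOf_coe, hy]
  have hyu : Commute (y : G) u := mem_cent_comm y.2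
  have hcardP : ∀ Q : Sylow 5 ↥X, Nat.card (Q : Subgroup ↥X) = 5 := fun Q => by
    rw [Q.card_eq_multiplicity, hcu]
    have h : (240 : ℕ).factorization 5 = 1 := by
      rw [show (240 : ℕ) = 48 * 5 ^ 1 by norm_num, Nat.factorization_mul (by norm_num) (by norm_num),
        Finsupp.add_apply, Nat.factorization_eq_zero_of_not_dvd (by norm_num : ¬ 5 ∣ 48),
        Nat.Prime.factorization_pow (by norm_num)]
      simp
    rw [h, pow_one]
  obtain ⟨P, hP⟩ := (IsPGroup.of_card (n := 1) (G := zpowers y)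
    (by rw [Nat.card_zpowers, hy, pow_one])).exists_le_sylow
  have hPy : (P : Subgroup ↥X) = zpowers y :=
    (eq_of_le_of_card_ge hP (by rw [hcardP, Nat.card_zpowers, hy])).symm
  have hn6 : Nat.card (Sylow 5 ↥X) = 6 := by
    rw [Sylow.card_eq_index_normalizer P]
    have hN : Nat.card ↥(normalizer ((P : Subgroup ↥X) : Set ↥X)) = 40 := by
      rw [← (F.five (y : G) hyG).2]
      have hle := normalizer_five_le F hu hyG hyu
      rw [← Nat.card_congr (subgroupOfEquivOfLe hle).toEquiv]
      congr 2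
      rw [hPy]
      ext n
      rw [mem_subgroupOf, mem_normalizer_iff, mem_normalizer_iff]
      have hz : ∀ w : ↥X, w ∈ zpowers y ↔ (w : G) ∈ zpowers (y : G) := fun w => by
        rw [mem_zpowers_iff, mem_zpowers_iff]
        exact ⟨fun ⟨i, hi⟩ => ⟨i, by rw [← hi]; simp⟩, fun ⟨i, hi⟩ => ⟨i, Subtype.ext (by simpa using hi)⟩⟩
      constructor
      · intro h w
        have hyX : zpowers (y : G) ≤ X := zpowers_le.2 y.2
        constructor
        · exact fun hw => (hz (n * ⟨w, hyX hw⟩ * n⁻¹)).1 ((h ⟨w, hyX hw⟩).1 ((hz _).2 hw))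
        · intro hw
          have hwX : w ∈ X := by
            have := mul_mem (mul_mem (X.inv_mem n.2) (hyX hw)) n.2
            simpa [mul_assoc] using this
          exact (hz ⟨w, hwX⟩).1 ((h ⟨w, hwX⟩).2 ((hz _).2 hw))
      · intro h w
        rw [hz, hz]
        exact h w
    have := (normalizer ((P : Subgroup ↥X) : Set ↥X)).index_mul_card
    rw [hN, hcu] at this
    show (normalizer ((P : Subgroup ↥X) : Set ↥X)).index = 6
    omega
  let e6 : Sylow 5 ↥X ≃ Fin 6 := Finite.equivFinOfCardEq hn6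
  let Φ : ↥X →* Perm (Fin 6) := e6.permCongrHom.toMonoidHom.comp (MulAction.toPermHom ↥X (Sylow 5 ↥X))
  have hker : ∀ k : ↥X, k ∈ Φ.ker ↔ ∀ Q : Sylow 5 ↥X, k • Q = Q := fun k => by
    rw [MonoidHom.mem_ker]
    show e6.permCongrHom (MulAction.toPermHom ↥X (Sylow 5 ↥X) k) = 1 ↔ _
    rw [MulEquiv.map_eq_one_iff]
    exact ⟨fun h Q => Equiv.congr_fun h Q, fun h => Equiv.ext h⟩
  have huX : u ∈ X := Subgroup.mem_centralizer_singleton_iff.2 rfl
  have hyK : y ∉ Φ.ker := by
    intro hyK
    have hall : ∀ Q : Sylow 5 ↥X, Q = P := fun Q => by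
      have hyQ : y ∈ normalizer ((Q : Subgroup ↥X) : Set ↥X) :=
        Sylow.smul_eq_iff_mem_normalizer.1 ((hker y).1 hyK Q)
      have hle : zpowers y ≤ normalizer ((Q : Subgroup ↥X) : Set ↥X) := zpowers_le.2 hyQ
      have hp : IsPGroup 5 ↥(zpowers y ⊔ (Q : Subgroup ↥X)) :=
        IsPGroup.to_sup_of_normal_right' (IsPGroup.of_card (n := 1) (by rw [Nat.card_zpowers, hy, pow_one]))
          Q.2 hle
      have hQ : zpowers y ⊔ (Q : Subgroup ↥X) = Q := Q.is_maximal' hp le_sup_right
      refine Sylow.ext ?_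
      rw [hPy]
      exact (eq_of_le_of_card_ge (le_sup_left.trans hQ.le) (by rw [hcardP, Nat.card_zpowers, hy])).symm
    haveI : Subsingleton (Sylow 5 ↥X) := ⟨fun A B => (hall A).trans (hall B).symm⟩
    have : Nat.card (Sylow 5 ↥X) ≤ 1 := Finite.card_le_one_iff_subsingleton.2 inferInstance
    omega
  have hK : Φ.ker = (zpowers u).subgroupOf X := by
    refine le_antisymm (fun k hk => ?_) ?_
    · rw [mem_subgroupOf]
      have hkN : k ∈ normalizer ((P : Subgroup ↥X) : Set ↥X) :=
        Sylow.smul_eq_iff_mem_normalizer.1 ((hker k).1 hk P)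
      have hcP : k * y * k⁻¹ * y⁻¹ ∈ (P : Subgroup ↥X) := by
        rw [hPy]
        refine mul_mem ?_ (inv_mem (mem_zpowers y))
        rw [hPy] at hkN
        exact (mem_normalizer_iff.1 hkN y).1 (mem_zpowers y)
      have hcK : k * y * k⁻¹ * y⁻¹ ∈ Φ.ker := by
        rw [show k * y * k⁻¹ * y⁻¹ = k * (y * k⁻¹ * y⁻¹) by group]
        exact mul_mem hk ((MonoidHom.normal_ker Φ).conj_mem _ (inv_mem hk) y)
      have hy5 : ∀ z : ↥X, z ∈ zpowers y → z ∈ Φ.ker → z = 1 := fun z hz hzK => by
        by_contra hne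
        refine hyK (zpowers_le.2 hzK ?_)
        have hzz : zpowers z = zpowers y := by
          refine eq_of_le_of_card_ge (zpowers_le.2 hz) ?_
          rw [Nat.card_zpowers, Nat.card_zpowers, hy]
          have := orderOf_dvd_of_mem_zpowers hz
          rw [hy] at this
          rcases (Nat.dvd_prime (by norm_num : Nat.Prime 5)).1 this with h | h
          · exact absurd (orderOf_eq_one_iff.1 h) hne
          · omega
        rw [hzz]
        exact mem_zpowers y
      have hc : k * y = y * k := by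
        have := hy5 _ (hPy ▸ hcP) hcK
        rwa [mul_inv_eq_one, mul_inv_eq_iff_eq_mul] at this
      have hkc : (k : G) ∈ cent (y : G) :=
        Subgroup.mem_centralizer_singleton_iff.2 (congrArg Subtype.val hc)
      have hk10 : orderOf (k : G) ∣ 10 := by
        rw [← (F.five (y : G) hyG).1]
        exact Subgroup.orderOf_dvd_natCard _ hkc
      have hk2 : k * k = 1 := by
        refine hy5 _ ?_ (mul_mem hk hk)
        have h5 : (k * k) ^ 5 = 1 := by
          rw [← pow_two, ← pow_mul]
          exact orderOf_dvd_iff_pow_eq_one.1 (by rwa [Subgroup.orderOf_coe] at hk10)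
        have hp : IsPGroup 5 ↥(zpowers (k * k)) := by
          intro z
          refine ⟨1, ?_⟩
          obtain ⟨i, hi⟩ := mem_zpowers_iff.1 z.2
          apply Subtype.ext
          rw [SubmonoidClass.coe_pow, ← hi, pow_one, ← zpow_natCast, ← zpow_mul, mul_comm, zpow_mul,
            zpow_natCast, h5, one_zpow]
          rfl
        have hle : zpowers (k * k) ≤ normalizer ((P : Subgroup ↥X) : Set ↥X) :=
          zpowers_le.2 (mul_mem hkN hkN)
        have hQ := P.is_maximal' (IsPGroup.to_sup_of_normal_right' hp P.2 hle) le_sup_right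
        rw [← hPy, ← hQ]
        exact mem_sup_left (mem_zpowers _)
      rcases eq_or_eq_of_mem_cent_five F hu hyG hyu hkc (congrArg Subtype.val hk2) with h | h
      · rw [h]; exact one_mem _
      · rw [h]; exact mem_zpowers u
    · intro k hk
      rw [mem_subgroupOf] at hk
      obtain ⟨i, hi⟩ := mem_zpowers_iff.1 hk
      refine (hker k).2 fun Q => ?_
      refine Sylow.smul_eq_iff_mem_normalizer.2 (mem_normalizer_iff.2 fun w => ?_)
      have hkw : k * w * k⁻¹ = w := by
        rw [mul_inv_eq_iff_eq_mul]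
        refine Subtype.ext ?_
        show (k : G) * w = w * k
        rw [← hi]
        exact ((mem_cent_comm w.2).symm.zpow_left i).eq
      rw [hkw]
  have hrange : Nat.card Φ.range = 120 := by
    have h1 : Nat.card ↥Φ.ker = 2 := by
      rw [hK, Nat.card_congr (subgroupOfEquivOfLe (zpowers_le.2 huX)).toEquiv, Nat.card_zpowers, hu]
    have h2 := Φ.ker.index_mul_card
    rw [Subgroup.index_ker, h1, hcu] at h2
    omega
  obtain ⟨e5⟩ := nonempty_equiv_perm_five hrange
  refine ⟨e5.toMonoidHom.comp Φ.rangeRestrict, e5.surjective.comp Φ.rangeRestrict_surjective, ?_⟩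
  rw [← hK]
  ext k
  rw [MonoidHom.mem_ker, MonoidHom.mem_ker]
  show e5 (Φ.rangeRestrict k) = 1 ↔ _
  rw [MulEquiv.map_eq_one_iff]
  exact ⟨fun h => congrArg Subtype.val h, fun h => Subtype.ext h⟩

/-- Coxeter generators of `C(u)`. -/
theorem exists_local : ∃ a b c d u : G, Local a b c d u := by
  obtain ⟨u, hu, hcu⟩ := F.exists_big
  obtain ⟨φ, hs, hk⟩ := exists_hom_five F hu hcu
  have huX : u ∈ cent u := Subgroup.mem_centralizer_singleton_iff.2 rfl
  have hu2 : u * u = 1 := by rw [← pow_two, ← hu, pow_orderOf_eq_one]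
  have hker : ∀ z : ↥(cent u), φ z = 1 → (z : G) = 1 ∨ (z : G) = u := fun z hz => by
    have hz' : z ∈ (zpowers u).subgroupOf (cent u) := hk ▸ hz
    rw [mem_subgroupOf, ← mem_powers_iff_mem_zpowers, Submonoid.mem_powers_iff] at hz'
    obtain ⟨n, hn⟩ := hz'
    rcases Nat.even_or_odd n with ⟨l, rfl⟩ | ⟨l, rfl⟩
    · exact Or.inl (by rw [← hn, ← two_mul, pow_mul, pow_two, hu2, one_pow])
    · exact Or.inr (by rw [← hn, pow_succ, pow_mul, pow_two, hu2, one_pow, one_mul])
  have hφu : φ ⟨u, huX⟩ = 1 := by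
    rw [← MonoidHom.mem_ker, hk, mem_subgroupOf]
    exact mem_zpowers u
  have sq : ∀ z : ↥(cent u), φ z * φ z = 1 → (z : G) * z = 1 := fun z hz => by
    rcases hker (z * z) (by rw [map_mul, hz]) with h | h
    · exact h
    · exfalso
      have h' : (z : G) * z = u := h
      have h4 : orderOf (z : G) = 2 ^ 2 := by
        refine orderOf_eq_prime_pow (fun e => ?_) ?_
        · rw [pow_one, pow_two, h'] at e
          rw [e, orderOf_one] at hu
          omega
        · rw [show 2 ^ (1 + 1) = 2 * 2 from rfl, pow_mul, pow_two (z : G), h', pow_two, hu2]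
      exact F.not_square _ h4 (by rw [h']; exact hcu)
  have inv : ∀ (z : ↥(cent u)) (i j : Fin 5), i ≠ j → φ z = swap i j → orderOf (z : G) = 2 := by
    intro z i j hij hz
    refine orderOf_eq_prime (by rw [pow_two]; exact sq z (by rw [hz, swap_mul_self])) fun h => ?_
    rw [show z = 1 from Subtype.ext h, map_one] at hz
    exact hij (by simpa using (Equiv.congr_fun hz i).trans (swap_apply_left i j))
  have next3 : ∀ (A : ↥(cent u)) (i j k : Fin 5), φ A = swap i j → (swap i j * swap j k) ^ 3 = 1 →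
      ∃ B : ↥(cent u), φ B = swap j k ∧ ((A : G) * B) ^ 3 = 1 := by
    intro A i j k hA h3
    obtain ⟨B, hB⟩ := hs (swap j k)
    rcases hker ((A * B) ^ 3) (by rw [map_pow, map_mul, hA, hB, h3]) with h | h
    · exact ⟨B, hB, h⟩
    · refine ⟨B * ⟨u, huX⟩, by rw [map_mul, hB, hφu, mul_one], ?_⟩
      have h' : ((A : G) * B) ^ 3 = u := h
      show ((A : G) * (B * u)) ^ 3 = 1
      rw [← mul_assoc, (mem_cent_comm (mul_mem A.2 B.2)).mul_pow, h']
      simp [pow_succ, hu2]
  obtain ⟨A, hA⟩ := hs (swap 0 1)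
  obtain ⟨B, hB, hab⟩ := next3 A 0 1 2 hA (by decide)
  obtain ⟨C, hC, hbc⟩ := next3 B 1 2 3 hB (by decide)
  obtain ⟨D, hD, hcd⟩ := next3 C 2 3 4 hC (by decide)
  have two : ∀ (X Y : ↥(cent u)) (σ : Perm (Fin 5)), φ X * φ Y = σ → σ * σ = 1 → ((X : G) * Y) ^ 2 = 1 := by
    intro X Y σ h1 h2
    rw [pow_two]
    exact sq (X * Y) (by rw [map_mul, h1, h2])
  refine ⟨A, B, C, D, u,
    { ou := hu
      oa := inv A 0 1 (by decide) hA
      ob := inv B 1 2 (by decide) hB
      oc := inv C 2 3 (by decide) hC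
      od := inv D 3 4 (by decide) hD
      cu := hcu
      ab := hab
      bc := hbc
      cd := hcd
      ac := two A C _ rfl (by rw [hA, hC]; decide)
      ad := two A D _ rfl (by rw [hA, hD]; decide)
      bd := two B D _ rfl (by rw [hB, hD]; decide)
      cent_eq := ?_
      iso := ⟨φ, hs, hk, fun z hz => by rw [show z = A from Subtype.ext hz, hA],
        fun z hz => by rw [show z = B from Subtype.ext hz, hB],
        fun z hz => by rw [show z = C from Subtype.ext hz, hC],
        fun z hz => by rw [show z = D from Subtype.ext hz, hD]⟩ }⟩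
  set K := Subgroup.closure ({(A : G), (B : G), (C : G), (D : G), u} : Set G)
  refine le_antisymm (fun x hx => ?_) ((Subgroup.closure_le _).2 ?_)
  · have hmap : (K.subgroupOf (cent u)).map φ = ⊤ := by
      rw [eq_top_iff, ← closure_swaps_five, Subgroup.closure_le]
      rintro _ (rfl | rfl | rfl | rfl)
      · exact ⟨A, Subgroup.subset_closure (by simp), hA⟩
      · exact ⟨B, Subgroup.subset_closure (by simp), hB⟩
      · exact ⟨C, Subgroup.subset_closure (by simp), hC⟩
      · exact ⟨D, Subgroup.subset_closure (by simp), hD⟩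
    have hle : φ.ker ≤ K.subgroupOf (cent u) := by
      rw [hk]
      exact comap_mono (zpowers_le.2 (Subgroup.subset_closure (by simp)))
    have htop : K.subgroupOf (cent u) = ⊤ := by
      rw [← sup_eq_left.2 hle, ← comap_map_eq, hmap, comap_top]
    exact (htop ▸ mem_top _ : (⟨x, hx⟩ : ↥(cent u)) ∈ K.subgroupOf (cent u))
  · rintro _ (rfl | rfl | rfl | rfl | rfl)
    exacts [A.2, B.2, C.2, D.2, huX]

end Cfsg.Agent.Order95040
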