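import Cfsg.Agent.Lib.Order95040.Vals
import Cfsg.Agent.Lib.Char.RealChar
import Cfsg.Agent.Lib.Char.PermChar

/-!
# Elements of order 3 and 6, and the index of proper subgroups

The hypothesis `hl` fixes the degrees in the principal 11-block.
-/

namespace Cfsg.Agent.Order95040

open scoped ComplexConjugate
open Cfsg Subgroup MulAction

set_option linter.style.haveILetI false
set_option linter.unusedSectionVars false

universe u

/-- A bound for the index of a proper subgroup from a bound for the degrees. -/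
theorem lt_index_of_degree {G : Type u} [Group G] [Fintype G] {d : ℕ}
    (hd : ∀ χ : IrrCharacter G, χ ≠ Char.trivialChar G → d ≤ Char.degree χ)
    {M : Subgroup G} (hM : M ≠ ⊤) : d < M.index := by
  classical
  have hidx : Nat.card (G ⧸ M) = M.index := (index_eq_card M).symm
  have h2 : 2 ≤ M.index := by
    have h0 : M.index ≠ 0 := index_ne_zero_of_finite
    have h1 : M.index ≠ 1 := fun h => hM (index_eq_one.1 h)
    omega
  obtain ⟨c, hc, hci⟩ := Char.IsCharacter.exists_decomp (Char.isCharacter_fixedBy (G := G) (G ⧸ M))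
  have hcT : c (Char.trivialChar G) = 1 := by
    have h1 := hci (Char.trivialChar G)
    have h3 := Char.classInner_fixedBy_one (G := G) (G ⧸ M)
    haveI : Subsingleton (Quotient (orbitRel G (G ⧸ M))) :=
      (pretransitive_iff_subsingleton_quotient G (G ⧸ M)).1 inferInstance
    haveI : Nonempty (Quotient (orbitRel G (G ⧸ M))) := ⟨Quotient.mk _ ((1 : G) : G ⧸ M)⟩
    rw [Nat.card_of_subsingleton (Classical.arbitrary _), Nat.cast_one] at h3
    have h2' : classInner (fun g : G => (Nat.card (fixedBy (G ⧸ M) g) : ℂ))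
        (Char.trivialChar G).1 = 1 := by
      rw [← h3]
      congr 1
    rw [h2'] at h1
    exact_mod_cast h1.symm
  have hsum : ∑ χ, c χ * Char.degree χ = M.index := by
    have h1 := congrFun hc 1
    simp only [Finset.sum_apply, Pi.smul_apply, smul_eq_mul, fixedBy_one_eq_univ,
      Nat.card_coe_set_eq, Set.ncard_univ, Char.apply_one_eq_degree, hidx, ← Nat.cast_mul,
      ← Nat.cast_sum] at h1
    exact_mod_cast h1.symm
  have hT1 : Char.degree (Char.trivialChar G) = 1 := by
    apply Nat.cast_injective (R := ℂ)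
    rw [← Char.apply_one_eq_degree, Char.trivialChar_apply, Nat.cast_one]
  rw [← Finset.add_sum_erase _ _ (Finset.mem_univ (Char.trivialChar G)), hcT, hT1] at hsum
  obtain ⟨χ, hχ, hne⟩ := Finset.exists_ne_zero_of_sum_ne_zero
    (show ∑ χ ∈ Finset.univ.erase (Char.trivialChar G), c χ * Char.degree χ ≠ 0 by omega)
  have hle := Finset.single_le_sum (f := fun χ => c χ * Char.degree χ) (fun _ _ => Nat.zero_le _) hχ
  have h4 : Char.degree χ ≤ c χ * Char.degree χ :=
    Nat.le_mul_of_pos_left _ (Nat.pos_of_ne_zero fun h => hne (by rw [h, zero_mul]))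
  have := hd χ (Finset.ne_of_mem_erase hχ)
  omega

/-- A real value at an element whose sixth power is trivial is an integer. -/
theorem value_six {G : Type u} [Group G] [Fintype G] (χ : IrrCharacter G) {z : G} (hz : z ^ 6 = 1)
    (hreal : conj (χ.1 z) = χ.1 z) : ∃ k : ℤ, χ.1 z = k := by
  classical
  obtain ⟨n, μ, -, hμ, hval⟩ := CharInt.exists_roots (Char.irr_isCharacter χ) z
  have hμ6 : ∀ i, μ i ^ 6 = 1 := fun i => by
    obtain ⟨k, hk⟩ := orderOf_dvd_of_pow_eq_one hz
    rw [hk, pow_mul, hμ i, one_pow]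
  have hm : ∀ i, ∃ m : ℤ, μ i + μ i ^ 5 = m := fun i => by
    have h : (μ i ^ 3 - 1) * (μ i ^ 3 + 1) = 0 := by linear_combination hμ6 i
    rcases mul_eq_zero.1 h with h1 | h1
    · have h2 : (μ i - 1) * (μ i ^ 2 + μ i + 1) = 0 := by linear_combination h1
      rcases mul_eq_zero.1 h2 with h3 | h3
      · exact ⟨2, by rw [sub_eq_zero.1 h3]; norm_num⟩
      · exact ⟨-1, by push_cast; linear_combination h3 + μ i ^ 2 * h1⟩
    · have h2 : (μ i + 1) * (μ i ^ 2 - μ i + 1) = 0 := by linear_combination h1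
      rcases mul_eq_zero.1 h2 with h3 | h3
      · exact ⟨-2, by rw [eq_neg_of_add_eq_zero_left h3]; norm_num⟩
      · exact ⟨1, by push_cast; linear_combination -h3 + μ i ^ 2 * h1⟩
  choose m hm using hm
  have hz5 : z ^ 5 = z⁻¹ := eq_inv_of_mul_eq_one_left (by rw [← pow_succ]; exact hz)
  have h1 : χ.1 z + χ.1 (z ^ 5) = ((∑ i, m i : ℤ) : ℂ) := by
    have h := hval 1
    rw [pow_one] at h
    rw [h, hval 5, ← Finset.sum_add_distrib]
    push_cast
    exact Finset.sum_congr rfl fun i _ => by rw [pow_one, hm i]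
  rw [hz5, CharInt.char_inv (Char.irr_isCharacter χ), hreal] at h1
  exact Char.exists_int_of_isIntegral_mul (CharInt.isIntegral_char (Char.irr_isCharacter χ) z)
    (c := 2) (N := ∑ i, m i) two_ne_zero (by push_cast; rw [two_mul]; push_cast at h1; exact h1)

/-- Residues modulo 2 and 3 of a small value. -/
def sixCands (a v : ℤ) : List ℤ :=
  ((List.range 13).map fun j : ℕ => (j : ℤ) - 6).filter fun b =>
    decide ((b - a) % 2 = 0) && decide ((b - v) % 3 = 0)

/-- The sum of squares in a row at an element of order 6. -/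
def sixSum (b : List ℤ) : ℤ :=
  let w := 1 - b.getD 0 0 - b.getD 1 0 + b.getD 2 0 + b.getD 3 0
  1 + (b.getD 0 0 * b.getD 0 0 + b.getD 1 0 * b.getD 1 0 + b.getD 2 0 * b.getD 2 0 +
    b.getD 3 0 * b.getD 3 0) + 2 * (w * w)

/-- All candidate rows pass the bound. -/
def sixTest (N : ℤ) (a v : List ℤ) : Bool :=
  (sixCands (a.getD 0 0) (v.getD 0 0)).all fun b0 =>
  (sixCands (a.getD 1 0) (v.getD 1 0)).all fun b1 =>
  (sixCands (a.getD 2 0) (v.getD 2 0)).all fun b2 =>
  (sixCands (a.getD 3 0) (v.getD 3 0)).all fun b3 => decide (N ≤ sixSum [b0, b1, b2, b3])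

theorem six_small_scan : sixTest 41 [0, 0, -3, 3] [-8, 6, -3, 0] = true ∧
    sixTest 41 [0, 0, 3, -3] [-8, 6, -3, 0] = true := by decide +kernel

theorem six_big_scan : sixTest 14 [0, 0, 3, -6] [-8, 6, -3, 0] = true ∧
    sixTest 14 [0, 0, 3, -6] [0, 6, 5, 4] = true := by decide +kernel

theorem mem_sixCands {a v b : ℤ} (h2 : 2 ∣ b - a) (h3 : 3 ∣ b - v) (hb : -6 ≤ b ∧ b ≤ 6) :
    b ∈ sixCands a v := by
  simp only [sixCands, List.mem_filter, List.mem_map, List.mem_range, Bool.and_eq_true,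
    decide_eq_true_eq]
  exact ⟨⟨(b + 6).toNat, by omega, by omega⟩, Int.emod_eq_zero_of_dvd h2, Int.emod_eq_zero_of_dvd h3⟩

theorem le_sixSum {N : ℤ} (hN : N ≤ 49) {a v b : Fin 4 → ℤ}
    (h : sixTest N (List.ofFn a) (List.ofFn v) = true)
    (h2 : ∀ i, 2 ∣ b i - a i) (h3 : ∀ i, 3 ∣ b i - v i) : N ≤ sixSum (List.ofFn b) := by
  by_cases hb : ∀ i, -6 ≤ b i ∧ b i ≤ 6
  · simp only [sixTest, List.all_eq_true, decide_eq_true_eq, ofFn_four] at h
    have := h _ (mem_sixCands (h2 0) (h3 0) (hb 0)) _ (mem_sixCands (h2 1) (h3 1) (hb 1))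
      _ (mem_sixCands (h2 2) (h3 2) (hb 2)) _ (mem_sixCands (h2 3) (h3 3) (hb 3))
    rwa [ofFn_four]
  · push Not at hb
    obtain ⟨i, hi⟩ := hb
    have h49 : 49 ≤ b i * b i := by
      rcases le_or_gt 7 (b i) with h7 | h7
      · nlinarith
      · have : b i ≤ -7 := by
          by_contra hc
          have := hi (by omega)
          omega
        nlinarith
    have hs := Finset.single_le_sum (f := fun j => b j * b j) (fun j _ => mul_self_nonneg _)
      (Finset.mem_univ i)
    simp only [Fin.sum_univ_four] at hs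
    rw [ofFn_four]
    simp only [sixSum, List.getD_cons_zero, List.getD_cons_succ]
    nlinarith [mul_self_nonneg (1 - b 0 - b 1 + b 2 + b 3)]

theorem centOrders_thirty_six {C : ℕ} (hC : C ∣ 8640) (h36 : 36 ∣ C) : C ∈ centOrders 36 := by
  obtain ⟨j, rfl⟩ := h36
  have h8' := Nat.le_of_dvd (by norm_num) hC
  have hpos : 0 < 36 * j := Nat.pos_of_dvd_of_pos hC (by norm_num)
  simp only [centOrders, List.mem_filter, List.mem_map, List.mem_range, decide_eq_true_eq]
  exact ⟨⟨j - 1, by omega, by omega⟩, Nat.mod_eq_zero_of_dvd hC⟩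

theorem factorization_three {G : Type u} [Group G] (hG : Nat.card G = 95040) :
    (Nat.card G).factorization 3 = 3 := by
  rw [hG, show (95040 : ℕ) = 3 ^ 3 * 3520 by norm_num, Nat.factorization_mul (by norm_num) (by norm_num),
    Finsupp.add_apply, Nat.prime_three.factorization_pow, Finsupp.single_eq_same,
    Nat.factorization_eq_zero_of_not_dvd (by norm_num)]

variable {G : Type u} [Group G] [Fintype G]

omit [Fintype G] in
theorem deg_eq {x : G} {S : Shape x} (hl : List.ofFn S.z = theDegs) :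
    (Char.degree S.th = 16 ∧ Char.degree S.th' = 16) ∧
      ∀ k, Char.degree (S.chi k) = ![120, 54, 45, 144] k := by
  refine ⟨⟨?_, ?_⟩, fun k => ?_⟩
  · rw [S.deg_th.1, hl]; rfl
  · rw [S.deg_th.2, hl]; rfl
  · rw [ofFn_four, theDegs] at hl
    simp only [List.cons.injEq, and_true] at hl
    obtain ⟨h0, h1, h2, h3⟩ := hl
    rw [S.deg]
    fin_cases k
    · show (S.z 0).natAbs = 120
      rw [h0]; rfl
    · show (S.z 1).natAbs = 54
      rw [h1]; rfl
    · show (S.z 2).natAbs = 45
      rw [h2]; rfl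
    · show (S.z 3).natAbs = 144
      rw [h3]; rfl

variable [IsSimpleGroup G] (hG : Nat.card G = 95040) {x : G} (hx : orderOf x = 11) (S : Shape x)
  (hl : List.ofFn S.z = theDegs)
include hG hx hl

/-- The degrees of the non-trivial characters. -/
theorem eleven_le_degree {χ : IrrCharacter G} (hχ : χ ≠ Char.trivialChar G) :
    11 ≤ Char.degree χ := by
  obtain ⟨⟨ht, ht'⟩, hd⟩ := deg_eq hl
  by_cases hi : ∃ i, χ = S.chi i
  · obtain ⟨i, rfl⟩ := hi
    rw [hd]
    clear hχ
    revert i; decide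
  by_cases e1 : χ = S.th
  · rw [e1, ht]; norm_num
  by_cases e2 : χ = S.th'
  · rw [e2, ht']; norm_num
  exact Nat.le_of_dvd (Char.degree_pos χ) (S.dvd_degree hG hx hχ (fun i h => hi ⟨i, h⟩) e1 e2)

/-- Proper subgroups have index at least 12. -/
theorem twelve_le_index {M : Subgroup G} (hM : M ≠ ⊤) : 12 ≤ M.index :=
  lt_index_of_degree (fun _ h => eleven_le_degree hG hx S hl h) hM

/-- The non-exceptional characters are real. -/
theorem chi_real (i : Fin 4) (g : G) : conj ((S.chi i).1 g) = (S.chi i).1 g := by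
  suffices h : Char.conjIrr (S.chi i) = S.chi i by
    rw [← Char.conjIrr_apply, h]
  obtain ⟨⟨ht, ht'⟩, hd⟩ := deg_eq hl
  set ψ := Char.conjIrr (S.chi i) with hψ
  have hdeg : Char.degree ψ = Char.degree (S.chi i) := by
    apply Nat.cast_injective (R := ℂ)
    rw [← Char.apply_one_eq_degree, ← Char.apply_one_eq_degree, hψ, Char.conjIrr_apply,
      Char.apply_one_eq_degree, map_natCast]
  have hψT : ψ ≠ Char.trivialChar G := fun h =>
    degree_ne_one hG (S.chi_ne i).1 (by rw [← hdeg, h]; exact NineTwoQ.degree_trivial)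
  have h16 : Char.degree ψ ≠ 16 := by
    rw [hdeg, hd]
    exact (by decide : ∀ k : Fin 4, ![120, 54, 45, 144] k ≠ 16) i
  have hψx : ψ.1 x ≠ 0 := by
    rw [hψ, Char.conjIrr_apply, S.val, map_intCast, Int.cast_ne_zero]
    intro h
    have := sgnZ_sq (S.z i)
    rw [h] at this
    norm_num at this
  obtain ⟨j, hj⟩ : ∃ j, ψ = S.chi j := by
    by_contra hno
    push Not at hno
    exact hψx (S.vanish ψ hψT hno (fun h => h16 (h ▸ ht)) (fun h => h16 (h ▸ ht')))
  rw [hj] at hdeg
  rw [hd, hd] at hdeg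
  rw [hj, (by decide : ∀ k l : Fin 4, ![120, 54, 45, 144] k = ![120, 54, 45, 144] l → k = l) j i hdeg]

omit [IsSimpleGroup G] hG hx hl in
/-- The values of the exceptional characters at a row. -/
theorem sumSq_eq (b : Fin 4 → ℤ) :
    sixSum (List.ofFn b) = 1 + ((List.ofFn b).map fun a => a * a).sum +
      2 * (wOf theDegs (List.ofFn b) * wOf theDegs (List.ofFn b)) := by
  rw [ofFn_four]
  simp [sixSum, wOf, signY, sgnZ, theDegs]
  ring

/-- The row at an element of order 3 whose centraliser has order divisible by 36. -/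
theorem three_row {g : G} (hg : orderOf g = 3) (h36 : 36 ∣ Nat.card (cent g)) :
    ∃ a : Fin 4 → ℤ, (∀ i, (S.chi i).1 g = a i) ∧
      ((Nat.card (cent g) = 36 ∧ (List.ofFn a = [0, 0, -3, 3] ∨ List.ofFn a = [0, 0, 3, -3])) ∨
        (Nat.card (cent g) = 72 ∧ List.ofFn a = [0, 0, 3, -6])) := by
  classical
  haveI : Fact (Nat.Prime 3) := ⟨Nat.prime_three⟩
  have hg1 : g ≠ 1 := fun e => by rw [e, orderOf_one] at hg; omega
  have h11 : ¬ 11 ∣ orderOf g := not_dvd_eleven hg (by norm_num)
  have hg3 : g ^ 3 = 1 := by rw [← hg, pow_orderOf_eq_one]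
  choose a k ha _hk _h2 using fun i =>
    G2TwoRecog.value_three hg (S.chi i) (chi_real hG hx S hl i g)
  obtain ⟨hmem, hbase⟩ := S.base_row hG h11 hg1 (md := 3) (q := 27) ha
    (fun χ _ k hk => Int.emod_eq_zero_of_dvd (value_degree_mod Nat.prime_three χ hg3 hk))
    (fun i _ h => by
      obtain ⟨M, hM⟩ := CharInt.exists_isPModular_of_prime (q := 3) Nat.prime_three
      haveI := hM.2.1
      have h0 : (S.chi i).1 g = 0 := by
        refine Blocks.apply_eq_zero_of_defect_zero hM.2.2 _ (le_antisymm ?_ ?_) fun hreg => hreg (hg ▸ dvd_rfl)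
        · exact (Nat.factorization_le_iff_dvd (Char.degree_pos _).ne' Nat.card_pos.ne').2
            (Char.degree_dvd_natCard _) 3
        · rw [factorization_three hG]
          refine (Nat.prime_three.pow_dvd_iff_le_factorization (Char.degree_pos _).ne').1 ?_
          rw [S.deg]; exact Nat.dvd_of_mod_eq_zero h
      rw [ha] at h0
      exact_mod_cast h0)
  have hpairs := S.pairs_row hG h11 ha
  obtain ⟨P, hP⟩ := G2TwoRecog.mul_card_centralizer_dvd g g x
  have htest : threeTest (Nat.card (cent g)) (List.ofFn S.z) (List.ofFn a) = true := by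
    simp only [threeTest, hbase, Bool.true_and, Bool.and_eq_true, decide_eq_true_eq]
    refine ⟨?_, ?_⟩
    · have h0 : (0 : ℤ) ≤ ((Nat.card (G2TwoRecog.Pairs g g x) * denOf (List.ofFn S.z) : ℕ) : ℤ) :=
        Int.natCast_nonneg _
      rw [hpairs] at h0
      omega
    · rw [← hpairs]
      refine Int.emod_eq_zero_of_dvd (Int.natCast_dvd_natCast.2 ?_)
      exact Nat.mul_dvd_mul_right ⟨P, hP⟩ _
  rw [hl] at hmem htest
  exact ⟨a, ha, scan_three _ (centOrders_thirty_six (cent_dvd hG h11 hg1).1 h36) _ hmem htest⟩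

/-- Elements of order 3. -/
theorem three {g : G} (hg : orderOf g = 3) (h36 : 36 ∣ Nat.card (cent g)) :
    Nat.card (cent g) = 36 ∨ Nat.card (cent g) = 72 := by
  obtain ⟨a, -, ⟨h, -⟩ | ⟨h, -⟩⟩ := three_row hG hx S hl hg h36
  · exact Or.inl h
  · exact Or.inr h

/-- The bound at a product of commuting elements of orders 3 and 2. -/
theorem six_bound {g i : G} (hg : orderOf g = 3) (hi : orderOf i = 2) (hc : Commute g i)
    {a v : Fin 4 → ℤ} (ha : ∀ j, (S.chi j).1 g = a j) (hv : ∀ j, (S.chi j).1 i = v j)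
    {N : ℕ} (hN : N ≤ 49) (htest : sixTest N (List.ofFn a) (List.ofFn v) = true) :
    N ≤ Nat.card (cent (g * i)) := by
  have hg3 : g ^ 3 = 1 := by rw [← hg, pow_orderOf_eq_one]
  have hi2 : i ^ 2 = 1 := by rw [← hi, pow_orderOf_eq_one]
  have hz2 : (g * i) ^ 2 = g⁻¹ := by
    rw [hc.mul_pow, hi2, mul_one]
    exact eq_inv_of_mul_eq_one_left (by rw [← pow_succ]; exact hg3)
  have hz3 : (g * i) ^ 3 = i := by rw [hc.mul_pow, hg3, one_mul, pow_succ, hi2, one_mul]
  have hz6 : (g * i) ^ 6 = 1 := by rw [show 6 = 3 * 2 by rfl, pow_mul, hz3, hi2]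
  have hz1 : g * i ≠ 1 := fun e => by
    have : orderOf g = orderOf i := by rw [eq_inv_of_mul_eq_one_left e, orderOf_inv]
    omega
  have h11 : ¬ 11 ∣ orderOf (g * i) := fun h => by
    have := h.trans (orderOf_dvd_of_pow_eq_one hz6)
    norm_num at this
  choose b hb using fun j => value_six (S.chi j) hz6 (chi_real hG hx S hl j (g * i))
  have h2 : ∀ j, (2 : ℤ) ∣ b j - a j := fun j =>
    value_pow_mod Nat.prime_two (S.chi j) (g * i) (hb j) (m := a j) (by
      rw [hz2, CharInt.char_inv (Char.irr_isCharacter _), chi_real hG hx S hl, ha])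
  have h3 : ∀ j, (3 : ℤ) ∣ b j - v j := fun j =>
    value_pow_mod Nat.prime_three (S.chi j) (g * i) (hb j) (m := v j) (by rw [hz3, hv])
  obtain ⟨-, hbase⟩ := S.base_row hG h11 hz1 (md := 1) (q := 0) hb
    (fun χ _ k _ => Int.emod_one _) (fun j h => absurd rfl h)
  simp only [baseTest, Bool.and_eq_true, decide_eq_true_eq] at hbase
  have hsum := hbase.2
  rw [hl, ← sumSq_eq] at hsum
  have hle := le_sixSum (by exact_mod_cast hN) htest h2 h3
  exact_mod_cast hle.trans hsum

/-- Involution rows. -/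
theorem inv_values {i : G} (hi : orderOf i = 2) :
    ∃ v : Fin 4 → ℤ, (∀ j, (S.chi j).1 i = v j) ∧
      ((Nat.card (cent i) = 192 ∧ List.ofFn v = [-8, 6, -3, 0]) ∨
        ((Nat.card (cent i) = 120 ∨ Nat.card (cent i) = 240) ∧ List.ofFn v = [0, 6, 5, 4])) := by
  obtain ⟨v, hv, hC, hmem, htest⟩ := S.inv_row hG hx hi
  rw [hl] at hmem htest
  exact ⟨v, hv, scan_inv _ hC _ hmem htest⟩

theorem six_small {g i : G} (hg : orderOf g = 3) (hi : orderOf i = 2) (hc : Commute g i)
    (hCg : Nat.card (cent g) = 36) (hCi : Nat.card (cent i) = 192) :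
    41 ≤ Nat.card (cent (g * i)) := by
  obtain ⟨a, ha, ha'⟩ := three_row hG hx S hl hg (by rw [hCg])
  obtain ⟨v, hv, hv'⟩ := inv_values hG hx S hl hi
  refine six_bound hG hx S hl hg hi hc ha hv (by norm_num) ?_
  rcases hv' with ⟨-, e⟩ | ⟨h, -⟩
  · rcases ha' with ⟨-, e' | e'⟩ | ⟨h, -⟩
    · rw [e, e']; exact six_small_scan.1
    · rw [e, e']; exact six_small_scan.2
    · omega
  · omega

theorem six_big {g i : G} (hg : orderOf g = 3) (hi : orderOf i = 2) (hc : Commute g i)
    (hCg : Nat.card (cent g) = 72) : 14 ≤ Nat.card (cent (g * i)) := by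
  obtain ⟨a, ha, ha'⟩ := three_row hG hx S hl hg (by rw [hCg]; norm_num)
  obtain ⟨v, hv, hv'⟩ := inv_values hG hx S hl hi
  refine six_bound hG hx S hl hg hi hc ha hv (by norm_num) ?_
  rcases ha' with ⟨h, -⟩ | ⟨-, e'⟩
  · omega
  · rcases hv' with ⟨-, e⟩ | ⟨-, e⟩
    · rw [e, e']; exact six_big_scan.1
    · rw [e, e']; exact six_big_scan.2

/-- The exceptional characters are real away from elements of order 11. -/
theorem th_real {g : G} (hg : ¬ 11 ∣ orderOf g) : conj (S.th.1 g) = S.th.1 g := by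
  have h := S.rel g hg
  rw [hl, show signY theDegs = 1 from rfl, Int.cast_one, one_mul] at h
  rw [h, map_add, map_sum, map_one]
  simp only [map_mul, map_intCast, chi_real hG hx S hl]

end Cfsg.Agent.Order95040
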