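import Cfsg.Agent.Lib.Order95040.Cycle
import Cfsg.Agent.Lib.Order95040.Gen
import Cfsg.Agent.Lib.Order95040.Local
import Cfsg.Agent.Lib.Order95040.FactsBase
import Cfsg.Agent.Lib.Order95040.Small

/-!
# Two simple groups of order 95040 with the interface facts are isomorphic
-/

namespace Cfsg.Agent.Order95040

open Subgroup

universe u v

theorem nonempty_mulEquiv_of_facts {G : Type u} {H : Type v} [Group G] [Group H] [Finite G] [Finite H]
    [IsSimpleGroup G] [IsSimpleGroup H] (FG : Facts G) (FH : Facts H) : Nonempty (G ≃* H) := by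
  obtain ⟨a, b, c, d, u, L⟩ := exists_local FG
  obtain ⟨h, r⟩ := exists_rel FG L
  obtain ⟨a', b', c', d', u', L'⟩ := exists_local FH
  obtain ⟨h', r'⟩ := exists_rel FH L'
  exact nonempty_mulEquiv_of_rel FG.card FH.card r (gen7_eq_top FG L r) r' (gen7_eq_top FH L' r')

/-- The character-theoretic facts. -/
theorem facts {G : Type*} [Group G] [Finite G] [IsSimpleGroup G] (hG : Nat.card G = 95040) :
    Facts G := by
  haveI := Fintype.ofFinite G
  obtain ⟨x, S, hx, hl⟩ := exists_shape_degs hG
  exact facts_of hG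
    (fun hx S hl _ hf => ⟨fun i => chi_real hG hx S hl i _, th_real hG hx S hl hf⟩)
    (fun _ hg h => three hG hx S hl hg h)
    (fun _ _ hg hi hc hCg hCi => six_small hG hx S hl hg hi hc hCg hCi)
    (fun _ _ hg hi hc hCg => six_big hG hx S hl hg hi hc hCg)
    (fun _ hM => twelve_le_index hG hx S hl hM)

/-- **Simple groups of order 95040 are isomorphic.** -/
theorem nonempty_mulEquiv {G H : Type*} [Group G] [Group H] [Finite G] [Finite H]
    [IsSimpleGroup G] [IsSimpleGroup H] (hG : Nat.card G = 95040) (hH : Nat.card H = 95040) :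
    Nonempty (G ≃* H) :=
  nonempty_mulEquiv_of_facts (facts hG) (facts hH)

end Cfsg.Agent.Order95040
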