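import Cfsg.Agent.Lib.Order95040.Elem
import Cfsg.Agent.Lib.Order7920.Nse
import Cfsg.Agent.Lib.Mathieu.Simple

/-!
# Simplicity of a group of order 95040 from the numbers of elements of each order

If these numbers are among those of a simple group of order 95040, then a Sylow 11-subgroup has
normaliser of order 55 and is self-centralising, which forces simplicity.
-/

set_option autoImplicit false
set_option linter.style.haveILetI false

namespace Cfsg.Agent.Order95040

open Subgroup

/-- The possible numbers of elements of a given order in a simple group of order 95040. -/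
theorem nse_values {M : Type*} [Group M] [Finite M] [IsSimpleGroup M] (hM : Nat.card M = 95040)
    (n : ℕ) : Nat.card {g : M // orderOf g = n} = 1 ∨ 11 ∣ Nat.card {g : M // orderOf g = n} ∨
      Nat.card {g : M // orderOf g = n} = 17280 := by
  classical
  haveI := Fintype.ofFinite M
  haveI : Fact (Nat.Prime 11) := ⟨by norm_num⟩
  rcases eq_or_ne n 1 with rfl | hn1
  · left
    rw [Nat.card_eq_one_iff_exists]
    exact ⟨⟨1, orderOf_one⟩, fun x => Subtype.ext (orderOf_eq_one_iff.1 x.2)⟩
  rcases eq_or_ne n 11 with rfl | hn11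
  · right; right
    have hP : ∀ P : Sylow 11 M, Nat.card (P : Subgroup M) = 11 := fun P => by
      rw [P.card_eq_multiplicity, factorization_eleven hM, pow_one]
    rw [SmallSimple.card_orderOf_eq_prime hP]
    obtain ⟨x, hx⟩ := exists_prime_orderOf_dvd_card' (G := M) 11 (by rw [hM]; norm_num)
    obtain ⟨P, -, hPs⟩ := exists_sylow (factorization_eleven hM) hx
    have hidx := (normalizer (zpowers x : Set M)).index_mul_card
    rw [(eleven hM hx).2, hM] at hidx
    rw [P.card_eq_index_normalizer, hPs]
    omega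
  right; left
  have := Order7920.card_dvd_mul (G := M) (n := n) (k := 8640) fun g hg => by
    refine Nat.Coprime.dvd_of_dvd_mul_left (m := 11) ?_ ?_
    · refine ((Nat.Prime.coprime_iff_not_dvd (by norm_num : Nat.Prime 11)).2 fun h => ?_).symm
      obtain ⟨y, hy⟩ := exists_prime_orderOf_dvd_card' 11 h
      have hy' : orderOf (y : M) = 11 := (orderOf_coe y).trans hy
      have hgy : g ∈ cent (y : M) := Order7920.mem_C.2 (Order7920.mem_C.1 y.2).symm
      have hd := _root_.orderOf_dvd_natCard (⟨g, hgy⟩ : cent (y : M))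
      rw [(eleven hM hy').1, ← Subgroup.orderOf_coe] at hd
      change orderOf g ∣ 11 at hd
      rw [hg] at hd
      rcases (Nat.dvd_prime (by norm_num)).1 hd with h | h
      · exact hn1 h
      · exact hn11 h
    · exact (card_subgroup_dvd_card _).trans (dvd_of_eq (hM.trans (by norm_num)))
  rw [hM] at this
  exact (Nat.mul_dvd_mul_iff_right (by norm_num : 0 < 8640)).1 this

section Group

variable {G : Type*} [Group G] [Finite G]

/-- A group of order 95040 whose numbers of elements of each order are among the admissible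
values has a self-centralising Sylow 11-subgroup with normaliser of order 55. -/
theorem eleven_of_values (hG : Nat.card G = 95040)
    (hval : ∀ n, 0 < Nat.card {g : G // orderOf g = n} → Nat.card {g : G // orderOf g = n} = 1 ∨
      11 ∣ Nat.card {g : G // orderOf g = n} ∨ Nat.card {g : G // orderOf g = n} = 17280)
    {x : G} (hx : orderOf x = 11) :
    Nat.card (cent x) = 11 ∧ Nat.card (normalizer (zpowers x : Set G)) = 55 := by
  classical
  haveI : Fact (Nat.Prime 11) := ⟨by norm_num⟩
  haveI : Fact (Nat.Prime 5) := ⟨Nat.prime_five⟩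
  have hP : ∀ P : Sylow 11 G, Nat.card (P : Subgroup G) = 11 := fun P => by
    rw [P.card_eq_multiplicity, factorization_eleven hG, pow_one]
  have hQ : ∀ P : Sylow 5 G, Nat.card (P : Subgroup G) = 5 := fun P => by
    rw [P.card_eq_multiplicity, factorization_five hG, pow_one]
  obtain ⟨P, -, hPs⟩ := exists_sylow (factorization_eleven hG) hx
  have hNmul := (normalizer (zpowers x : Set G)).index_mul_card
  have hn : Nat.card (Sylow 11 G) = (normalizer (zpowers x : Set G)).index := by
    rw [P.card_eq_index_normalizer, hPs]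
  rw [← hn, hG] at hNmul
  have h11N : 11 ∣ Nat.card (normalizer (zpowers x : Set G)) := by
    refine dvd_trans (dvd_of_eq ?_) (card_dvd_of_le le_normalizer)
    rw [Nat.card_zpowers, hx]
  obtain ⟨j, hj⟩ := h11N
  have hdvd : Nat.card (Sylow 11 G) ∣ 8640 := by
    rw [hj] at hNmul
    exact ⟨j, by linarith⟩
  have hcount := SmallSimple.card_orderOf_eq_prime hP
  have hv := hval 11 (by rw [hcount]; exact Nat.mul_pos Nat.card_pos (by norm_num))
  rw [hcount] at hv
  have hmod : Nat.card (Sylow 11 G) % 11 = 1 := card_sylow_modEq_one 11 G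
  have h1728 : Nat.card (Sylow 11 G) = 1728 := by
    rcases hv with h | h | h <;> omega
  have hN55 : Nat.card (normalizer (zpowers x : Set G)) = 55 := by
    rw [h1728] at hNmul; omega
  refine ⟨?_, hN55⟩
  have hd : Nat.card (cent x) ∣ 55 := hN55 ▸ card_dvd_of_le (Order7920.C_le_N x)
  have h11 : 11 ∣ Nat.card (cent x) := by
    rw [← hx, ← Subgroup.orderOf_mk x (Order7920.mem_C.2 rfl)]
    exact _root_.orderOf_dvd_natCard _
  have key : ∀ i < 56, i ∣ 55 → 11 ∣ i → i = 11 ∨ i = 55 := by decide
  refine (key _ (Nat.lt_succ_of_le (Nat.le_of_dvd (by norm_num) hd)) hd h11).resolve_right fun h55 => ?_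
  obtain ⟨y, hy⟩ := exists_prime_orderOf_dvd_card' (G := cent x) 5 (by rw [h55]; norm_num)
  have hy' : orderOf (y : G) = 5 := (orderOf_coe y).trans hy
  obtain ⟨Q, hQy⟩ := SmallSimple.zpowers_eq_sylow hQ hy'
  have hxN : x ∈ normalizer ((Q : Subgroup G) : Set G) := by
    refine centralizer_le_normalizer _ (mem_centralizer_iff.2 fun w hw => ?_)
    rw [SetLike.mem_coe, hQy] at hw
    obtain ⟨i, rfl⟩ := hw
    exact ((show Commute (y : G) x from Order7920.mem_C.1 y.2).zpow_left i).eq
  have hd11 : 11 ∣ Nat.card (normalizer ((Q : Subgroup G) : Set G)) := by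
    rw [← hx, ← Subgroup.orderOf_mk x hxN]
    exact _root_.orderOf_dvd_natCard _
  have hd5 : 5 ∣ Nat.card (normalizer ((Q : Subgroup G) : Set G)) :=
    dvd_trans (dvd_of_eq (hQ Q).symm) (card_dvd_of_le le_normalizer)
  obtain ⟨k, hk⟩ := (Nat.Coprime.mul_dvd_of_dvd_of_dvd (by norm_num) hd11 hd5 :
    11 * 5 ∣ Nat.card (normalizer ((Q : Subgroup G) : Set G)))
  have hmul := (normalizer ((Q : Subgroup G) : Set G)).index_mul_card
  rw [show (normalizer ((Q : Subgroup G) : Set G)).index = Nat.card (Sylow 5 G) from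
    Q.card_eq_index_normalizer.symm, hk, hG] at hmul
  have hs : Nat.card (Sylow 5 G) ∣ 1728 := ⟨k, by linarith⟩
  have hc5 := SmallSimple.card_orderOf_eq_prime hQ
  have hv5 := hval 5 (by rw [hc5]; exact Nat.mul_pos Nat.card_pos (by norm_num))
  rw [hc5] at hv5
  rcases hv5 with h | h | h
  · omega
  · have h' : 11 ∣ Nat.card (Sylow 5 G) :=
      ((by norm_num : Nat.Prime 11).dvd_mul.1 h).resolve_right (by norm_num)
    exact absurd (h'.trans hs) (by norm_num)
  · have h' : Nat.card (Sylow 5 G) = 4320 := by omega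
    rw [h'] at hs
    norm_num at hs

/-- A self-centralising Sylow 11-subgroup with normaliser of order 55 forces simplicity. -/
theorem isSimpleGroup_of_eleven (hG : Nat.card G = 95040)
    (h : ∀ x : G, orderOf x = 11 →
      Nat.card (cent x) = 11 ∧ Nat.card (normalizer (zpowers x : Set G)) = 55) :
    IsSimpleGroup G := by
  classical
  haveI : Fact (Nat.Prime 11) := ⟨by norm_num⟩
  haveI : Nontrivial G := by
    rw [← Finite.one_lt_card_iff_nontrivial, hG]; norm_num
  -- a normal subgroup of order prime to 11 is trivial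
  have small : ∀ K : Subgroup G, K.Normal → ¬ 11 ∣ Nat.card K → K = ⊥ := by
    intro K hK h11
    by_contra hne
    set r := (Nat.card K).minFac with hr
    have hK1 : Nat.card K ≠ 1 := fun h => hne (card_eq_one.1 h)
    haveI : Fact r.Prime := ⟨Nat.minFac_prime hK1⟩
    obtain ⟨R⟩ : Nonempty (Sylow r K) := inferInstance
    set A := normalizer (((R : Subgroup K).map K.subtype : Subgroup G) : Set G) with hA
    have hfr : A ⊔ K = ⊤ := Sylow.normalizer_sup_eq_top R
    have hdA : Nat.card (G ⧸ K) ∣ Nat.card A := by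
      refine card_dvd_of_surjective ((QuotientGroup.mk' K).comp A.subtype) fun q => ?_
      obtain ⟨g, rfl⟩ := QuotientGroup.mk'_surjective K q
      obtain ⟨y, hy, z, hz, rfl⟩ := mem_sup_of_normal_right.1 (show g ∈ A ⊔ K by
        rw [hfr]; exact mem_top g)
      exact ⟨⟨y, hy⟩, QuotientGroup.eq.2 (by simpa using hz)⟩
    have h11A : 11 ∣ Nat.card A := by
      refine (((by norm_num : Nat.Prime 11).dvd_mul.1 ?_).resolve_right h11).trans hdA
      rw [← Subgroup.card_eq_card_quotient_mul_card_subgroup, hG]; norm_num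
    obtain ⟨x, hx⟩ := exists_prime_orderOf_dvd_card' 11 h11A
    have hxo : orderOf (x : G) = 11 := (orderOf_coe x).trans hx
    set R' := (R : Subgroup K).map K.subtype with hR'
    have hconj : ∀ g ∈ zpowers (x : G), ∀ y ∈ R', g * y * g⁻¹ ∈ R' := fun g hg y hy =>
      (mem_normalizer_iff.1 (zpowers_le.2 x.2 hg) y).1 hy
    letI : MulAction (zpowers (x : G)) R' :=
      { smul := fun g y => ⟨(g : G) * y * (g : G)⁻¹, hconj _ g.2 _ y.2⟩
        one_smul := fun y => Subtype.ext (by show (1 : G) * y * 1⁻¹ = y; simp)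
        mul_smul := fun g g' y => Subtype.ext (by
          show ((g : G) * g') * y * ((g : G) * g')⁻¹ = g * (g' * y * (g' : G)⁻¹) * (g : G)⁻¹
          group) }
    have hfix : MulAction.fixedPoints (zpowers (x : G)) R' = {1} := by
      refine Set.eq_singleton_iff_unique_mem.2 ⟨fun g => Subtype.ext ?_, fun y hy => ?_⟩
      · show (g : G) * 1 * (g : G)⁻¹ = 1
        simp
      · have h1 : (x : G) * y * (x : G)⁻¹ = y := congrArg Subtype.val (hy ⟨x, mem_zpowers _⟩)
        have hyC : (y : G) ∈ cent (x : G) := Order7920.mem_C.2 (mul_inv_eq_iff_eq_mul.1 h1).symm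
        have hyK : (y : G) ∈ K := map_subtype_le _ y.2
        refine Subtype.ext (orderOf_eq_one_iff.1 (Nat.eq_one_of_dvd_coprimes ?_
          ((Subgroup.orderOf_dvd_natCard _ hyC).trans (dvd_of_eq (h _ hxo).1))
          (Subgroup.orderOf_dvd_natCard _ hyK)))
        exact (Nat.Prime.coprime_iff_not_dvd (by norm_num)).2 h11
    have hmod := (IsPGroup.of_card (p := 11) (n := 1) (G := zpowers (x : G))
      (by rw [Nat.card_zpowers, hxo, pow_one])).card_modEq_card_fixedPoints R'
    rw [hfix, Nat.card_coe_set_eq, Set.ncard_singleton, hR',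
      card_map_of_injective K.subtype_injective, R.card_eq_multiplicity] at hmod
    have hrK : r ∣ Nat.card K := Nat.minFac_dvd _
    have hpos : 0 < (Nat.card K).factorization r :=
      Nat.Prime.factorization_pos_of_dvd Fact.out Nat.card_pos.ne' hrK
    have hd : r ^ (Nat.card K).factorization r ∣ 8640 := by
      have h1 : r ^ (Nat.card K).factorization r ∣ Nat.card K := Nat.ordProj_dvd _ _
      have h2 : Nat.card K ∣ 11 * 8640 := by
        rw [show 11 * 8640 = Nat.card G by rw [hG]]; exact card_subgroup_dvd_card K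
      exact h1.trans (Nat.Coprime.dvd_of_dvd_mul_left
        ((Nat.Prime.coprime_iff_not_dvd (by norm_num)).2 h11).symm h2)
    have key : ∀ i ∈ Nat.divisors 8640, i % 11 = 1 → i = 1 ∨ i = 12 ∨ i = 45 ∨ i = 144 ∨
        i = 320 ∨ i = 540 ∨ i = 1728 ∨ i = 6480 := by decide +kernel
    have hnp : ∀ i ∈ [12, 45, 144, 320, 540, 1728, 6480], ∀ k, r ^ k ≠ i := by
      intro i hi k hk
      have hpp : ∀ s, s.Prime → s ∣ i → r = s := fun s hs hsi =>
        ((Nat.prime_dvd_prime_iff_eq hs Fact.out).1 (hs.dvd_of_dvd_pow (hk ▸ hsi))).symm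
      simp only [List.mem_cons, List.not_mem_nil, or_false] at hi
      rcases hi with rfl | rfl | rfl | rfl | rfl | rfl | rfl
      · exact absurd ((hpp 2 Nat.prime_two (by norm_num)).symm.trans (hpp 3 Nat.prime_three (by norm_num))) (by norm_num)
      · exact absurd ((hpp 5 Nat.prime_five (by norm_num)).symm.trans (hpp 3 Nat.prime_three (by norm_num))) (by norm_num)
      · exact absurd ((hpp 2 Nat.prime_two (by norm_num)).symm.trans (hpp 3 Nat.prime_three (by norm_num))) (by norm_num)
      · exact absurd ((hpp 2 Nat.prime_two (by norm_num)).symm.trans (hpp 5 Nat.prime_five (by norm_num))) (by norm_num)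
      · exact absurd ((hpp 2 Nat.prime_two (by norm_num)).symm.trans (hpp 3 Nat.prime_three (by norm_num))) (by norm_num)
      · exact absurd ((hpp 2 Nat.prime_two (by norm_num)).symm.trans (hpp 3 Nat.prime_three (by norm_num))) (by norm_num)
      · exact absurd ((hpp 2 Nat.prime_two (by norm_num)).symm.trans (hpp 3 Nat.prime_three (by norm_num))) (by norm_num)
    rcases key _ (Nat.mem_divisors.2 ⟨hd, by norm_num⟩) hmod with h' | h' | h' | h' | h' | h' | h' | h'
    · exact absurd h' (Nat.one_lt_pow hpos.ne' (Fact.out : r.Prime).one_lt).ne'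
    all_goals exact hnp _ (by simp) _ h'
  refine ⟨fun K hK => ?_⟩
  by_cases h11 : 11 ∣ Nat.card K
  swap
  · exact Or.inl (small K hK h11)
  right
  obtain ⟨x, hx⟩ := exists_prime_orderOf_dvd_card' 11 h11
  have hxo : orderOf (x : G) = 11 := (orderOf_coe x).trans hx
  obtain ⟨P, hP, hPs⟩ := exists_sylow (factorization_eleven hG) hxo
  have hle : (P : Subgroup G) ≤ K := hP ▸ zpowers_le.2 x.2
  set P' : Sylow 11 K := P.subtype hle with hP'
  have hmapP : ((P' : Subgroup K).map K.subtype) = (P : Subgroup G) := by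
    rw [hP', Sylow.coe_subtype, subgroupOf_map_subtype, inf_eq_left.2 hle]
  set A := normalizer (zpowers (x : G) : Set G) with hA
  have hfr : A ⊔ K = ⊤ := by
    have := Sylow.normalizer_sup_eq_top P'
    rwa [hmapP, hP] at this
  have hA55 : Nat.card A = 55 := (h _ hxo).2
  have hAK : Nat.card (K.subgroupOf A) * K.index = 55 := by
    rw [← hA55, ← (K.subgroupOf A).card_mul_index]
    congr 1
    rw [← relIndex_top_right, ← hfr, relIndex_sup_right]
    rfl
  have h11A : 11 ∣ Nat.card (K.subgroupOf A) := by
    have hxA : (x : G) ∈ A := le_normalizer (mem_zpowers _)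
    have : (⟨x, hxA⟩ : A) ∈ K.subgroupOf A := x.2
    have hd := Subgroup.orderOf_dvd_natCard _ this
    rwa [Subgroup.orderOf_mk, hxo] at hd
  obtain ⟨k, hk⟩ := h11A
  have hk5 : k * K.index = 5 := by rw [hk, mul_assoc] at hAK; omega
  rcases (Nat.dvd_prime Nat.prime_five).1 (Dvd.intro_left k hk5 : K.index ∣ 5) with h1 | h5
  · exact index_eq_one.1 h1
  exfalso
  have hA11 : Nat.card (K.subgroupOf A) = 11 := by
    rw [h5] at hk5; rw [hk]; omega
  -- Burnside's complement
  have hnc : normalizer ((P' : Subgroup K) : Set K) ≤ centralizer ((P' : Subgroup K) : Set K) := by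
    have hAP : ∀ g : K, g ∈ normalizer ((P' : Subgroup K) : Set K) → (g : G) ∈ (P : Subgroup G) := by
      intro g hg
      have hgA : (g : G) ∈ A := by
        rw [hA, ← hP, ← hmapP]
        exact le_normalizer_map K.subtype ⟨g, hg, rfl⟩
      have hPA : (P : Subgroup G) ≤ A := hP ▸ le_normalizer
      have e : (P : Subgroup G).subgroupOf A = K.subgroupOf A := by
        refine eq_of_le_of_card_ge (fun y hy => hle hy) ?_
        rw [hA11, Nat.card_congr (subgroupOfEquivOfLe hPA).toEquiv, hP, Nat.card_zpowers, hxo]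
      have : (⟨g, hgA⟩ : A) ∈ K.subgroupOf A := g.2
      rwa [← e] at this
    intro g hg
    refine mem_centralizer_iff.2 fun y hy => Subtype.ext ?_
    have h1 : (g : G) ∈ zpowers (x : G) := hP ▸ hAP g hg
    have h2 : (y : G) ∈ zpowers (x : G) := hP ▸ hAP y (le_normalizer hy)
    obtain ⟨i, hi⟩ := h1
    obtain ⟨j, hj⟩ := h2
    simp only [Subgroup.coe_mul, ← hi, ← hj]
    exact ((Commute.refl _).zpow_zpow _ _).eq
  obtain ⟨Q, C, hC, hcomp⟩ := Transfer.hasNormalPComplement_of_normalizer_le_centralizer P' hnc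
  have hK19 : Nat.card K = 19008 := by
    have := K.card_mul_index
    rw [h5, hG] at this
    omega
  have hQ : Nat.card (Q : Subgroup K) = 11 := by
    rw [Q.card_eq_multiplicity, hK19, show (19008 : ℕ) = 11 * 1728 by norm_num,
      Nat.factorization_mul (by norm_num) (by norm_num), Finsupp.add_apply,
      (by norm_num : Nat.Prime 11).factorization_self, Nat.factorization_eq_zero_of_not_dvd
      (by norm_num)]
    norm_num
  have hCc : Nat.card C = 1728 := by
    have := hcomp.card_mul_card
    rw [hQ, hK19] at this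
    omega
  have hCmem : ∀ y : K, y ^ 1728 = 1 → y ∈ C := by
    intro y hy
    refine (QuotientGroup.eq_one_iff y).1 (orderOf_eq_one_iff.1 (Nat.eq_one_of_dvd_coprimes
      (show Nat.Coprime 11 1728 by norm_num) ?_ ((orderOf_map_dvd (QuotientGroup.mk' C) y).trans
        (orderOf_dvd_of_pow_eq_one hy))))
    refine (_root_.orderOf_dvd_natCard _).trans (dvd_of_eq ?_)
    have := C.card_mul_index
    rw [hCc, hK19] at this
    show C.index = 11
    omega
  have hCn : (C.map K.subtype).Normal := by
    constructor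
    rintro _ ⟨y, hy, rfl⟩ g
    refine ⟨⟨g * y * g⁻¹, hK.conj_mem _ y.2 g⟩, hCmem _ (Subtype.ext ?_), rfl⟩
    have : ((y : K) : G) ^ 1728 = 1 := by
      have h1 : (⟨y, hy⟩ : C) ^ 1728 = 1 := by rw [← hCc]; exact pow_card_eq_one'
      exact congrArg (fun z : C => ((z : K) : G)) h1
    show (g * (y : G) * g⁻¹) ^ 1728 = 1
    rw [conj_pow, this, mul_one, mul_inv_cancel]
  have := small _ hCn (by rw [card_map_of_injective K.subtype_injective, hCc]; norm_num)
  rw [map_eq_bot_iff_of_injective _ K.subtype_injective] at this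
  rw [this, card_bot] at hCc
  norm_num at hCc

end Group

/-- A group of order 95040 whose numbers of elements of each order occur in a simple group of
order 95040 is simple. -/
theorem isSimpleGroup_of_nse {G M : Type*} [Group G] [Finite G] [Group M] [Finite M]
    [IsSimpleGroup M] (hM : Nat.card M = 95040) (hG : Nat.card G = 95040)
    (hnse : ∀ n, 0 < Nat.card {g : G // orderOf g = n} →
      ∃ m, Nat.card {g : G // orderOf g = n} = Nat.card {g : M // orderOf g = m}) :
    IsSimpleGroup G :=
  isSimpleGroup_of_eleven hG fun _ hx => eleven_of_values hG (fun n hn => by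
    obtain ⟨m, hm⟩ := hnse n hn
    rw [hm]
    exact nse_values hM m) hx

/-- Recognition of `M₁₂` by order and numbers of elements of each order, from the uniqueness of
the simple group of order 95040. -/
theorem nse_M12 {G : Type*} [Group G] [Finite G]
    (huniq : IsSimpleGroup G → Nat.card G = 95040 → Nonempty (G ≃* ↥Cfsg.Spor.M12))
    (hcard : Nat.card G = Nat.card ↥Cfsg.Spor.M12)
    (hnse : {c : ℕ | 0 < c ∧ ∃ n : ℕ, c = Nat.card {g : G // orderOf g = n}} =
      {c : ℕ | 0 < c ∧ ∃ n : ℕ, c = Nat.card {g : ↥Cfsg.Spor.M12 // orderOf g = n}}) :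
    Nonempty (G ≃* ↥Cfsg.Spor.M12) := by
  haveI := Mathieu.isSimple_M12
  haveI : Finite Cfsg.Spor.M12 :=
    Nat.finite_of_card_ne_zero (by rw [Mathieu.card_M12]; norm_num)
  have hG : Nat.card G = 95040 := by rw [hcard, Mathieu.card_M12]
  refine huniq (isSimpleGroup_of_nse Mathieu.card_M12 hG fun n hn => ?_) hG
  have h : Nat.card {g : G // orderOf g = n} ∈
      {c : ℕ | 0 < c ∧ ∃ n : ℕ, c = Nat.card {g : G // orderOf g = n}} := ⟨hn, n, rfl⟩
  rw [hnse] at h
  exact h.2

end Cfsg.Agent.Order95040
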