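import Cfsg.Agent.Lib.J1Unique.Table
import Cfsg.Agent.Lib.Presented.Data.M12Order
import Cfsg.Agent.Lib.Presented.Data.M12OrderC

/-!
# A presentation governing groups of order 95040

`Rel a b c d u h` says that `a b c d` are Coxeter generators of type `A₄` commuting with the involution
`u`, and that `h` of order three centralises `c d` and `a c`, sends `u` to `a` and `a` to `u a` and
satisfies `(h * (b a c b)) ^ 3 = 1`.  The group generated by `a b c d u h` then has a subgroup, generated
by seven involutions, of order at most `1584 * 240`.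
-/

set_option autoImplicit false

namespace Cfsg.Agent.Order95040

open Cfsg.Agent.Presented

variable {G : Type*} [Group G]

/-- The relations. -/
structure Rel (a b c d u h : G) : Prop where
  aa : a * a = 1
  bb : b * b = 1
  cc : c * c = 1
  dd : d * d = 1
  uu : u * u = 1
  ab : (a * b) ^ 3 = 1
  bc : (b * c) ^ 3 = 1
  cd : (c * d) ^ 3 = 1
  ac : (a * c) ^ 2 = 1
  ad : (a * d) ^ 2 = 1
  bd : (b * d) ^ 2 = 1
  ua : (u * a) ^ 2 = 1
  ub : (u * b) ^ 2 = 1
  uc : (u * c) ^ 2 = 1
  ud : (u * d) ^ 2 = 1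
  hh : h ^ 3 = 1
  hg : Commute h (c * d)
  hd : Commute h (a * c)
  hu : h⁻¹ * u * h = a
  ha : h⁻¹ * a * h = u * a
  hr : (h * (b * a * c * b)) ^ 3 = 1

variable {a b c d u h : G}

/-- The seven involutory generators. -/
abbrev gens7 (a b c d u h : G) : ℕ → G :=
  fun n => [a, b, c, d, u, h⁻¹ * b * h, h * b * h⁻¹].getD n 1

theorem gens7_sq (r : Rel a b c d u h) (g : ℕ) (hg : g < 7) :
    gens7 a b c d u h g * gens7 a b c d u h g = 1 := by
  interval_cases g <;>
    first
      | exact r.aa | exact r.bb | exact r.cc | exact r.dd | exact r.uu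
      | (show h⁻¹ * b * h * (h⁻¹ * b * h) = 1
         rw [show h⁻¹ * b * h * (h⁻¹ * b * h) = h⁻¹ * (b * b) * h by group, r.bb]; group)
      | (show h * b * h⁻¹ * (h * b * h⁻¹) = 1
         rw [show h * b * h⁻¹ * (h * b * h⁻¹) = h * (b * b) * h⁻¹ by group, r.bb]; group)

theorem conj_images (r : Rel a b c d u h) :
    h⁻¹ * c * h = u * c ∧ h⁻¹ * d * h = u * d ∧ h * u * h⁻¹ = u * a ∧ h * a * h⁻¹ = u ∧
      h * c * h⁻¹ = u * a * c ∧ h * d * h⁻¹ = u * a * d := by
  have hd' : h⁻¹ * (a * c) * h = a * c := by rw [mul_assoc, ← r.hd.eq, inv_mul_cancel_left]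
  have hd'' : h * (a * c) * h⁻¹ = a * c := by rw [r.hd.eq, mul_inv_cancel_right]
  have hg' : h⁻¹ * (c * d) * h = c * d := by rw [mul_assoc, ← r.hg.eq, inv_mul_cancel_left]
  have hg'' : h * (c * d) * h⁻¹ = c * d := by rw [r.hg.eq, mul_inv_cancel_right]
  have e1 : h⁻¹ * c * h = u * c := by
    calc h⁻¹ * c * h = h⁻¹ * a * h * (h⁻¹ * (a * c) * h) := by
          rw [show h⁻¹ * a * h * (h⁻¹ * (a * c) * h) = h⁻¹ * (a * a * c) * h by group, r.aa, one_mul]
      _ = u * c := by rw [r.ha, hd', mul_assoc, ← mul_assoc a, r.aa, one_mul]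
  have e2 : h⁻¹ * d * h = u * d := by
    calc h⁻¹ * d * h = h⁻¹ * c * h * (h⁻¹ * (c * d) * h) := by
          rw [show h⁻¹ * c * h * (h⁻¹ * (c * d) * h) = h⁻¹ * (c * c * d) * h by group, r.cc, one_mul]
      _ = u * d := by rw [e1, hg', mul_assoc, ← mul_assoc c, r.cc, one_mul]
  have e4 : h * a * h⁻¹ = u := by rw [← r.hu]; group
  have e3 : h * u * h⁻¹ = u * a := by
    have h3 : h * h = h⁻¹ := eq_inv_of_mul_eq_one_left (by rw [← r.hh]; simp [pow_succ])
    calc h * u * h⁻¹ = (h * h) * a * (h * h)⁻¹ := by rw [← e4]; group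
      _ = u * a := by rw [h3, inv_inv, r.ha]
  have e5 : h * c * h⁻¹ = u * a * c := by
    calc h * c * h⁻¹ = h * a * h⁻¹ * (h * (a * c) * h⁻¹) := by
          rw [show h * a * h⁻¹ * (h * (a * c) * h⁻¹) = h * (a * a * c) * h⁻¹ by group, r.aa, one_mul]
      _ = u * a * c := by rw [e4, hd'', mul_assoc]
  refine ⟨e1, e2, e3, e4, e5, ?_⟩
  calc h * d * h⁻¹ = h * c * h⁻¹ * (h * (c * d) * h⁻¹) := by
        rw [show h * c * h⁻¹ * (h * (c * d) * h⁻¹) = h * (c * c * d) * h⁻¹ by group, r.cc, one_mul]
    _ = u * a * d := by rw [e5, hg'', mul_assoc (u * a), ← mul_assoc c, r.cc, one_mul]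

theorem wval_rels (r : Rel a b c d u h) :
    ∀ w ∈ M12Order.cert.words.take M12Order.cert.nR, wval (gens7 a b c d u h) w = 1 := by
  obtain ⟨e1, e2, e3, e4, e5, e6⟩ := conj_images r
  let φ : G →* G := (MulAut.conj h⁻¹).toMonoidHom
  let ψ : G →* G := (MulAut.conj h).toMonoidHom
  have fa : φ a = u * a := by simp [φ, ← r.ha]
  have fu : φ u = a := by simp [φ, ← r.hu]
  have fb : φ b = h⁻¹ * b * h := by simp [φ]
  have fc : φ c = u * c := by simp [φ, ← e1]
  have fd : φ d = u * d := by simp [φ, ← e2]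
  have pa : ψ a = u := e4
  have pu : ψ u = u * a := e3
  have pb : ψ b = h * b * h⁻¹ := rfl
  have pc : ψ c = u * a * c := e5
  have pd : ψ d = u * a * d := e6
  have both : ∀ {x : G}, x = 1 → x = 1 ∧ φ x = 1 ∧ ψ x = 1 :=
    fun h => ⟨h, h ▸ map_one φ, h ▸ map_one ψ⟩
  have last : ψ (b * a * c * b) * φ (b * a * c * b) * (b * a * c * b) = 1 := by
    have hh : h * h = h⁻¹ := eq_inv_of_mul_eq_one_left (by rw [← r.hh]; simp [pow_succ])
    have := r.hr
    simp only [φ, ψ, MulEquiv.coe_toMonoidHom, MulAut.conj_apply, inv_inv]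
    calc h * (b * a * c * b) * h⁻¹ * (h⁻¹ * (b * a * c * b) * h) * (b * a * c * b)
        = h * (b * a * c * b) * (h⁻¹ * h⁻¹) * (b * a * c * b) * h * (b * a * c * b) := by group
      _ = (h * (b * a * c * b)) ^ 3 := by
        rw [← mul_inv_rev, hh, inv_inv]; simp [pow_succ, mul_assoc]
      _ = 1 := r.hr
  have hac : (u * a) * (u * c) = a * c := by
    have := r.ua
    rw [pow_two] at this
    calc (u * a) * (u * c) = (u * a) * (u * a) * (a * c) := by
          simp only [mul_assoc]; rw [← mul_assoc a a c, r.aa, one_mul]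
      _ = a * c := by rw [this, one_mul]
  have hac' : u * (u * a * c) = a * c := by rw [mul_assoc u a c, ← mul_assoc, r.uu, one_mul]
  have last' : h * b * h⁻¹ * (a * c) * (h * b * h⁻¹) * (h⁻¹ * b * h) * (a * c) * (h⁻¹ * b * h) *
      (b * a * c * b) = 1 := by
    rw [← last]
    simp only [map_mul, fa, fb, fc, pa, pb, pc]
    rw [mul_assoc (h⁻¹ * b * h) (u * a) (u * c), hac, mul_assoc (h * b * h⁻¹) u (u * a * c), hac']
    simp only [mul_assoc]
  obtain ⟨qaa, faa, paa⟩ := both r.aa
  obtain ⟨qcc, fcc, pcc⟩ := both r.cc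
  obtain ⟨qdd, fdd, pdd⟩ := both r.dd
  obtain ⟨qbb, fbb, pbb⟩ := both r.bb
  obtain ⟨qab, fab, pab⟩ := both r.ab
  obtain ⟨qbc, fbc, pbc⟩ := both r.bc
  obtain ⟨qcd, fcd, pcd⟩ := both r.cd
  obtain ⟨qac, fac, pac⟩ := both r.ac
  obtain ⟨qad, fad, pad⟩ := both r.ad
  obtain ⟨qbd, fbd, pbd⟩ := both r.bd
  obtain ⟨qua, fua, pua⟩ := both r.ua
  obtain ⟨qub, fub, pub⟩ := both r.ub
  obtain ⟨quc, fuc, puc⟩ := both r.uc
  obtain ⟨qud, fud, pud⟩ := both r.ud
  simp only [map_mul, fa, fb, fc, fd, fu, pa, pb, pc, pd, pu, pow_succ, pow_zero, one_mul,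
    mul_assoc] at *
  intro w hw
  simp only [M12Order.cert, List.take, List.mem_cons, List.not_mem_nil, or_false] at hw
  rcases hw with rfl | rfl | rfl | rfl | rfl | rfl | rfl | rfl | rfl | rfl | rfl | rfl | rfl | rfl |
    rfl | rfl | rfl | rfl | rfl | rfl | rfl | rfl | rfl | rfl | rfl | rfl | rfl | rfl | rfl | rfl |
    rfl | rfl | rfl <;>
  simp only [wval, one_mul, mul_assoc, List.getD_cons_zero, List.getD_cons_succ] <;>
  assumption

theorem wval_rot {s : ℕ → G} {m : ℕ} (hs : ∀ g, g < m → s g * s g = 1) {L : List (List ℕ)}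
    (hL : ∀ w ∈ L, wval s w = 1) {ws : List (List ℕ)}
    (hok : (ws.all fun w => w.isEmpty || (w.all (fun g => Nat.blt g m) &&
      (List.range w.length).any fun k =>
        L.contains (w.rotate k) || L.contains (w.rotate k).reverse)) = true) :
    ∀ w ∈ ws, wval s w = 1 := by
  have hrev : ∀ x : List ℕ, (∀ g ∈ x, g < m) → wval s x.reverse = (wval s x)⁻¹ := by
    intro x
    induction x with
    | nil => intro _; simp [wval]
    | cons g x ih =>
      intro hx
      rw [List.reverse_cons, wval_append, ih fun y hy => hx y (List.mem_cons_of_mem _ hy)]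
      simp only [wval, one_mul, mul_inv_rev]
      rw [inv_eq_of_mul_eq_one_right (hs g (hx g List.mem_cons_self))]
  have hrot : ∀ (w : List ℕ) (k : ℕ), wval s (w.rotate k) = 1 → wval s w = 1 := by
    intro w k hw
    rwa [List.rotate_eq_drop_append_take_mod, wval_append, mul_eq_one_comm, ← wval_append,
      List.take_append_drop] at hw
  intro w hw
  have := List.all_eq_true.1 hok w hw
  simp only [Bool.or_eq_true, Bool.and_eq_true, List.all_eq_true, List.any_eq_true,
    List.contains_eq_mem, decide_eq_true_eq, List.isEmpty_iff, Nat.blt_eq] at this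
  rcases this with rfl | ⟨hlt, k, -, hk | hk⟩
  · rfl
  · exact hrot w k (hL _ hk)
  · refine hrot w k ?_
    have := hL _ hk
    rwa [hrev _ (fun g hg => hlt g (List.mem_rotate.1 hg)), inv_eq_one] at this

theorem wval_map {H : Type*} [Group H] (f : H →* G) (s : ℕ → H) :
    ∀ w : List ℕ, f (wval s w) = wval (fun n => f (s n)) w
  | [] => map_one f
  | g :: w => by rw [wval, map_mul, wval_map f s w]; rfl

/-- The seven involutions generate a subgroup of order at most `1584 * 240`. -/
theorem Rel.card_closure_le [Finite G] (r : Rel a b c d u h) :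
    Nat.card (Subgroup.closure ({a, b, c, d, u, h⁻¹ * b * h, h * b * h⁻¹} : Set G)) ≤
      1584 * 240 := by
  let M := Subgroup.closure ({a, b, c, d, u, h⁻¹ * b * h, h * b * h⁻¹} : Set G)
  let A : M := ⟨a, Subgroup.subset_closure (by simp)⟩
  let B : M := ⟨b, Subgroup.subset_closure (by simp)⟩
  let C : M := ⟨c, Subgroup.subset_closure (by simp)⟩
  let D : M := ⟨d, Subgroup.subset_closure (by simp)⟩
  let U : M := ⟨u, Subgroup.subset_closure (by simp)⟩
  let s : ℕ → M := fun n => ([A, B, C, D, U, ⟨h⁻¹ * b * h, Subgroup.subset_closure (by simp)⟩,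
    ⟨h * b * h⁻¹, Subgroup.subset_closure (by simp)⟩] : List M).getD n 1
  let H : Subgroup M := Subgroup.closure {A, B, C, D, U}
  have hcoe : ∀ g, g < 7 → ((s g : M) : G) = gens7 a b c d u h g := by
    intro g hg; interval_cases g <;> rfl
  have hsq : ∀ g, g < 7 → s g * s g = 1 := fun g hg => Subtype.ext (by
    rw [Subgroup.coe_mul, hcoe g hg, gens7_sq r g hg, Subgroup.coe_one])
  have hR : ∀ w ∈ M12Order.cert.words.take M12Order.cert.nR, wval s w = 1 := by
    intro w hw
    have hlt : ((M12Order.cert.words.take M12Order.cert.nR).all fun w => w.all fun g => Nat.blt g 7)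
        = true := by decide +kernel
    have hw7 := List.all_eq_true.1 (List.all_eq_true.1 hlt w hw)
    refine Subtype.ext ?_
    rw [← Subgroup.coe_subtype, wval_map, map_one, ← wval_rels r w hw, wval_eq_prod,
      wval_eq_prod, List.map_congr_left fun g hg => ?_]
    exact hcoe g (Nat.blt_eq ▸ hw7 g hg)
  have hD : ∀ w ∈ M12Order.deriv.words.take M12Order.deriv.nR, wval s w = 1 :=
    wval_rot hsq (L := M12Order.cert.words.take M12Order.cert.nR ++
      [[0, 0], [1, 1], [2, 2], [3, 3], [4, 4], [5, 5], [6, 6]]) (by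
        intro w hw
        rcases List.mem_append.1 hw with hw | hw
        · exact hR w hw
        · simp only [List.mem_cons, List.not_mem_nil, or_false] at hw
          rcases hw with rfl | rfl | rfl | rfl | rfl | rfl | rfl <;>
            simpa [wval] using hsq _ (by decide)) (by decide +kernel)
  have hDK : ∀ w ∈ M12Order.deriv.words.drop M12Order.deriv.nR, wval s w ∈ H := by
    intro w hw
    simp only [M12Order.deriv, List.drop, List.mem_cons, List.not_mem_nil, or_false] at hw
    rcases hw with rfl | rfl | rfl | rfl | rfl <;>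
      exact Subgroup.subset_closure (by simp [wval, s])
  have hloops := DerivCert.loops_mem M12Order.deriv H M12Order.deriv_factsOK
    M12Order.deriv_loopsOK hsq hD hDK
  have hcheck : ((M12Order.cert.words.drop M12Order.cert.nR).all fun w =>
      (M12Order.deriv.words.drop M12Order.deriv.nR).contains w ||
      (M12Order.deriv.loops.map Prod.fst).contains w) = true := by decide +kernel
  have hK : ∀ w ∈ M12Order.cert.words.drop M12Order.cert.nR, wval s w ∈ H := by
    intro w hw
    have := List.all_eq_true.1 hcheck w hw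
    simp only [Bool.or_eq_true, List.contains_eq_mem, decide_eq_true_eq] at this
    exact this.elim (hDK w) (hloops w)
  have hi : H.index ≤ 1584 :=
    J1Unique.index_le M12Order.cert_edgesOK M12Order.cert_nodesOK H hsq hR hK (by
      change Subgroup.closure (s '' {g | g < 7}) = ⊤
      rw [eq_top_iff, ← Subgroup.closure_closure_coe_preimage
        (k := ({a, b, c, d, u, h⁻¹ * b * h, h * b * h⁻¹} : Set G))]
      refine Subgroup.closure_mono ?_
      rintro ⟨x, hx⟩ hxm
      simp only [Set.mem_preimage, Set.mem_insert_iff, Set.mem_singleton_iff] at hxm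
      rcases hxm with rfl | rfl | rfl | rfl | rfl | rfl | rfl
      exacts [⟨0, (by decide : 0 < 7), rfl⟩, ⟨1, (by decide : 1 < 7), rfl⟩,
        ⟨2, (by decide : 2 < 7), rfl⟩, ⟨3, (by decide : 3 < 7), rfl⟩, ⟨4, (by decide : 4 < 7), rfl⟩,
        ⟨5, (by decide : 5 < 7), rfl⟩, ⟨6, (by decide : 6 < 7), rfl⟩])
  let v : ℕ → H := fun n => ([(⟨A, Subgroup.subset_closure (by simp)⟩ : H),
    ⟨B, Subgroup.subset_closure (by simp)⟩, ⟨C, Subgroup.subset_closure (by simp)⟩,
    ⟨D, Subgroup.subset_closure (by simp)⟩,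
    ⟨U, Subgroup.subset_closure (by simp)⟩] : List H).getD n 1
  have hv : ∀ g, g < M12OrderC.cert.m → v g * v g = 1 := by
    intro g hg
    change g < 5 at hg
    interval_cases g <;> apply Subtype.ext <;> apply Subtype.ext <;>
      first | exact r.aa | exact r.bb | exact r.cc | exact r.dd | exact r.uu
  have hRv : ∀ w ∈ M12OrderC.cert.words.take M12OrderC.cert.nR, wval v w = 1 := by
    intro w hw
    simp only [M12OrderC.cert, List.take, List.mem_cons, List.not_mem_nil, or_false] at hw
    rcases hw with rfl | rfl | rfl | rfl | rfl | rfl | rfl | rfl | rfl | rfl <;>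
      apply Subtype.ext <;> apply Subtype.ext
    · simpa [wval, v, A, B, C, D, U, pow_succ, mul_assoc] using r.ua
    · simpa [wval, v, A, B, C, D, U, pow_succ, mul_assoc] using r.ub
    · simpa [wval, v, A, B, C, D, U, pow_succ, mul_assoc] using r.uc
    · simpa [wval, v, A, B, C, D, U, pow_succ, mul_assoc] using r.ud
    · simpa [wval, v, A, B, C, D, U, pow_succ, mul_assoc] using r.ac
    · simpa [wval, v, A, B, C, D, U, pow_succ, mul_assoc] using r.ad
    · simpa [wval, v, A, B, C, D, U, pow_succ, mul_assoc] using r.bd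
    · simpa [wval, v, A, B, C, D, U, pow_succ, mul_assoc] using r.ab
    · simpa [wval, v, A, B, C, D, U, pow_succ, mul_assoc] using r.bc
    · simpa [wval, v, A, B, C, D, U, pow_succ, mul_assoc] using r.cd
  have hgv : Subgroup.closure (v '' {g | g < M12OrderC.cert.m}) = ⊤ := by
    rw [eq_top_iff, ← Subgroup.closure_closure_coe_preimage (k := ({A, B, C, D, U} : Set M))]
    refine Subgroup.closure_mono ?_
    rintro ⟨x, hx⟩ hxm
    simp only [Set.mem_preimage, Set.mem_insert_iff, Set.mem_singleton_iff] at hxm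
    rcases hxm with rfl | rfl | rfl | rfl | rfl
    exacts [⟨0, (by decide : 0 < 5), rfl⟩, ⟨1, (by decide : 1 < 5), rfl⟩,
      ⟨2, (by decide : 2 < 5), rfl⟩, ⟨3, (by decide : 3 < 5), rfl⟩, ⟨4, (by decide : 4 < 5), rfl⟩]
  have hH : Nat.card H ≤ 240 := by
    have := J1Unique.index_le M12OrderC.cert_edgesOK M12OrderC.cert_nodesOK (⊥ : Subgroup H) hv hRv
      (fun w hw => by simp [M12OrderC.cert] at hw) hgv
    rwa [Subgroup.index_bot] at this
  calc Nat.card M = H.index * Nat.card H := (H.index_mul_card).symm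
    _ ≤ 1584 * 240 := Nat.mul_le_mul hi hH

end Cfsg.Agent.Order95040
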