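import Cfsg.Agent.Lib.Order95040.Block

/-!
# Character rows at elements of order prime to 11
-/

namespace Cfsg.Agent.Order95040

open scoped ComplexConjugate
open Cfsg Subgroup

set_option linter.style.haveILetI false

universe u

/-- A four-term list from a function. -/
theorem ofFn_four {A : Type*} (f : Fin 4 → A) : List.ofFn f = [f 0, f 1, f 2, f 3] := by
  simp [List.ofFn_succ]

theorem wOf_ofFn (z a : Fin 4 → ℤ) :
    wOf (List.ofFn z) (List.ofFn a) = signY (List.ofFn z) * (1 + ∑ i, sgnZ (z i) * a i) := by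
  rw [wOf]
  simp [ofFn_four z, ofFn_four a, Fin.sum_univ_four, add_assoc]

theorem linOf_ofFn (z a : Fin 4 → ℤ) :
    linOf (List.ofFn z) (List.ofFn a) = (denOf (List.ofFn z) : ℤ) +
      ∑ i, a i * ((denOf (List.ofFn z) / (z i).natAbs : ℕ) : ℤ) := by
  rw [linOf]
  simp [ofFn_four z, ofFn_four a, Fin.sum_univ_four]
  ring

theorem quadOf_ofFn (z a : Fin 4 → ℤ) :
    quadOf (List.ofFn z) (List.ofFn a) = (denOf (List.ofFn z) : ℤ) +
      ∑ i, sgnZ (z i) * a i * a i * ((denOf (List.ofFn z) / (z i).natAbs : ℕ) : ℤ) := by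
  rw [quadOf]
  simp [ofFn_four z, ofFn_four a, Fin.sum_univ_four]
  ring

theorem signY_sq (l : List ℤ) : signY l * signY l = 1 := by
  unfold signY
  cases decide (0 < 1 + l.sum) <;> rfl

theorem sgnZ_sq (z : ℤ) : sgnZ z * sgnZ z = 1 := by
  unfold sgnZ
  cases decide (0 < z) <;> rfl

/-- Membership in the candidate lists of values. -/
theorem mem_valueCands {md q C : ℕ} {z a : ℤ} (hC : C ≤ 8640) (hz : z ≠ 0)
    (hM : ((95040 / C : ℕ) : ℤ) * a % (z.natAbs : ℤ) = 0) (hsq : a * a ≤ (C : ℤ))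
    (hlt : a.natAbs < z.natAbs) (hcong : ((z.natAbs : ℤ) - a) % (md : ℤ) = 0)
    (hq : a = 0 ∨ q = 0 ∨ z.natAbs % q ≠ 0) : a ∈ valueCands md q C z := by
  set d := z.natAbs
  have hd : 0 < d := Int.natAbs_pos.2 hz
  set m := 95040 / C
  set s := d / Nat.gcd m d with hs
  have hgd : 0 < Nat.gcd m d := Nat.gcd_pos_of_pos_right _ hd
  have hs0 : 0 < s := Nat.div_pos (Nat.le_of_dvd hd (Nat.gcd_dvd_right m d)) hgd
  obtain ⟨j, hj⟩ : (s : ℤ) ∣ a := by
    have h1 : d ∣ m * a.natAbs := by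
      have := Int.natAbs_dvd_natAbs.2 (Int.dvd_of_emod_eq_zero hM)
      rwa [Int.natAbs_natCast, Int.natAbs_mul, Int.natAbs_natCast] at this
    have h2 : d / Nat.gcd m d ∣ (m / Nat.gcd m d) * a.natAbs := by
      obtain ⟨t, ht⟩ := h1
      refine ⟨t, Nat.eq_of_mul_eq_mul_left hgd ?_⟩
      rw [← mul_assoc, Nat.mul_div_cancel' (Nat.gcd_dvd_left m d), ← mul_assoc,
        Nat.mul_div_cancel' (Nat.gcd_dvd_right m d), ht]
    have h3 : s ∣ a.natAbs :=
      (Nat.coprime_div_gcd_div_gcd hgd).symm.dvd_of_dvd_mul_left h2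
    exact Int.natCast_dvd.2 h3
  have hj93 : j.natAbs ≤ 93 / s := by
    rw [Nat.le_div_iff_mul_le hs0]
    have h1 : a.natAbs = s * j.natAbs := by rw [hj, Int.natAbs_mul, Int.natAbs_natCast]
    have h2 : a.natAbs * a.natAbs ≤ 8640 := by
      have : ((a.natAbs * a.natAbs : ℕ) : ℤ) ≤ (C : ℤ) := by
        rw [Int.natAbs_mul_self]
        exact hsq
      have h3 : a.natAbs * a.natAbs ≤ C := by exact_mod_cast this
      omega
    nlinarith
  simp only [valueCands, List.mem_filter, List.mem_map, List.mem_range, Bool.and_eq_true,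
    Bool.or_eq_true, decide_eq_true_eq]
  refine ⟨⟨(j + (93 / s : ℕ)).toNat, ?_, ?_⟩, ⟨⟨hsq, hlt⟩, hcong⟩, by tauto⟩
  · show (j + ((93 / s : ℕ) : ℤ)).toNat < 2 * (93 / s) + 1
    generalize 93 / s = k at hj93 ⊢
    omega
  rw [Int.toNat_of_nonneg (by omega), add_sub_cancel_right, hj, mul_comm]

theorem mem_valueRows {md q C : ℕ} : ∀ {l v : List ℤ},
    List.Forall₂ (fun z a => a ∈ valueCands md q C z) l v → v ∈ valueRows md q C l := by
  intro l v h
  induction h with
  | nil => simp [valueRows]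
  | cons h _ ih => exact List.mem_flatMap.2 ⟨_, h, List.mem_map.2 ⟨_, ih, rfl⟩⟩

variable {G : Type u} [Group G] [Fintype G] [IsSimpleGroup G] (hG : Nat.card G = 95040)
include hG

/-- Centralisers of non-trivial elements of order prime to 11. -/
theorem cent_dvd {g : G} (hg : ¬ 11 ∣ orderOf g) (hg1 : g ≠ 1) :
    Nat.card (cent g) ∣ 8640 ∧ ¬ 11 ∣ Nat.card (cent g) := by
  haveI : Fact (Nat.Prime 11) := ⟨by norm_num⟩
  have h11 : ¬ 11 ∣ Nat.card (cent g) := by
    intro h
    obtain ⟨x', hx'⟩ := exists_prime_orderOf_dvd_card' (G := cent g) 11 h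
    have hxo : orderOf (x' : G) = 11 := by rw [Subgroup.orderOf_coe, hx']
    have hmem : g ∈ cent (x' : G) := Order7920.mem_C.2 (Order7920.mem_C.1 x'.2).symm
    have h2 := Subgroup.orderOf_dvd_natCard (cent (x' : G)) hmem
    rw [(eleven hG hxo).1] at h2
    rcases (Nat.dvd_prime (by norm_num : Nat.Prime 11)).1 h2 with e | e
    · exact hg1 (orderOf_eq_one_iff.1 e)
    · exact hg (e ▸ dvd_rfl)
  refine ⟨?_, h11⟩
  have hd : Nat.card (cent g) ∣ 11 * 8640 := by
    have := Subgroup.card_subgroup_dvd_card (cent g)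
    rwa [hG] at this
  exact ((Nat.Prime.coprime_iff_not_dvd (by norm_num)).2 h11).symm.dvd_of_dvd_mul_left hd

omit [IsSimpleGroup G] in
theorem index_cent (g : G) : (cent g).index = 95040 / Nat.card (cent g) := by
  rw [← hG, ← (cent g).index_mul_card, Nat.mul_div_cancel _ Nat.card_pos]

omit [IsSimpleGroup G] in
/-- The class size times a value is divisible by the degree. -/
theorem class_value_dvd {χ : IrrCharacter G} {g : G} {k : ℤ} (hk : χ.1 g = k) :
    ((95040 / Nat.card (cent g) : ℕ) : ℤ) * k % (Char.degree χ : ℤ) = 0 := by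
  obtain ⟨n, ρ, hρ, hρχ⟩ := χ.2
  haveI := hρ
  have hn : Char.degree χ = n := by
    have := Char.apply_one_eq_degree χ
    rw [← hρχ, ρ.char_one, Module.finrank_fin_fun] at this
    exact_mod_cast this.symm
  have h := CharInt.isIntegral_omega ρ g
  rw [CharInt.natCard_isConj, Module.finrank_fin_fun, hρχ, hk, ← hn, index_cent hG g] at h
  have hd0 : (Char.degree χ : ℂ) ≠ 0 := Nat.cast_ne_zero.2 (Char.degree_pos χ).ne'
  generalize 95040 / Nat.card (cent g) = m at h ⊢
  obtain ⟨z, hz⟩ := Char.exists_int_of_isIntegral_mul h (c := (Char.degree χ : ℤ))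
    (N := (m : ℤ) * k)
    (Int.natCast_ne_zero.2 (Char.degree_pos χ).ne') (by push_cast; field_simp)
  rw [div_eq_iff hd0] at hz
  have h2 : (m : ℤ) * k = z * Char.degree χ := by exact_mod_cast hz
  rw [h2]
  exact Int.mul_emod_left _ _

omit [IsSimpleGroup G] hG in
theorem Shape.theta_val {x : G} (S : Shape x) {g : G} (hg : ¬ 11 ∣ orderOf g) {a : Fin 4 → ℤ}
    (ha : ∀ i, (S.chi i).1 g = a i) :
    S.th.1 g = (wOf (List.ofFn S.z) (List.ofFn a) : ℂ) := by
  have h := S.rel g hg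
  simp only [ha] at h
  rw [wOf_ofFn]
  have hs : ((signY (List.ofFn S.z) : ℂ)) * (signY (List.ofFn S.z) : ℂ) = 1 := by
    exact_mod_cast signY_sq (List.ofFn S.z)
  push_cast
  rw [← h, ← mul_assoc, hs, one_mul]

omit [IsSimpleGroup G] hG in
/-- Structure constants at `x` only involve seven characters. -/
theorem Shape.pairs_eq {x : G} (S : Shape x) (a b g : G)
    (hv : ∀ χ : IrrCharacter G, χ.1 x = 0 → χ.1 g⁻¹ = 0) :
    (Nat.card (G2TwoRecog.Pairs a b g) : ℂ) = (Nat.card G : ℂ) *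
      ((Char.trivialChar G).1 a * (Char.trivialChar G).1 b * (Char.trivialChar G).1 g⁻¹ /
          (Char.trivialChar G).1 1 +
        ∑ i, (S.chi i).1 a * (S.chi i).1 b * (S.chi i).1 g⁻¹ / (S.chi i).1 1 +
        (S.th.1 a * S.th.1 b * S.th.1 g⁻¹ / S.th.1 1 +
          S.th'.1 a * S.th'.1 b * S.th'.1 g⁻¹ / S.th'.1 1)) := by
  classical
  rw [G2TwoRecog.card_pairs_eq a b g
    (insert (Char.trivialChar G) (Finset.univ.image S.chi ∪ {S.th, S.th'}))]
  · congr 1
    rw [Finset.sum_insert, Finset.sum_union, Finset.sum_image fun i _ j _ h => S.inj h,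
      Finset.sum_pair S.th_ne, ← add_assoc]
    · simp only [Finset.disjoint_left, Finset.mem_image, Finset.mem_univ, true_and, Finset.mem_insert,
        Finset.mem_singleton]
      rintro _ ⟨i, rfl⟩ (h | h)
      · exact (S.chi_ne i).2.1 h
      · exact (S.chi_ne i).2.2 h
    · simp only [Finset.mem_union, Finset.mem_image, Finset.mem_univ, true_and, Finset.mem_insert,
        Finset.mem_singleton, not_or, not_exists]
      exact ⟨fun i => (S.chi_ne i).1, fun h => S.th_triv.1 h.symm, fun h => S.th_triv.2 h.symm⟩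
  · intro χ hχ
    simp only [Finset.mem_union, Finset.mem_image, Finset.mem_univ, true_and, Finset.mem_insert,
      Finset.mem_singleton, not_or, not_exists] at hχ
    exact hv χ (S.vanish χ hχ.1 (fun i h => hχ.2.1 i h.symm) hχ.2.2.1 hχ.2.2.2)

omit [IsSimpleGroup G] hG in
theorem Shape.z_ne {x : G} (S : Shape x) (i : Fin 4) : (S.z i).natAbs ≠ 0 :=
  S.deg i ▸ (Char.degree_pos (S.chi i)).ne'

omit [IsSimpleGroup G] hG in
theorem Shape.den_pos {x : G} (S : Shape x) :
    0 < yOf (List.ofFn S.z) ∧ 0 < denOf (List.ofFn S.z) ∧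
      ∀ i, (S.z i).natAbs ∣ denOf (List.ofFn S.z) := by
  have h1 : 0 < yOf (List.ofFn S.z) := S.deg_th.1 ▸ Char.degree_pos S.th
  refine ⟨h1, ?_, fun i => ?_⟩
  · rw [denOf]
    refine Nat.mul_pos h1 (List.prod_pos ?_)
    intro a ha
    rw [List.map_ofFn, List.mem_ofFn] at ha
    obtain ⟨i, rfl⟩ := ha
    exact Nat.pos_of_ne_zero (S.z_ne i)
  · rw [denOf, List.map_ofFn]
    exact (List.dvd_prod (List.mem_ofFn.2 ⟨i, rfl⟩)).mul_left _

omit [IsSimpleGroup G] hG in
theorem div_den {d D : ℕ} (hd : d ≠ 0) (hdvd : d ∣ D) :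
    (D : ℂ) / (d : ℂ) = ((D / d : ℕ) : ℂ) := by
  rw [Nat.cast_div hdvd (Nat.cast_ne_zero.2 hd)]

/-- The two counts of factorisations of `x`. -/
theorem Shape.posTest_row {x : G} (S : Shape x) (hx : orderOf x = 11) {g : G} (hg : ¬ 11 ∣ orderOf g)
    {a : Fin 4 → ℤ} (ha : ∀ i, (S.chi i).1 g = a i) :
    posTest (Nat.card (cent g)) (List.ofFn S.z) (List.ofFn a) 6 = true ∧
      posTest (Nat.card (cent g)) (List.ofFn S.z) (List.ofFn a) (-5) = true := by
  obtain ⟨hy0, hD0, hdD⟩ := S.den_pos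
  set D := denOf (List.ofFn S.z)
  set y := yOf (List.ofFn S.z)
  have hyD : y ∣ D := dvd_mul_right _ _
  have hth := S.theta_val hg ha
  have hxi : orderOf x⁻¹ = 11 := by rw [orderOf_inv, hx]
  have main : ∀ (b : G) (k : ℤ), orderOf b = 11 →
      (∀ i, (S.chi i).1 b * (S.chi i).1 x⁻¹ = 1) → S.th.1 b * S.th.1 x⁻¹ + S.th'.1 b * S.th'.1 x⁻¹ = k →
      posTest (Nat.card (cent g)) (List.ofFn S.z) (List.ofFn a) k = true := by
    intro b k hb hchi hk
    have h := S.pairs_eq g b x fun χ h => by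
      rw [CharInt.char_inv (Char.irr_isCharacter χ), h, map_zero]
    obtain ⟨n, hn⟩ := G2TwoRecog.mul_card_centralizer_dvd g b x
    rw [hn, show Nat.card (Subgroup.centralizer ({b} : Set G)) = 11 from (eleven hG hb).1, hG] at h
    simp only [Char.trivialChar_apply, Char.apply_one_eq_degree, S.deg, S.deg_th, ha, hth,
      S.agree g hg] at h
    have hsum : ∀ i, (a i : ℂ) * (S.chi i).1 b * (S.chi i).1 x⁻¹ / ((S.z i).natAbs : ℂ) * (D : ℂ) =
        (a i : ℂ) * (((D / (S.z i).natAbs : ℕ) : ℤ) : ℂ) := fun i => by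
      rw [mul_assoc ((a i : ℂ)), hchi i, Int.cast_natCast, ← div_den (S.z_ne i) (hdD i)]
      ring
    obtain ⟨q, hq⟩ : ∃ q : Fin 4 → ℕ, ∀ i, D / (S.z i).natAbs = q i := ⟨_, fun _ => rfl⟩
    obtain ⟨qy, hqy⟩ : ∃ qy : ℕ, D / y = qy := ⟨_, rfl⟩
    simp only [hq] at hsum
    have hqyC : (qy : ℂ) = (D : ℂ) / (y : ℂ) := by rw [← hqy, div_den hy0.ne' hyD]
    have hkey : ((Nat.card (cent g) * n * D : ℕ) : ℂ) =
        ((8640 * (linOf (List.ofFn S.z) (List.ofFn a) +
          k * wOf (List.ofFn S.z) (List.ofFn a) * (qy : ℤ)) : ℤ) : ℂ) := by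
      rw [linOf_ofFn, show denOf (List.ofFn S.z) = D from rfl]
      simp only [hq]
      push_cast
      simp only [Int.cast_natCast] at hsum
      rw [Finset.sum_congr rfl fun i _ => (hsum i).symm, ← Finset.sum_mul, hqyC]
      push_cast at h
      linear_combination (D : ℂ) / 11 * h + 8640 * (wOf (List.ofFn S.z) (List.ofFn a) : ℂ) * (D : ℂ) /
        (y : ℂ) * hk
    have hkey' : ((Nat.card (cent g) * n * D : ℕ) : ℤ) = 8640 * (linOf (List.ofFn S.z) (List.ofFn a) +
          k * wOf (List.ofFn S.z) (List.ofFn a) * (qy : ℤ)) := Int.cast_injective (α := ℂ) (by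
      rw [← hkey]; norm_cast)
    simp only [posTest, Bool.and_eq_true, decide_eq_true_eq]
    rw [show denOf (List.ofFn S.z) = D from rfl, show yOf (List.ofFn S.z) = y from rfl, hqy]
    refine ⟨by have := Int.natCast_nonneg (Nat.card (cent g) * n * D); omega, ?_⟩
    rw [← hkey']
    refine Int.emod_eq_zero_of_dvd ⟨n, ?_⟩
    push_cast; ring
  have hconj : ∀ χ : IrrCharacter G, χ.1 x⁻¹ = conj (χ.1 x) := fun χ =>
    CharInt.char_inv (Char.irr_isCharacter χ) x
  constructor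
  · refine main x 6 hx (fun i => ?_) ?_
    · rw [hconj, S.val, map_intCast, ← Int.cast_mul, sgnZ_sq, Int.cast_one]
    · rw [hconj, hconj, S.sum_norm]; norm_num
  · refine main x⁻¹ (-5) hxi (fun i => ?_) ?_
    · rw [hconj, S.val, map_intCast, ← Int.cast_mul, sgnZ_sq, Int.cast_one]
    · have h := congrArg conj S.sum_sq
      simp only [map_add, map_mul, map_neg, map_ofNat, ← hconj] at h
      rw [h]; norm_num

/-- The number of factorisations of `x` into two conjugates of `g`. -/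
theorem Shape.pairs_row {x : G} (S : Shape x) {g : G} (hg : ¬ 11 ∣ orderOf g) {a : Fin 4 → ℤ}
    (ha : ∀ i, (S.chi i).1 g = a i) :
    ((Nat.card (G2TwoRecog.Pairs g g x) * denOf (List.ofFn S.z) : ℕ) : ℤ) =
      95040 * pairNum (List.ofFn S.z) (List.ofFn a) := by
  obtain ⟨hy0, hD0, hdD⟩ := S.den_pos
  set D := denOf (List.ofFn S.z)
  set y := yOf (List.ofFn S.z)
  have hyD : y ∣ D := dvd_mul_right _ _
  have hconj : ∀ χ : IrrCharacter G, χ.1 x⁻¹ = conj (χ.1 x) := fun χ =>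
    CharInt.char_inv (Char.irr_isCharacter χ) x
  have h := S.pairs_eq g g x fun χ h => by rw [hconj, h, map_zero]
  have hth := S.theta_val hg ha
  simp only [hconj, Char.trivialChar_apply, Char.apply_one_eq_degree, S.deg, S.deg_th, ha, hth,
    S.agree g hg, S.val, map_intCast, map_one, hG] at h
  have hs := congrArg conj S.sum_th
  simp only [map_add, map_neg, map_intCast] at hs
  obtain ⟨q, hq⟩ : ∃ q : Fin 4 → ℕ, ∀ i, D / (S.z i).natAbs = q i := ⟨_, fun _ => rfl⟩
  obtain ⟨qy, hqy⟩ : ∃ qy : ℕ, D / y = qy := ⟨_, rfl⟩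
  have hqyC : (qy : ℂ) = (D : ℂ) / (y : ℂ) := by rw [← hqy, div_den hy0.ne' hyD]
  have hqC : ∀ i, (q i : ℂ) = (D : ℂ) / ((S.z i).natAbs : ℂ) := fun i => by
    rw [← hq, div_den (S.z_ne i) (hdD i)]
  apply Int.cast_injective (α := ℂ)
  rw [pairNum, quadOf_ofFn, show denOf (List.ofFn S.z) = D from rfl,
    show yOf (List.ofFn S.z) = y from rfl, hqy]
  simp only [hq]
  push_cast
  rw [Finset.sum_congr rfl fun i _ => show
      (sgnZ (S.z i) : ℂ) * (a i : ℂ) * (a i : ℂ) * (q i : ℂ) =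
        (a i : ℂ) * (a i : ℂ) * (sgnZ (S.z i) : ℂ) / ((S.z i).natAbs : ℂ) * (D : ℂ) by
      rw [hqC]; ring, ← Finset.sum_mul, hqyC, h]
  push_cast
  linear_combination 95040 * (wOf (List.ofFn S.z) (List.ofFn a) : ℂ) ^ 2 * (D : ℂ) / (y : ℂ) * hs

/-- The general row lemma. -/
theorem Shape.base_row {x : G} (S : Shape x) {g : G} (hg : ¬ 11 ∣ orderOf g) (hg1 : g ≠ 1)
    {md q : ℕ} {a : Fin 4 → ℤ} (ha : ∀ i, (S.chi i).1 g = a i)
    (hcong : ∀ χ : IrrCharacter G, χ ≠ Char.trivialChar G → ∀ k : ℤ, χ.1 g = k →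
      ((Char.degree χ : ℤ) - k) % (md : ℤ) = 0)
    (hzero : ∀ i, q ≠ 0 → (S.z i).natAbs % q = 0 → a i = 0) :
    List.ofFn a ∈ valueRows md q (Nat.card (cent g)) (List.ofFn S.z) ∧
      baseTest md (Nat.card (cent g)) (List.ofFn S.z) (List.ofFn a) = true := by
  classical
  set C := Nat.card (cent g) with hC
  have hC8 : C ≤ 8640 := Nat.le_of_dvd (by norm_num) (cent_dvd hG hg hg1).1
  have hth := S.theta_val hg ha
  set w := wOf (List.ofFn S.z) (List.ofFn a)
  have hbound : ∀ χ : IrrCharacter G, χ ≠ Char.trivialChar G → ∀ k : ℤ, χ.1 g = k →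
      k.natAbs < Char.degree χ := fun χ hne k hk => by
    have := G2TwoRecog.abs_lt_degree (not_comm hG) hne hg1 hk
    omega
  have hsq : 1 + (∑ i, a i * a i) + 2 * (w * w) ≤ (C : ℤ) := by
    have horth := Char.sum_irr_mul_conj g g
    rw [if_pos (IsConj.refl g)] at horth
    simp only [Complex.mul_conj, ← Complex.ofReal_sum] at horth
    have hre : ∑ χ : IrrCharacter G, Complex.normSq (χ.1 g) = (C : ℝ) := by exact_mod_cast horth
    set F := insert (Char.trivialChar G) (Finset.univ.image S.chi ∪ {S.th, S.th'})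
    have hle : ∑ χ ∈ F, Complex.normSq (χ.1 g) ≤ (C : ℝ) := hre ▸
      Finset.sum_le_sum_of_subset_of_nonneg (Finset.subset_univ _) fun χ _ _ => Complex.normSq_nonneg _
    rw [Finset.sum_insert, Finset.sum_union, Finset.sum_image fun i _ j _ h => S.inj h,
      Finset.sum_pair S.th_ne] at hle
    · simp only [Char.trivialChar_apply, map_one, ha, S.agree g hg, hth, Complex.normSq_intCast] at hle
      have hle' : (((1 + (∑ i, a i * a i) + 2 * (w * w) : ℤ)) : ℝ) ≤ ((C : ℤ) : ℝ) := by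
        push_cast
        linarith
      exact_mod_cast hle'
    · simp only [Finset.disjoint_left, Finset.mem_image, Finset.mem_univ, true_and, Finset.mem_insert,
        Finset.mem_singleton]
      rintro _ ⟨i, rfl⟩ (h | h)
      · exact (S.chi_ne i).2.1 h
      · exact (S.chi_ne i).2.2 h
    · simp only [Finset.mem_union, Finset.mem_image, Finset.mem_univ, true_and, Finset.mem_insert,
        Finset.mem_singleton, not_or, not_exists]
      exact ⟨fun i => (S.chi_ne i).1, fun h => S.th_triv.1 h.symm, fun h => S.th_triv.2 h.symm⟩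
  have hai : ∀ i, a i ∈ valueCands md q C (S.z i) := fun i => by
    refine mem_valueCands hC8 (Int.natAbs_ne_zero.1 (S.z_ne i)) ?_ ?_ ?_ ?_ ?_
    · rw [← S.deg i]; exact class_value_dvd hG (ha i)
    · have h1 : a i * a i ≤ ∑ j, a j * a j :=
        Finset.single_le_sum (f := fun j => a j * a j) (fun j _ => mul_self_nonneg _) (Finset.mem_univ i)
      nlinarith [mul_self_nonneg w]
    · rw [← S.deg i]; exact hbound _ (S.chi_ne i).1 _ (ha i)
    · rw [← S.deg i]; exact hcong _ (S.chi_ne i).1 _ (ha i)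
    · by_cases hq : q = 0
      · exact Or.inr (Or.inl hq)
      · by_cases hz : (S.z i).natAbs % q = 0
        · exact Or.inl (hzero i hq hz)
        · exact Or.inr (Or.inr hz)
  refine ⟨mem_valueRows ?_, ?_⟩
  · rw [ofFn_four a, ofFn_four S.z]
    exact .cons (hai 0) (.cons (hai 1) (.cons (hai 2) (.cons (hai 3) .nil)))
  simp only [baseTest, Bool.and_eq_true, decide_eq_true_eq]
  refine ⟨⟨⟨?_, ?_⟩, ?_⟩, ?_⟩
  · rw [← S.deg_th.1]; exact hbound _ S.th_triv.1 _ hth
  · rw [← S.deg_th.1]; exact hcong _ S.th_triv.1 _ hth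
  · rw [← S.deg_th.1]; exact class_value_dvd hG hth
  · rw [List.map_ofFn, List.sum_ofFn]; exact hsq

end Cfsg.Agent.Order95040
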