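import Cfsg.Agent.Lib.Order95040.Five

/-!
# An involution of the larger kind is not a square
-/

namespace Cfsg.Agent.Order95040

open scoped ComplexConjugate
open Cfsg Subgroup

set_option linter.style.haveILetI false

universe u

theorem sq_le_of_abs {a : ℤ} {b : ℕ} (h : b ≤ a.natAbs) : ((b * b : ℕ) : ℤ) ≤ a * a := by
  rw [← Int.natAbs_mul_self]
  exact_mod_cast Nat.mul_le_mul h h

variable {G : Type u} [Group G] [Fintype G] [IsSimpleGroup G] (hG : Nat.card G = 95040)
include hG

/-- A real value at an element of order 4 of a perfect group. -/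
theorem value_four {f : G} (hf : f ^ 4 = 1) (χ : IrrCharacter G) (hreal : conj (χ.1 f) = χ.1 f)
    {k : ℤ} (hk : χ.1 (f ^ 2) = k) :
    ∃ a : ℤ, χ.1 f = a ∧ 8 ∣ (Char.degree χ : ℤ) + k - 2 * a := by
  classical
  obtain ⟨n, ρ, hρ, hρχ⟩ := χ.2
  obtain ⟨b, μ, hμ, hb⟩ := CharInt.exists_eigenbasis (f := ρ f) (m := 4) (by norm_num)
    (by rw [← map_pow, hf, map_one])
  have hdet : ∏ i, μ i = 1 := by
    rw [← CharInt.det_of_eigenbasis b hb, ← Clifford.detChar_eq χ ρ hρχ f,
      SelfCentThree.hom_eq_one (not_comm hG) (Clifford.detChar χ)]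
    rfl
  have he : ∀ i, ∃ e < 4, μ i = Complex.I ^ e := by
    intro i
    have h : (μ i - 1) * (μ i + 1) * ((μ i - Complex.I) * (μ i + Complex.I)) = 0 := by
      linear_combination hμ i - (μ i * μ i - 1) * Complex.I_sq
    rcases mul_eq_zero.1 h with h | h <;> rcases mul_eq_zero.1 h with h | h
    · exact ⟨0, by norm_num, by linear_combination h⟩
    · exact ⟨2, by norm_num, by rw [Complex.I_sq]; linear_combination h⟩
    · exact ⟨1, by norm_num, by linear_combination h⟩
    · exact ⟨3, by norm_num, by rw [Complex.I_pow_three]; linear_combination h⟩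
  choose e he4 heμ using he
  set R : ℕ → ℤ := fun e => (if e = 0 then 1 else 0) - (if e = 2 then 1 else 0) with hR
  set J : ℕ → ℤ := fun e => (if e = 1 then 1 else 0) - (if e = 3 then 1 else 0) with hJ
  have hdec : ∀ i, μ i = (R (e i) : ℂ) + (J (e i) : ℂ) * Complex.I ∧
      μ i ^ 2 = (((-1 : ℤ) ^ e i : ℤ) : ℂ) := fun i => by
    rw [heμ i]
    refine ⟨?_, ?_⟩
    · have := he4 i
      interval_cases h : e i <;> simp [hR, hJ, Complex.I_sq, Complex.I_pow_three]
    · rw [← pow_mul, mul_comm, pow_mul, Complex.I_sq]; push_cast; rfl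
  have htr : χ.1 f = ((∑ i, R (e i) : ℤ) : ℂ) + ((∑ i, J (e i) : ℤ) : ℂ) * Complex.I := by
    rw [← congrFun hρχ f, Representation.character, CharInt.trace_of_eigenbasis b hb]
    push_cast
    rw [Finset.sum_mul, ← Finset.sum_add_distrib]
    exact Finset.sum_congr rfl fun i _ => (hdec i).1
  have hJ0 : ∑ i, J (e i) = 0 := by
    have h := congrArg Complex.im hreal
    rw [Complex.conj_im, htr] at h
    simp only [Complex.add_im, Complex.intCast_im, Complex.mul_im, Complex.intCast_re, Complex.I_im,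
      Complex.I_re, mul_one, mul_zero, zero_add, add_zero] at h
    have h' : ((∑ i, J (e i) : ℤ) : ℝ) = 0 := by linarith
    exact_mod_cast h'
  refine ⟨∑ i, R (e i), by rw [htr, hJ0]; simp, ?_⟩
  have hk' : k = ∑ i, (-1 : ℤ) ^ e i := by
    apply Int.cast_injective (α := ℂ)
    rw [← hk, ← congrFun hρχ (f ^ 2), Representation.character, map_pow,
      CharInt.trace_of_eigenbasis b (μ := fun i => μ i ^ 2)
        (fun i => CharInt.pow_apply_eigenvector b hb 2 i), Int.cast_sum]
    exact Finset.sum_congr rfl fun i _ => (hdec i).2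
  have hd : (Char.degree χ : ℤ) = ∑ _i : Fin (Module.finrank ℂ (Fin n → ℂ)), (1 : ℤ) := by
    have h1 := Char.apply_one_eq_degree χ
    rw [← congrFun hρχ 1, Representation.char_one] at h1
    rw [Finset.sum_const, Finset.card_univ, Fintype.card_fin, nsmul_one]
    exact_mod_cast h1.symm
  have h4 : 4 ∣ ∑ i, e i := by
    have h : Complex.I ^ (∑ i, e i) = 1 := by
      rw [← Finset.prod_pow_eq_pow_sum, ← Finset.prod_congr rfl fun i _ => heμ i, hdet]
    rw [Complex.I_pow_eq_pow_mod] at h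
    have hlt := Nat.mod_lt (∑ i, e i) (show 0 < 4 by norm_num)
    refine Nat.dvd_of_mod_eq_zero ?_
    interval_cases h' : (∑ i, e i) % 4
    · rfl
    · simp [Complex.ext_iff] at h
    · rw [Complex.I_sq] at h; norm_num at h
    · rw [Complex.I_pow_three] at h; simp [Complex.ext_iff] at h
  -- `e = J + 2 [e = 2] + 4 [e = 3]`
  have hB : (∑ i, (e i : ℤ)) = ∑ i, J (e i) + 2 * ∑ i, (if e i = 2 then (1 : ℤ) else 0) +
      4 * ∑ i, (if e i = 3 then (1 : ℤ) else 0) := by
    rw [Finset.mul_sum, Finset.mul_sum, ← Finset.sum_add_distrib, ← Finset.sum_add_distrib]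
    refine Finset.sum_congr rfl fun i _ => ?_
    have := he4 i
    interval_cases h : e i <;> simp [hJ]
  have h8 : (Char.degree χ : ℤ) + k - 2 * ∑ i, R (e i) = 4 * ∑ i, (if e i = 2 then (1 : ℤ) else 0) := by
    rw [hd, hk', Finset.mul_sum, Finset.mul_sum, ← Finset.sum_add_distrib, ← Finset.sum_sub_distrib]
    refine Finset.sum_congr rfl fun i _ => ?_
    have := he4 i
    interval_cases h : e i <;> simp [hR]
  rw [h8]
  have h4' : (4 : ℤ) ∣ ∑ i, (e i : ℤ) := by exact_mod_cast h4
  omega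

set_option maxHeartbeats 1000000 in
/-- An involution of the larger kind is not a square. -/
theorem not_square {x : G} (hx : orderOf x = 11) (S : Shape x) (hl : List.ofFn S.z = theDegs) {f : G}
    (hf : orderOf f = 4) (hreal : ∀ i, conj ((S.chi i).1 f) = (S.chi i).1 f)
    (hreal' : conj (S.th.1 f) = S.th.1 f) : Nat.card (cent (f * f)) ≠ 240 := by
  classical
  intro h240
  haveI : Fact (Nat.Prime 5) := ⟨by norm_num⟩
  rw [← pow_two] at h240
  have hu : orderOf (f ^ 2) = 2 := by rw [orderOf_pow' f two_ne_zero, hf]; rfl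
  have hf4 : f ^ 4 = 1 := hf ▸ pow_orderOf_eq_one f
  have hg : ¬ 11 ∣ orderOf f := not_dvd_eleven hf (by norm_num)
  have hf1 : f ≠ 1 := fun e => by rw [e, orderOf_one] at hf; omega
  obtain ⟨a, ha, hCm, hmem, htest⟩ := S.inv_row hG hx hu
  rw [hl] at hmem htest
  have hrow : List.ofFn a = [0, 6, 5, 4] := by
    rcases scan_inv _ hCm _ hmem htest with ⟨h, -⟩ | ⟨-, h⟩
    · omega
    · exact h
  rw [ofFn_four] at hrow
  simp only [List.cons.injEq, and_true] at hrow
  obtain ⟨-, ha1, ha2, ha3⟩ := hrow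
  have hz : S.z 1 = -54 ∧ S.z 2 = 45 ∧ S.z 3 = 144 := by
    rw [ofFn_four, theDegs] at hl
    simp only [List.cons.injEq, and_true] at hl
    exact ⟨hl.2.1, hl.2.2.1, hl.2.2.2⟩
  have hw : S.th.1 (f ^ 2) = ((4 : ℤ) : ℂ) := by
    rw [S.theta_val (not_dvd_eleven hu (by norm_num)) ha, hl,
      show List.ofFn a = [0, 6, 5, 4] by
        rcases scan_inv _ hCm _ hmem htest with ⟨h, -⟩ | ⟨-, h⟩
        · omega
        · exact h]
    exact congrArg _ (by decide)
  have hth : Char.degree S.th = 16 := by rw [S.deg_th.1, hl]; rfl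
  choose c hc hc8 using fun i => value_four hG hf4 (S.chi i) (hreal i) (ha i)
  obtain ⟨w, hwv, hw8⟩ := value_four hG hf4 S.th hreal' hw
  have e1 := hc8 1
  have e2 := hc8 2
  have e3 := hc8 3
  rw [S.deg, hz.1, ha1] at e1
  rw [S.deg, hz.2.1, ha2] at e2
  rw [S.deg, hz.2.2, ha3] at e3
  rw [hth] at hw8
  norm_num at e1 e2 e3 hw8
  obtain ⟨-, hbase⟩ := S.base_row hG hg hf1 (md := 1) (q := 0) hc
    (fun χ _ k _ => by simp) (fun i h => absurd rfl h)
  simp only [baseTest, Bool.and_eq_true, decide_eq_true_eq] at hbase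
  have hwe : wOf (List.ofFn S.z) (List.ofFn c) = w := by
    have := (S.theta_val hg hc).symm.trans hwv
    exact_mod_cast this
  have hsq := hbase.2
  rw [hwe, List.map_ofFn, List.sum_ofFn, Fin.sum_univ_four] at hsq
  simp only [Function.comp_apply] at hsq
  -- the centraliser of `f`
  set C := Nat.card (cent f) with hC
  have hle : cent f ≤ cent (f ^ 2) := fun g hg' =>
    Order7920.mem_C.2 (Commute.pow_right (Order7920.mem_C.1 hg') 2)
  have h5 : ¬ 5 ∣ C := fun h => by
    obtain ⟨y', hy'⟩ := exists_prime_orderOf_dvd_card' (G := cent f) 5 h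
    have h1 := Subgroup.orderOf_dvd_natCard (cent (y' : G))
      (Order7920.mem_C.2 (Order7920.mem_C.1 y'.2).symm : f ∈ cent (y' : G))
    rw [(five hG (show orderOf (y' : G) = 5 by rw [Subgroup.orderOf_coe, hy'])).1, hf] at h1
    norm_num at h1
  have h48 : C ∣ 48 := by
    have := card_dvd_of_le hle
    rw [h240] at this
    exact ((Nat.Prime.coprime_iff_not_dvd (by norm_num : Nat.Prime 5)).2 h5).symm.dvd_of_dvd_mul_left
      ((show (5 * 48 : ℕ) = 240 by norm_num).symm ▸ this)
  have q0 : 0 ≤ c 0 * c 0 := mul_self_nonneg _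
  have q1 : 4 ≤ c 1 * c 1 := by simpa using sq_le_of_abs (b := 2) (a := c 1) (by omega)
  have q2 : 1 ≤ c 2 * c 2 := by simpa using sq_le_of_abs (b := 1) (a := c 2) (by omega)
  have q3 : 4 ≤ c 3 * c 3 := by simpa using sq_le_of_abs (b := 2) (a := c 3) (by omega)
  have qw : 4 ≤ w * w := by simpa using sq_le_of_abs (b := 2) (a := w) (by omega)
  have hkey : ∀ C ∈ Nat.divisors 48, 18 ≤ C → 95040 / C % 27 ≠ 0 ∧ (C = 24 ∨ C = 48) := by
    decide +kernel
  obtain ⟨h9, hC'⟩ := hkey C (Nat.mem_divisors.2 ⟨h48, by norm_num⟩) (by omega)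
  have hdiv := class_value_dvd hG (χ := S.chi 1) (hc 1)
  rw [S.deg, hz.1, ← hC] at hdiv
  have h3 : 6 ≤ (c 1).natAbs := by
    rcases hC' with h | h <;> rw [h] at hdiv <;> norm_num at hdiv <;> omega
  have q1' : 36 ≤ c 1 * c 1 := by simpa using sq_le_of_abs h3
  omega

end Cfsg.Agent.Order95040
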