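import Cfsg.Agent.Lib.Order95040.Rows
import Cfsg.Agent.Lib.Blocks.PrimePowerDegree
import Cfsg.Agent.Lib.CharInt.Congruence

/-!
# General facts on values and degrees of characters in order 95040
-/

namespace Cfsg.Agent.Order95040

open scoped ComplexConjugate
open Cfsg Subgroup

set_option linter.style.haveILetI false

universe u

variable {G : Type u} [Group G] [Fintype G]

/-- An integral value is congruent to the value at the `p`-th power. -/
theorem value_pow_mod {p : ℕ} (hp : p.Prime) (χ : IrrCharacter G) (g : G) {k m : ℤ}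
    (hk : χ.1 g = k) (hm : χ.1 (g ^ p) = m) : (p : ℤ) ∣ k - m := by
  haveI := Fact.mk hp
  have h := CharInt.char_pow_sub_isIntegral (Char.irr_isCharacter χ) g hp 1
  rw [pow_one, hk, hm] at h
  have h1 : (p : ℤ) ∣ k ^ p - m := CharInt.dvd_of_isIntegral_div hp.ne_zero (by push_cast; exact h)
  have h2 : (p : ℤ) ∣ k ^ p - k := by
    rw [← ZMod.intCast_zmod_eq_zero_iff_dvd]
    push_cast
    rw [ZMod.pow_card, sub_self]
  have := dvd_sub h1 h2
  rwa [sub_sub_sub_cancel_left] at this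

/-- An integral value at an element of prime order is congruent to the degree. -/
theorem value_degree_mod {p : ℕ} (hp : p.Prime) (χ : IrrCharacter G) {g : G} (hg : g ^ p = 1) {k : ℤ}
    (hk : χ.1 g = k) : (p : ℤ) ∣ (Char.degree χ : ℤ) - k := by
  have := value_pow_mod hp χ g hk (m := (Char.degree χ : ℤ))
    (by rw [hg, Char.apply_one_eq_degree, Int.cast_natCast])
  rwa [dvd_sub_comm] at this

variable [IsSimpleGroup G] (hG : Nat.card G = 95040)
include hG

theorem degree_ne_one {χ : IrrCharacter G} (h : χ ≠ Char.trivialChar G) : Char.degree χ ≠ 1 :=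
  fun h1 => h <| Blocks.eq_trivial_of_degree_one (noncomm hG) χ
    (by rw [Char.apply_one_eq_degree, h1, Nat.cast_one])

omit [IsSimpleGroup G] in
theorem degree_le (χ : IrrCharacter G) : Char.degree χ * Char.degree χ ≤ 95040 ∧ Char.degree χ < 309 := by
  have h1 : Char.degree χ * Char.degree χ ≤ 95040 := by
    rw [← hG, ← Char.sum_degree_sq, ← pow_two]
    exact Finset.single_le_sum (f := fun χ => Char.degree χ ^ 2) (fun _ _ => Nat.zero_le _)
      (Finset.mem_univ χ)
  exact ⟨h1, by nlinarith⟩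

omit [IsSimpleGroup G] in
/-- The degree of a character outside the principal 11-block. -/
theorem Shape.dvd_degree {x : G} (S : Shape x) (hx : orderOf x = 11) {χ : IrrCharacter G}
    (hT : χ ≠ Char.trivialChar G) (hi : ∀ i, χ ≠ S.chi i) (h1 : χ ≠ S.th) (h2 : χ ≠ S.th') :
    11 ∣ Char.degree χ := by
  have h := value_degree_mod (by norm_num : Nat.Prime 11) χ (k := 0)
    (by rw [← hx, pow_orderOf_eq_one]) (by rw [S.vanish χ hT hi h1 h2, Int.cast_zero])
  rw [sub_zero] at h
  exact_mod_cast h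

/-- An element of order 11 is not conjugate to its inverse. -/
theorem not_isConj_inv {x : G} (hx : orderOf x = 11) : ¬ IsConj x x⁻¹ := by
  intro h
  obtain ⟨g, hg⟩ := isConj_iff.1 h
  have hgN : g ∈ normalizer (zpowers x : Set G) := by
    have hmap : (zpowers x).map (MulAut.conj g).toMonoidHom = zpowers x := by
      rw [MonoidHom.map_zpowers]
      show zpowers (g * x * g⁻¹) = _
      rw [hg, zpowers_inv]
    refine mem_normalizer_iff.2 fun w => ⟨fun hy => hmap ▸ ⟨w, hy, rfl⟩, fun hy => ?_⟩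
    obtain ⟨v, hv, hv'⟩ := hmap.symm ▸ hy
    have : v = w := by simpa using hv'
    exact this ▸ hv
  have h55 : g ^ 55 = 1 := by
    have := pow_card_eq_one' (x := (⟨g, hgN⟩ : normalizer (zpowers x : Set G)))
    rw [(eleven hG hx).2] at this
    simpa using congrArg Subtype.val this
  have hk : g * x * g⁻¹ = x ^ 10 := by
    rw [hg, inv_eq_iff_mul_eq_one, ← pow_succ', show (10 + 1 : ℕ) = orderOf x by omega,
      pow_orderOf_eq_one]
  have h1 := Order7920.conj_pow_pow hk 55
  rw [h55, inv_one, one_mul, mul_one] at h1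
  have h1' : x ^ 1 = x ^ 10 ^ 55 := by rw [pow_one]; exact h1
  rw [pow_eq_pow_iff_modEq, hx] at h1'
  revert h1'
  decide +kernel

omit [IsSimpleGroup G] hG in
theorem not_dvd_eleven {g : G} {n : ℕ} (hg : orderOf g = n) (hn : ¬ 11 ∣ n) : ¬ 11 ∣ orderOf g :=
  hg ▸ hn

/-- The row of values at an involution. -/
theorem Shape.inv_row {x : G} (S : Shape x) (hx : orderOf x = 11) {t : G} (ht : orderOf t = 2) :
    ∃ a : Fin 4 → ℤ, (∀ i, (S.chi i).1 t = a i) ∧
      Nat.card (cent t) ∈ centOrders 2 ∧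
      List.ofFn a ∈ valueRows 4 0 (Nat.card (cent t)) (List.ofFn S.z) ∧
      invTest (Nat.card (cent t)) (List.ofFn S.z) (List.ofFn a) = true := by
  classical
  have ht1 : t ≠ 1 := fun e => by rw [e, orderOf_one] at ht; omega
  have hg : ¬ 11 ∣ orderOf t := not_dvd_eleven ht (by norm_num)
  have htt : t * t = 1 := by rw [← pow_two, ← ht, pow_orderOf_eq_one]
  have hex : ∀ i, ∃ k : ℤ, (S.chi i).1 t = k := fun i => by
    obtain ⟨m, -, -, -, hm⟩ := Order7920.involution_value (noncomm hG) _ (S.chi_ne i).1 ht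
    exact ⟨(Char.degree (S.chi i) : ℤ) - 2 * m, by rw [hm]; push_cast; ring⟩
  choose a ha using hex
  obtain ⟨hmem, hbase⟩ := S.base_row hG hg ht1 (md := 4) (q := 0) ha
    (fun χ _ k hk => Int.emod_eq_zero_of_dvd
      (G2TwoRecog.dvd_degree_sub (not_comm hG) htt χ hk))
    (fun i h => absurd rfl h)
  obtain ⟨hp6, hp5⟩ := S.posTest_row hG hx hg ha
  have hpair : pairNum (List.ofFn S.z) (List.ofFn a) = 0 := by
    haveI : IsEmpty (G2TwoRecog.Pairs t t x) := ⟨by
      rintro ⟨⟨g₁, g₂⟩, hp⟩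
      refine not_isConj_inv hG hx (isConj_iff.2 ⟨g₁ * t * g₁⁻¹, ?_⟩)
      simp only at hp
      have hti : t⁻¹ = t := inv_eq_of_mul_eq_one_right htt
      calc g₁ * t * g₁⁻¹ * x * (g₁ * t * g₁⁻¹)⁻¹
          = g₁ * t * g₁⁻¹ * (g₁ * t * g₁⁻¹ * (g₂ * t * g₂⁻¹)) * (g₁ * t⁻¹ * g₁⁻¹) := by
            rw [hp]; group
        _ = g₁ * (t * t) * g₁⁻¹ * (g₂ * t * g₂⁻¹ * (g₁ * t * g₁⁻¹)) := by rw [hti]; group
        _ = g₂ * t⁻¹ * g₂⁻¹ * (g₁ * t⁻¹ * g₁⁻¹) := by rw [htt, hti]; group
        _ = (g₁ * t * g₁⁻¹ * (g₂ * t * g₂⁻¹))⁻¹ := by group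
        _ = x⁻¹ := by rw [hp]⟩
    have h := S.pairs_row hG hg ha
    rw [Nat.card_of_isEmpty, zero_mul] at h
    push_cast at h
    omega
  refine ⟨a, ha, ?_, hmem, ?_⟩
  · have h2 : 2 ∣ Nat.card (cent t) := by
      have := Subgroup.orderOf_dvd_natCard (cent t) (Order7920.mem_C.2 (rfl : t * t = t * t))
      rwa [ht] at this
    obtain ⟨j, hj⟩ := h2
    have h8 := (cent_dvd hG hg ht1).1
    have h8' := Nat.le_of_dvd (by norm_num) h8
    have hpos : 0 < Nat.card (cent t) := Nat.card_pos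
    simp only [centOrders, List.mem_filter, List.mem_map, List.mem_range, decide_eq_true_eq]
    exact ⟨⟨j - 1, by omega, by omega⟩, Nat.mod_eq_zero_of_dvd h8⟩
  · simp only [invTest, hbase, hp6, hp5, Bool.true_and, decide_eq_true_eq]
    exact hpair

omit [IsSimpleGroup G] in
/-- Characters of degree divisible by 5 vanish at elements of order divisible by 5. -/
theorem zero_five {χ : IrrCharacter G} (hd : 5 ∣ Char.degree χ) {g : G} (hg : 5 ∣ orderOf g) :
    χ.1 g = 0 := by
  haveI : Fact (Nat.Prime 5) := ⟨by norm_num⟩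
  obtain ⟨M, hM⟩ := CharInt.exists_isPModular_of_prime (q := 5) (by norm_num)
  haveI := hM.2.1
  refine Blocks.apply_eq_zero_of_defect_zero hM.2.2 χ (le_antisymm ?_ ?_) fun hreg => hreg hg
  · exact (Nat.factorization_le_iff_dvd (Char.degree_pos χ).ne' Nat.card_pos.ne').2
      (Char.degree_dvd_natCard χ) 5
  · rw [factorization_five hG]
    exact (Fact.out : Nat.Prime 5).factorization_pos_of_dvd (Char.degree_pos χ).ne' hd

/-- A character of degree 5 forbids non-trivial centralisation of elements of order 5. -/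
theorem no_degree_five {χ : IrrCharacter G} (hχ : Char.degree χ = 5) {y : G} (hy : orderOf y = 5) :
    Nat.card (cent y) = 5 := by
  classical
  by_contra hne
  haveI : Fact (Nat.Prime 5) := ⟨by norm_num⟩
  obtain ⟨e, -, -, -, -, hc5, -, -, -⟩ := local_data hG (factorization_five hG) hy
  obtain ⟨V, hV⟩ := hc5
  have hV5 : ¬ 5 ∣ V := by
    rintro ⟨W, rfl⟩
    have h := card_subgroup_dvd_card (cent y)
    rw [hG, hV] at h
    have h25 : 25 ∣ 95040 := (Dvd.intro W (by ring : 25 * W = 5 * (5 * W))).trans h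
    norm_num at h25
  have hV1 : V ≠ 1 := fun h => hne (by rw [hV, h])
  obtain ⟨p, hp, hpV⟩ := Nat.exists_prime_and_dvd hV1
  haveI := Fact.mk hp
  have hp5 : p ≠ 5 := fun h => hV5 (h ▸ hpV)
  obtain ⟨r', hr'⟩ := exists_prime_orderOf_dvd_card' (G := cent y) p (hV ▸ hpV.mul_left 5)
  have hr : orderOf (r' : G) = p := by rw [Subgroup.orderOf_coe, hr']
  have hc : Commute (r' : G) y := Order7920.mem_C.1 r'.2
  set g := (r' : G) * y with hg
  have hcop : Nat.Coprime p 5 := (Nat.coprime_primes hp (by norm_num)).2 hp5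
  have hgo : orderOf g = p * 5 := by
    rw [hg, hc.orderOf_mul_eq_mul_orderOf_of_coprime (by rw [hr, hy]; exact hcop), hr, hy]
  obtain ⟨n, μ, hn, hμ, hval⟩ := CharInt.exists_roots (Char.irr_isCharacter χ) g
  have hn5 : n = 5 := by
    apply Nat.cast_injective (R := ℂ)
    rw [← hn, Char.apply_one_eq_degree, hχ]
  subst hn5
  have hvan : ∀ a : ℕ, ∀ j : ℕ, ¬ 5 ∣ j → χ.1 (g ^ (5 * a + p * j)) = 0 := fun a j hj => by
    refine zero_five hG (by rw [hχ]) ?_
    have hm : ¬ 5 ∣ 5 * a + p * j := fun h => by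
      rcases ((Fact.out : Nat.Prime 5).dvd_mul).1 ((Nat.dvd_add_right (dvd_mul_right 5 a)).1 h)
        with h' | h'
      · exact hp5 ((Nat.prime_dvd_prime_iff_eq (Fact.out : Nat.Prime 5) hp).1 h').symm
      · exact hj h'
    have hm0 : 5 * a + p * j ≠ 0 := fun h => hm (h ▸ dvd_zero 5)
    rw [orderOf_pow' g hm0, hgo]
    have h5 : Nat.Coprime 5 (Nat.gcd (p * 5) (5 * a + p * j)) :=
      ((Fact.out : Nat.Prime 5).coprime_iff_not_dvd).2 fun h => hm (h.trans (Nat.gcd_dvd_right _ _))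
    exact (Nat.dvd_div_iff_mul_dvd (Nat.gcd_dvd_left _ _)).2
      (h5.symm.mul_dvd_of_dvd_of_dvd (Nat.gcd_dvd_left _ _) (dvd_mul_left 5 p))
  -- the eigenspace of `g ^ 5` through the first eigenvalue has dimension divisible by 5
  set c := μ 0 ^ 5 with hcdef
  have hc0 : c ≠ 0 := fun h => by
    have := hμ 0
    rw [hgo, mul_comm p 5, pow_mul, ← hcdef, h, zero_pow hp.ne_zero] at this
    exact zero_ne_one this
  have hroot : ∀ i, (μ i ^ 5) ^ p = 1 := fun i => by rw [← pow_mul, mul_comm, ← hgo]; exact hμ i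
  set T := Finset.univ.filter fun i => μ i ^ 5 = c with hT
  have hgeom : ∀ i, ∑ a ∈ Finset.range p, (c⁻¹ * μ i ^ 5) ^ a = if μ i ^ 5 = c then (p : ℂ) else 0 := by
    intro i
    split_ifs with h
    · simp [h, inv_mul_cancel₀ hc0]
    · have hne' : c⁻¹ * μ i ^ 5 ≠ 1 := fun h' => h (by
        have := congrArg (c * ·) h'
        simpa [mul_inv_cancel_left₀ hc0] using this)
      rw [geom_sum_eq hne', mul_pow, hroot i, inv_pow, hcdef, hroot 0, inv_one, one_mul, sub_self,
        zero_div]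
  have hT0 : ∀ j : ℕ, ¬ 5 ∣ j → ∑ i ∈ T, μ i ^ (p * j) = 0 := by
    intro j hj
    have h : (∑ a ∈ Finset.range p, c⁻¹ ^ a * χ.1 (g ^ (5 * a + p * j))) = 0 :=
      Finset.sum_eq_zero fun a _ => by rw [hvan a j hj, mul_zero]
    rw [show (∑ a ∈ Finset.range p, c⁻¹ ^ a * χ.1 (g ^ (5 * a + p * j))) =
        ∑ i, μ i ^ (p * j) * ∑ a ∈ Finset.range p, (c⁻¹ * μ i ^ 5) ^ a by
      simp only [hval, Finset.mul_sum]
      rw [Finset.sum_comm]
      exact Finset.sum_congr rfl fun i _ => Finset.sum_congr rfl fun a _ => by ring] at h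
    simp only [hgeom, mul_ite, mul_zero, ← Finset.sum_filter, ← Finset.sum_mul] at h
    exact (mul_eq_zero.1 h).resolve_right (Nat.cast_ne_zero.2 hp.ne_zero)
  have hdvd : ((5 * (T.filter fun i => μ i ^ p = 1).card : ℕ) : ℂ) = (T.card : ℂ) := by
    have h : ∀ i, ∑ j ∈ Finset.range 5, μ i ^ (p * j) = if μ i ^ p = 1 then (5 : ℂ) else 0 := fun i => by
      split_ifs with h
      · simp [pow_mul, h]
      · simp only [pow_mul]
        rw [geom_sum_eq h, ← pow_mul, ← hgo, hμ i, sub_self, zero_div]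
    have h1 : ∑ j ∈ Finset.range 5, ∑ i ∈ T, μ i ^ (p * j) = (T.card : ℂ) := by
      rw [Finset.sum_eq_single 0]
      · simp
      · intro j hj hj0
        refine hT0 j fun h => hj0 ?_
        exact Nat.eq_zero_of_dvd_of_lt h (Finset.mem_range.1 hj)
      · simp
    rw [Finset.sum_comm, Finset.sum_congr rfl fun i _ => h i, ← Finset.sum_filter, Finset.sum_const,
      nsmul_eq_mul] at h1
    push_cast
    linear_combination h1
  have hall : T = Finset.univ := by
    have h1 : 5 * (T.filter fun i => μ i ^ p = 1).card = T.card := by exact_mod_cast hdvd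
    have h0 : 0 < T.card := Finset.card_pos.2 ⟨0, by simp [hT, hcdef]⟩
    refine Finset.eq_univ_of_card T ?_
    have := Finset.card_le_univ T
    simp only [Fintype.card_fin] at this ⊢
    omega
  have hval5 : χ.1 (g ^ 5) = 5 * c := by
    rw [hval, Finset.sum_congr rfl fun i hi => (Finset.mem_filter.1 (hall.symm ▸ hi : i ∈ T)).2]
    simp
  have hnorm : ‖χ.1 (g ^ 5)‖ = ‖χ.1 1‖ := by
    rw [hval5, hn, norm_mul, CharInt.norm_eq_one_of_pow_eq_one hp.ne_zero (show c ^ p = 1 from hroot 0)]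
    simp
  have hnt : χ.1 ≠ fun _ => 1 := fun h => by
    rw [h] at hn; norm_num at hn
  have h1 := eq_one_of_central hG (CharInt.mem_center_of_norm_eq χ.2 hnt hnorm)
  have := orderOf_dvd_of_pow_eq_one h1
  rw [hgo] at this
  exact hp5 (by
    rcases (Nat.dvd_prime (Fact.out : Nat.Prime 5)).1 (dvd_of_mul_right_dvd this) with h | h
    · exact absurd h hp.ne_one
    · exact h)

end Cfsg.Agent.Order95040
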